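import Cfsg.Agent.ReeTypeS3.Subgroups
import Mathlib

/-!
# The cycling element cannot centralise the odd part of the torus

If it did, the centraliser `X` of an element of prime order of the torus would have order
`(q + 1) / 4` times `12` or `60`.
-/

set_option autoImplicit false
set_option linter.unusedSectionVars false
set_option linter.style.haveILetI false

namespace CfsgLib.ReeTypeS3

open Matrix
open scoped MatrixGroups

universe u v

variable {G : Type u} [Group G] [Fintype G] {F : Type v} [Field F] [Fintype F]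

local notation "PST" => Matrix.ProjectiveSpecialLinearGroup (Fin 2) F

/-- The conjugates under a subgroup and the centraliser in it. -/
theorem card_conj_mul (H : Subgroup G) (x : G) :
    Nat.card {y : G // ∃ h ∈ H, h * x * h⁻¹ = y} *
      Nat.card (H ⊓ Subgroup.centralizer ({x} : Set G) : Subgroup G) = Nat.card H := by
  letI : MulAction H G := MulAction.compHom G ((MulAut.conj).comp H.subtype)
  have hsmul : ∀ (h : H) (y : G), h • y = (h : G) * y * (h : G)⁻¹ := fun _ _ => rfl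
  have e1 : {y : G // ∃ h ∈ H, h * x * h⁻¹ = y} ≃ MulAction.orbit H x :=
    Equiv.subtypeEquivRight fun y => ⟨fun ⟨h, hh, e⟩ => ⟨⟨h, hh⟩, e⟩, fun ⟨⟨h, hh⟩, e⟩ => ⟨h, hh, e⟩⟩
  have e2 : MulAction.stabilizer H x ≃ (H ⊓ Subgroup.centralizer ({x} : Set G) : Subgroup G) :=
    { toFun := fun h => ⟨h.1.1, h.1.2, Subgroup.mem_centralizer_singleton_iff.2
        (mul_inv_eq_iff_eq_mul.1 ((hsmul h.1 x).symm.trans h.2))⟩
      invFun := fun g => ⟨⟨g.1, g.2.1⟩, (hsmul _ x).trans
        (mul_inv_eq_iff_eq_mul.2 (Subgroup.mem_centralizer_singleton_iff.1 g.2.2))⟩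
      left_inv := fun _ => rfl
      right_inv := fun _ => rfl }
  rw [Nat.card_congr e1, ← Nat.card_congr e2, Nat.card_congr (MulAction.orbitEquivQuotientStabilizer H x),
    mul_comm, ← Subgroup.index_eq_card, Subgroup.card_mul_index]

variable {E : Emb G (Matrix.ProjectiveSpecialLinearGroup (Fin 2) F)} (hyp : Hyp E) (c : Cyc E)

namespace Cyc

/-- Membership in the four-group. -/
def IsFour (x : G) : Prop := x = 1 ∨ x = E.t ∨ x = c.t₁ ∨ x = E.t * c.t₁

theorem four_of {x : G} {u : PST} (hx : x = E.ι u ∨ x = E.t * E.ι u) (hu : u = 1 ∨ u = c.i) :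
    c.IsFour x := by
  rcases c.ht₁ with h | h <;> rcases hx with rfl | rfl <;> rcases hu with rfl | rfl
  · left; exact map_one _
  · right; right; left; exact h.symm
  · right; left; rw [map_one, mul_one]
  · right; right; right; rw [h]
  · left; exact map_one _
  · right; right; right; rw [h, ← mul_assoc, E.sq, one_mul]
  · right; left; rw [map_one, mul_one]
  · right; right; left; exact h.symm

theorem four_exists {x : G} (hx : c.IsFour x) :
    ∃ u : PST, (u = 1 ∨ u = c.i) ∧ (x = E.ι u ∨ x = E.t * E.ι u) := by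
  rcases hx with rfl | rfl | rfl | rfl
  · exact ⟨1, Or.inl rfl, Or.inl (map_one _).symm⟩
  · exact ⟨1, Or.inl rfl, Or.inr (by rw [map_one, mul_one])⟩
  · exact ⟨c.i, Or.inr rfl, c.ht₁⟩
  · refine ⟨c.i, Or.inr rfl, ?_⟩
    rcases c.ht₁ with h | h
    · exact Or.inr (by rw [h])
    · exact Or.inl (by rw [h, ← mul_assoc, E.sq, one_mul])

theorem four_sq {x : G} (hx : c.IsFour x) : x * x = 1 := by
  rcases hx with rfl | rfl | rfl | rfl
  · exact one_mul 1
  · exact E.sq
  · exact c.t₁_sq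
  · rw [show E.t * c.t₁ * (E.t * c.t₁) = E.t * (c.t₁ * E.t) * c.t₁ by group, c.t₁_comm,
      ← mul_assoc E.t E.t, E.sq, one_mul, c.t₁_sq]

theorem four_inv {x : G} (hx : c.IsFour x) : x⁻¹ = x :=
  inv_eq_of_mul_eq_one_right (c.four_sq hx)

theorem four_mul {x y : G} (hx : c.IsFour x) (hy : c.IsFour y) : c.IsFour (x * y) := by
  obtain ⟨a, ha, hxa⟩ := c.four_exists hx
  obtain ⟨b, hb, hyb⟩ := c.four_exists hy
  refine c.four_of (u := a * b) ?_ ?_
  · rcases hxa with rfl | rfl <;> rcases hyb with rfl | rfl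
    · exact Or.inl (map_mul _ _ _).symm
    · right; rw [map_mul, ← mul_assoc (E.ι a), ← E.comm a, mul_assoc]
    · right; rw [map_mul, mul_assoc]
    · left
      rw [map_mul, ← mul_assoc, mul_assoc E.t (E.ι a), ← E.comm a, ← mul_assoc, E.sq, one_mul]
  · rcases ha with rfl | rfl <;> rcases hb with rfl | rfl
    · exact Or.inl (one_mul 1)
    · exact Or.inr (one_mul _)
    · exact Or.inr (mul_one _)
    · exact Or.inl c.ii

/-- The four-group. -/
def fourG : Subgroup G where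
  carrier := {x | c.IsFour x}
  one_mem' := Or.inl rfl
  mul_mem' := c.four_mul
  inv_mem' {x} hx := by
    show c.IsFour x⁻¹
    rw [c.four_inv hx]; exact hx

theorem t₁_ne_one : c.t₁ ≠ 1 := fun h => by
  rw [← c.hv, conj_eq_one_iff] at h
  exact E.t_ne_one h

theorem t₁_ne_t : c.t₁ ≠ E.t := fun h => by
  rcases c.ht₁ with e | e <;> rw [h] at e
  · exact E.notMem c.i e.symm
  · exact c.i1 (E.inj (by rw [map_one]; exact (left_eq_mul.1 e)))

theorem natCard_fourG : Nat.card c.fourG = 4 := by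
  classical
  have h1 : E.t * c.t₁ ≠ 1 := fun h => c.t₁_ne_t (by
    rw [mul_eq_one_iff_inv_eq, E.t_inv] at h; exact h.symm)
  have h2 : E.t * c.t₁ ≠ E.t := fun h => c.t₁_ne_one (mul_eq_left.1 h)
  have h3 : E.t * c.t₁ ≠ c.t₁ := fun h => E.t_ne_one (mul_eq_right.1 h)
  have e : (c.fourG : Set G) = ↑({1, E.t, c.t₁, E.t * c.t₁} : Finset G) := by
    ext x
    simp [fourG, IsFour]
  show Nat.card (c.fourG : Set G) = 4
  rw [Nat.card_coe_set_eq, e, Set.ncard_coe_finset,
    Finset.card_insert_of_notMem (by simp [E.t_ne_one.symm, c.t₁_ne_one.symm, h1.symm]),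
    Finset.card_insert_of_notMem (by simp [c.t₁_ne_t.symm, h2.symm]),
    Finset.card_insert_of_notMem (by simp [h3.symm]), Finset.card_singleton]

theorem four_comm_t {x : G} (hx : c.IsFour x) : x * E.t = E.t * x := by
  obtain ⟨u, -, h⟩ := c.four_exists hx
  exact E.mem_cent h

theorem four_comm_t₁ {x : G} (hx : c.IsFour x) : x * c.t₁ = c.t₁ * x := by
  obtain ⟨u, hu, h⟩ := c.four_exists hx
  refine (c.commute_t₁_iff h).2 ?_
  rcases hu with rfl | rfl
  · exact one_mem _
  · exact tor_le_torN c.g c.mem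

theorem four_comm_Cr {x : G} (hx : c.IsFour x) {a : PST} (ha : a ∈ c.Cr) :
    x * E.ι a = E.ι a * x := by
  obtain ⟨u, hu, h⟩ := c.four_exists hx
  rw [← mul_inv_eq_iff_eq_mul, E.conj_ι h]
  refine congrArg E.ι ?_
  rcases hu with rfl | rfl
  · simp
  · rw [tor_comm c.htr c.mem ha.1, mul_inv_cancel_right]

theorem tor_sq {u : PST} (hu : u ∈ tor c.g) (h : u * u = 1) : u = 1 ∨ u = c.i := by
  classical
  by_contra hh
  push Not at hh
  haveI := isCyclic_tor c.htr
  haveI : Fintype (tor c.g) := Fintype.ofFinite _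
  have h3 : ({1, (⟨c.i, c.mem⟩ : tor c.g), ⟨u, hu⟩} : Finset (tor c.g)) ⊆
      Finset.univ.filter fun x => x ^ 2 = 1 := by
    intro x hx
    simp only [Finset.mem_insert, Finset.mem_singleton] at hx
    simp only [Finset.mem_filter, Finset.mem_univ, true_and]
    rcases hx with rfl | rfl | rfl
    · exact one_pow 2
    · exact Subtype.ext ((pow_two _).trans c.ii)
    · exact Subtype.ext ((pow_two _).trans h)
  have hle := (Finset.card_le_card h3).trans (IsCyclic.card_pow_eq_one_le two_pos)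
  rw [Finset.card_insert_of_notMem (by
      simp only [Finset.mem_insert, Finset.mem_singleton, not_or]
      exact ⟨fun e => c.i1 (congrArg Subtype.val e).symm, fun e => hh.1 (congrArg Subtype.val e).symm⟩),
    Finset.card_insert_of_notMem (by
      simp only [Finset.mem_singleton]
      exact fun e => hh.2 (congrArg Subtype.val e).symm), Finset.card_singleton] at hle
  omega

include hyp

theorem tor_split {u : PST} (hu : u ∈ tor c.g) :
    ∃ a ∈ c.Cr, ∃ w : PST, (w = 1 ∨ w = c.i) ∧ u = w * a := by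
  have hpow : u ^ (2 * rOf F) = 1 := by
    have h1 : (⟨u, hu⟩ : tor c.g) ^ Nat.card (tor c.g) = 1 := pow_card_eq_one'
    rw [natCard_tor hyp c] at h1
    exact congrArg Subtype.val h1
  have hw : u ^ rOf F = 1 ∨ u ^ rOf F = c.i :=
    c.tor_sq (pow_mem hu _) (by rw [← pow_add, ← two_mul, hpow])
  refine ⟨(u ^ rOf F)⁻¹ * u, ⟨mul_mem (inv_mem (pow_mem hu _)) hu, ?_⟩, u ^ rOf F, hw,
    (mul_inv_cancel_left _ _).symm⟩
  have hc : Commute (u ^ rOf F)⁻¹ u := (Commute.pow_self u _).inv_left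
  rw [hc.mul_pow, inv_pow]
  have h2 : (u ^ rOf F) * (u ^ rOf F) = 1 := by rw [← pow_add, ← two_mul, hpow]
  obtain ⟨j, hj⟩ := (rOf_facts hyp).2.1
  have : (u ^ rOf F) ^ rOf F = u ^ rOf F := by
    nth_rewrite 2 [hj]
    rw [pow_succ, pow_mul, pow_two, h2, one_pow, one_mul]
  rw [this, inv_mul_cancel]

theorem four_mul_Cr_inj {e e' : G} (he : c.IsFour e) (he' : c.IsFour e') {a a' : PST}
    (ha : a ∈ c.Cr) (ha' : a' ∈ c.Cr) (h : e * E.ι a = e' * E.ι a') : e = e' ∧ a = a' := by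
  have h1 : E.ι (a' * a⁻¹) = e' * e := by
    have h2 : E.ι a' = e' * (e * E.ι a) := by rw [h, ← mul_assoc, c.four_sq he', one_mul]
    rw [map_mul, map_inv, h2, ← mul_assoc, mul_inv_cancel_right]
  have h3 : a' * a⁻¹ * (a' * a⁻¹) = 1 := E.inj (by
    rw [map_mul, h1, c.four_sq (c.four_mul he' he), map_one])
  have h4 : (a' * a⁻¹) ^ rOf F = 1 := (mul_mem ha' (inv_mem ha) : a' * a⁻¹ ∈ c.Cr).2
  obtain ⟨j, hj⟩ := (rOf_facts hyp).2.1
  rw [hj, pow_succ, pow_mul, pow_two, h3, one_pow, one_mul] at h4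
  have hae : a = a' := (mul_inv_eq_one.1 h4).symm
  subst hae
  exact ⟨mul_right_cancel h, rfl⟩

/-- The elements inverting `C_r` in the centraliser of the four-group. -/
theorem exists_d (hfix : ∀ a ∈ c.Cr, c.v * E.ι a * c.v⁻¹ = E.ι a) :
    ∃ d : G, d * d = 1 ∧ d * E.t = E.t * d ∧ d * c.t₁ = c.t₁ * d ∧
      (∀ a ∈ c.Cr, d * E.ι a * d⁻¹ = E.ι a⁻¹) ∧ c.v * d * c.v⁻¹ = d := by
  classical
  haveI : Fact (Nat.Prime 3) := ⟨Nat.prime_three⟩
  obtain ⟨h4r, hrodd, hr7, hr3⟩ := rOf_facts hyp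
  obtain ⟨w, hwN, hwT, hww⟩ := exists_inverting_tor c.htr (two_ne hyp)
  let S := {x : G // x * E.t = E.t * x ∧ x * c.t₁ = c.t₁ * x ∧
    ∀ a ∈ c.Cr, x * E.ι a * x⁻¹ = E.ι a⁻¹}
  let M := {l : PST // l ∈ torN c.g ∧ l ∉ tor c.g}
  have hinv : ∀ l : M, ∀ a ∈ c.Cr, l.1 * a * l.1⁻¹ = a⁻¹ := fun l a ha =>
    (torN_cases c.htr l.2.1).resolve_left l.2.2 a ha.1
  have hmul : ∀ (b : Bool) (l : PST), ((if b then E.t else 1) * E.ι l = E.ι l ∨
      (if b then E.t else 1) * E.ι l = E.t * E.ι l) := fun b l => by cases b <;> simp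
  let φ : Bool × M → S := fun p => ⟨(if p.1 then E.t else 1) * E.ι p.2.1, E.mem_cent (hmul _ _),
    (c.commute_t₁_iff (hmul _ _)).2 p.2.2.1, fun a ha => by
      rw [E.conj_ι (hmul _ _), hinv p.2 a ha]⟩
  have hφ : Function.Bijective φ := by
    constructor
    · rintro ⟨b, l⟩ ⟨b', l'⟩ h
      have h' : (if b then E.t else 1) * E.ι l.1 = (if b' then E.t else 1) * E.ι l'.1 :=
        congrArg Subtype.val h
      cases b <;> cases b' <;> simp at h'
      · rw [Subtype.ext (E.inj h')]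
      · exact absurd h' E.ι_eq_t_mul_iff
      · exact absurd h'.symm E.ι_eq_t_mul_iff
      · rw [Subtype.ext (E.inj h')]
    · rintro ⟨x, hxt, hx1, hxinv⟩
      obtain ⟨l, hl⟩ := E.cent x hxt
      have hlN := (c.commute_t₁_iff hl).1 hx1
      have hlT : l ∉ tor c.g := by
        intro hlT
        haveI := c.isCyclic_Cr hyp
        obtain ⟨⟨a, ha⟩, hgen⟩ := IsCyclic.exists_generator (α := c.Cr)
        have h1 := hxinv a ha
        rw [E.conj_ι hl, tor_comm c.htr hlT ha.1, mul_inv_cancel_right] at h1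
        have h2 : a * a = 1 := by
          conv_lhs => arg 1; rw [E.inj h1]
          exact inv_mul_cancel a
        have h3 : a = 1 := by
          have h3 : a ^ rOf F = 1 := ha.2
          obtain ⟨j, hj⟩ := hrodd
          rwa [hj, pow_succ, pow_mul, pow_two, h2, one_pow, one_mul] at h3
        have hc := orderOf_eq_card_of_forall_mem_zpowers hgen
        rw [c.natCard_Cr hyp, show (⟨a, ha⟩ : c.Cr) = 1 from Subtype.ext h3, orderOf_one] at hc
        omega
      rcases hl with rfl | rfl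
      · exact ⟨⟨false, l, hlN, hlT⟩, Subtype.ext (by simp [φ])⟩
      · exact ⟨⟨true, l, hlN, hlT⟩, Subtype.ext (by simp [φ])⟩
  have hM : Nat.card M = 2 * rOf F := by
    have h : Nat.card M = ((torN c.g : Set PST) \ (tor c.g : Set PST)).ncard :=
      Nat.card_coe_set_eq ((torN c.g : Set PST) \ (tor c.g : Set PST))
    rw [h, Set.ncard_sdiff (tor_le_torN c.g)]
    rw [← Nat.card_coe_set_eq, ← Nat.card_coe_set_eq]
    show Nat.card (torN c.g) - Nat.card (tor c.g) = _
    rw [c.natCard_torN hyp, c.natCard_tor hyp]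
    omega
  have hS : Nat.card S = 4 * rOf F := by
    rw [← Nat.card_eq_of_bijective φ hφ, Nat.card_prod, hM]
    simp
    ring
  have hpres : ∀ (k : Subgroup.zpowers c.v) (x : S),
      ((k : G) * x.1 * (k : G)⁻¹) * E.t = E.t * ((k : G) * x.1 * (k : G)⁻¹) ∧
      ((k : G) * x.1 * (k : G)⁻¹) * c.t₁ = c.t₁ * ((k : G) * x.1 * (k : G)⁻¹) ∧
      ∀ a ∈ c.Cr, ((k : G) * x.1 * (k : G)⁻¹) * E.ι a * ((k : G) * x.1 * (k : G)⁻¹)⁻¹ = E.ι a⁻¹ := by
    rintro ⟨k, hk⟩ x
    obtain ⟨n, rfl⟩ : ∃ n : ℕ, c.v ^ n = k := by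
      rw [← mem_powers_iff_mem_zpowers] at hk
      exact hk
    induction n generalizing x with
    | zero => simpa using x.2
    | succ n ih =>
      obtain ⟨h1, h2, h3⟩ := ih x (Subgroup.npow_mem_zpowers c.v n)
      have e : c.v ^ (n + 1) * x.1 * (c.v ^ (n + 1))⁻¹ =
          c.v * (c.v ^ n * x.1 * (c.v ^ n)⁻¹) * c.v⁻¹ := by rw [pow_succ']; group
      simp only at h1 h2 h3 ⊢
      rw [e]
      obtain ⟨g1, g2⟩ := c.conj_cent h1 h2
      refine ⟨g1, g2, fun a ha => ?_⟩
      calc c.v * (c.v ^ n * x.1 * (c.v ^ n)⁻¹) * c.v⁻¹ * E.ι a *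
            (c.v * (c.v ^ n * x.1 * (c.v ^ n)⁻¹) * c.v⁻¹)⁻¹
          = c.v * ((c.v ^ n * x.1 * (c.v ^ n)⁻¹) * (c.v⁻¹ * E.ι a * c.v) *
              (c.v ^ n * x.1 * (c.v ^ n)⁻¹)⁻¹) * c.v⁻¹ := by group
        _ = E.ι a⁻¹ := by
          have : c.v⁻¹ * E.ι a * c.v = E.ι a := by
            conv_lhs => rw [← hfix a ha]
            group
          rw [this, h3 a ha, hfix _ (inv_mem ha)]
  letI : MulAction (Subgroup.zpowers c.v) S :=
    { smul := fun k x => ⟨(k : G) * x.1 * (k : G)⁻¹, hpres k x⟩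
      one_smul := fun x => Subtype.ext (by
        show ((1 : Subgroup.zpowers c.v) : G) * x.1 * _ = x.1
        simp)
      mul_smul := fun k k' x => Subtype.ext (by
        show ((k * k' : Subgroup.zpowers c.v) : G) * x.1 * ((k * k' : Subgroup.zpowers c.v) : G)⁻¹ =
          (k : G) * ((k' : G) * x.1 * (k' : G)⁻¹) * (k : G)⁻¹
        simp [mul_assoc]) }
  have hp : IsPGroup 3 (Subgroup.zpowers c.v) := IsPGroup.of_card (n := 1) (by
    rw [Nat.card_zpowers, pow_one, orderOf_eq_prime c.v3 c.v1])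
  obtain ⟨⟨d, hd⟩, hdfix⟩ := hp.nonempty_fixed_point_of_prime_not_dvd_card S
    (by rw [hS]; omega)
  refine ⟨d, ?_, hd.1, hd.2.1, hd.2.2, congrArg Subtype.val (hdfix ⟨c.v, Subgroup.mem_zpowers _⟩)⟩
  obtain ⟨l, hl⟩ := E.cent d hd.1
  have hlN := (c.commute_t₁_iff hl).1 hd.2.1
  obtain ⟨⟨b, l', hl'⟩, he⟩ := hφ.2 ⟨d, hd⟩
  have he' : d = (if b then E.t else 1) * E.ι l' := (congrArg Subtype.val he).symm
  have hll : l' * l' = 1 := by
    have hu : l' * w ∈ tor c.g := by
      have := (Subgroup.mul_mem_iff_of_index_two (index_tor hyp c)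
        (a := (⟨l', hl'.1⟩ : torN c.g)) (b := ⟨w, hwN⟩)).2
        (iff_of_false (fun h => hl'.2 (Subgroup.mem_subgroupOf.1 h))
          (fun h => hwT (Subgroup.mem_subgroupOf.1 h)))
      exact Subgroup.mem_subgroupOf.1 this
    have h := (torN_cases c.htr hwN).resolve_left hwT _ hu
    rw [_root_.mul_inv_rev, inv_eq_of_mul_eq_one_right hww,
      show w * (l' * w) * w = w * l' * (w * w) by group, hww, mul_one] at h
    exact eq_inv_iff_mul_eq_one.1 (mul_left_cancel h)
  rw [he']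
  cases b
  · simp only [Bool.false_eq_true, if_false, one_mul, ← map_mul, hll, map_one]
  · simp only [if_true]
    rw [show E.t * E.ι l' * (E.t * E.ι l') = E.t * (E.ι l' * E.t) * E.ι l' by group, ← E.comm,
      ← mul_assoc, E.sq, one_mul, ← map_mul, hll, map_one]

end Cyc

end CfsgLib.ReeTypeS3
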