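import Cfsg.Agent.Characters.Orthogonality
import Cfsg.Agent.Characters.RepBasic
import Mathlib

/-!
# Signed multiplicities on the section of an involution

For an involution `t` with centraliser `⟨t⟩ × L` and a linear character `α` of a subgroup `H` of odd
order of `L`, the numbers `|H|⁻¹ ∑ χ (t h) ᾱ (h)` are integers; their Gram matrix is computed inside
`L`.
-/

set_option autoImplicit false
set_option linter.unusedSectionVars false
set_option linter.style.haveILetI false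

namespace CfsgLib.ReeTypeS3

open scoped ComplexConjugate

universe u v

/-- An involution with centraliser `⟨t⟩ × L`. -/
structure Emb (G : Type u) (L : Type v) [Group G] [Group L] where
  /-- The involution. -/
  t : G
  /-- The second factor. -/
  ι : L →* G
  inj : Function.Injective ι
  sq : t * t = 1
  comm : ∀ l, t * ι l = ι l * t
  notMem : ∀ l, ι l ≠ t
  cent : ∀ x : G, x * t = t * x → ∃ l, x = ι l ∨ x = t * ι l

section Mult

variable {G : Type u} [Group G] [Fintype G] {H : Type v} [Group H] [Fintype H]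

/-- The average of a character along a homomorphism, twisted by a linear character and translated. -/
noncomputable def avg (χ : G → ℂ) (f : H →* G) (α : H →* ℂˣ) (e : G) : ℂ :=
  (Fintype.card H : ℂ)⁻¹ * ∑ h : H, χ (e * f h) * (((α h)⁻¹ : ℂˣ) : ℂ)

theorem conj_val_hom (α : H →* ℂˣ) (h : H) :
    conj ((α h : ℂˣ) : ℂ) = (((α h)⁻¹ : ℂˣ) : ℂ) := by
  have hn : ‖((α h : ℂˣ) : ℂ)‖ = 1 := by
    refine Complex.norm_eq_one_of_pow_eq_one (n := orderOf h) ?_ (orderOf_pos h).ne'
    rw [← Units.val_pow_eq_pow_val, ← map_pow, pow_orderOf_eq_one, map_one, Units.val_one]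
  rw [Units.val_inv_eq_inv_val, Complex.inv_eq_conj hn]

/-- The averages are integers congruent to a multiplicity. -/
theorem avg_int_parity {χ : G → ℂ} (hχ : Cfsg.IsCharacter G χ) (f : H →* G) (α : H →* ℂˣ) :
    ∃ n : ℕ, ∀ e : G, e * e = 1 → (∀ h, e * f h = f h * e) →
      ∃ z : ℤ, avg χ f α e = z ∧ (2 : ℤ) ∣ z - n := by
  obtain ⟨d, ρ, rfl⟩ := hχ
  set E0 : Module.End ℂ (Fin d → ℂ) :=
    (Fintype.card H : ℂ)⁻¹ • ∑ h : H, (((α h)⁻¹ : ℂˣ) : ℂ) • ρ (f h) with hE0
  have hcard : (Fintype.card H : ℂ) ≠ 0 := Nat.cast_ne_zero.2 Fintype.card_ne_zero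
  have hmul : ∀ k : H, ((((α k)⁻¹ : ℂˣ) : ℂ) • ρ (f k)) * E0 = E0 := by
    intro k
    simp only [hE0, mul_smul_comm, Finset.mul_sum]
    congr 1
    refine Fintype.sum_bijective (k * ·) (Group.mulLeft_bijective k) _ _ fun h => ?_
    show _ = (((α (k * h))⁻¹ : ℂˣ) : ℂ) • ρ (f (k * h))
    rw [map_mul α, mul_inv, Units.val_mul, map_mul f, map_mul ρ, smul_mul_assoc, smul_smul,
      mul_comm ((((α h)⁻¹ : ℂˣ)) : ℂ)]
  have hidem : E0 * E0 = E0 := by
    conv_lhs => arg 1; rw [hE0]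
    rw [smul_mul_assoc, Finset.sum_mul, Finset.sum_congr rfl fun k _ => hmul k, Finset.sum_const,
      Finset.card_univ, ← Nat.cast_smul_eq_nsmul ℂ, smul_smul, inv_mul_cancel₀ hcard, one_smul]
  have htr : ∀ E : Module.End ℂ (Fin d → ℂ), E * E = E →
      ∃ m : ℕ, LinearMap.trace ℂ _ E = m := fun E hE =>
    ⟨_, (LinearMap.isProj_range_iff_isIdempotentElem E |>.2 hE).trace⟩
  obtain ⟨n, hn⟩ := htr E0 hidem
  refine ⟨n, fun e he hec => ?_⟩
  have hcomm : ρ e * E0 = E0 * ρ e := by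
    simp only [hE0, mul_smul_comm, smul_mul_assoc, Finset.mul_sum, Finset.sum_mul, ← map_mul, hec]
  have hee : ρ e * ρ e = 1 := by rw [← map_mul, he, map_one]
  set Ep : Module.End ℂ (Fin d → ℂ) := (2⁻¹ : ℂ) • (E0 + ρ e * E0) with hEp
  have hpp : Ep * Ep = Ep := by
    have e1 : (ρ e * E0) * (ρ e * E0) = E0 := by
      rw [mul_assoc, ← mul_assoc E0, ← hcomm, mul_assoc, hidem, ← mul_assoc, hee, one_mul]
    have e2 : E0 * (ρ e * E0) = ρ e * E0 := by
      rw [← mul_assoc, ← hcomm, mul_assoc, hidem]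
    have e3 : (ρ e * E0) * E0 = ρ e * E0 := by rw [mul_assoc, hidem]
    rw [hEp, smul_mul_smul_comm, mul_add, add_mul, add_mul, hidem, e1, e2, e3]
    module
  obtain ⟨m, hm⟩ := htr Ep hpp
  have hav : avg ρ.character f α e = LinearMap.trace ℂ _ (ρ e * E0) := by
    simp only [avg, hE0, mul_smul_comm, Finset.mul_sum, map_smul, map_sum, smul_eq_mul, ← map_mul,
      Representation.character]
    exact Finset.sum_congr rfl fun h _ => by ring
  refine ⟨2 * m - n, ?_, ⟨m - n, by ring⟩⟩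
  rw [hEp, map_smul, map_add, hn, ← hav, smul_eq_mul] at hm
  push_cast
  linear_combination 2 * hm

end Mult

variable {G : Type u} [Group G] [Fintype G] {L : Type v} [Group L] [Fintype L] (E : Emb G L)

/-- The signed multiplicity. -/
noncomputable def P (H : Subgroup L) [Fintype H] (α : H →* ℂˣ) (χ : Cfsg.IrrCharacter G) : ℂ :=
  avg (χ : G → ℂ) (E.ι.comp H.subtype) α E.t

theorem exists_P_int (H : Subgroup L) [Fintype H] (α : H →* ℂˣ) :
    ∃ z : Cfsg.IrrCharacter G → ℤ, ∀ χ, P E H α χ = (z χ : ℂ) := by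
  have h : ∀ χ : Cfsg.IrrCharacter G, ∃ z : ℤ, P E H α χ = (z : ℂ) := fun χ => by
    obtain ⟨n, hn⟩ := avg_int_parity (Characters.isCharacter_of_isIrr χ.2) (E.ι.comp H.subtype) α
    obtain ⟨z, hz, -⟩ := hn E.t E.sq fun h => E.comm _
    exact ⟨z, hz⟩
  choose z hz using h
  exact ⟨z, hz⟩

/-- The integer signed multiplicity. -/
noncomputable def Pz (H : Subgroup L) [Fintype H] (α : H →* ℂˣ) : Cfsg.IrrCharacter G → ℤ :=
  (exists_P_int E H α).choose

theorem cast_Pz (H : Subgroup L) [Fintype H] (α : H →* ℂˣ) (χ : Cfsg.IrrCharacter G) :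
    (Pz E H α χ : ℂ) = P E H α χ := ((exists_P_int E H α).choose_spec χ).symm

theorem t_eq_pow {h : L} (hh : Odd (orderOf h)) : E.t = (E.t * E.ι h) ^ orderOf h := by
  obtain ⟨j, hj⟩ := hh
  rw [Commute.mul_pow (show Commute E.t (E.ι h) from E.comm h), ← map_pow, pow_orderOf_eq_one,
    map_one, mul_one, hj, pow_succ, pow_mul, pow_two, E.sq, one_pow, one_mul]

/-- Fusion on the section is fusion in `L`. -/
theorem natCard_conj {h k : L} (hh : Odd (orderOf h)) (hk : Odd (orderOf k)) :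
    Nat.card {x : G // x * (E.t * E.ι h) * x⁻¹ = E.t * E.ι k} =
      2 * Nat.card {l : L // l * h * l⁻¹ = k} := by
  have hconj : ∀ l : L, E.ι l * (E.t * E.ι h) * (E.ι l)⁻¹ = E.t * E.ι (l * h * l⁻¹) := fun l => by
    rw [map_mul, map_mul, map_inv, ← mul_assoc (E.ι l), ← E.comm l]
    simp only [mul_assoc]
  have htc : E.t * (E.t * E.ι h) * E.t⁻¹ = E.t * E.ι h := by
    rw [mul_inv_eq_iff_eq_mul, mul_assoc E.t (E.ι h), ← E.comm h]
  have hconj' : ∀ (b : Bool) (l : L),
      ((if b then E.t else 1) * E.ι l) * (E.t * E.ι h) * ((if b then E.t else 1) * E.ι l)⁻¹ =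
        E.t * E.ι (l * h * l⁻¹) := by
    intro b l
    cases b
    · simpa using hconj l
    · simp only [if_true]
      calc E.t * E.ι l * (E.t * E.ι h) * (E.t * E.ι l)⁻¹
          = E.t * (E.ι l * (E.t * E.ι h) * (E.ι l)⁻¹) * E.t⁻¹ := by group
        _ = E.t * E.ι (l * h * l⁻¹) := by
          rw [hconj, mul_inv_eq_iff_eq_mul, mul_assoc E.t (E.ι _), ← E.comm]
  let φ : Bool × {l : L // l * h * l⁻¹ = k} → {x : G // x * (E.t * E.ι h) * x⁻¹ = E.t * E.ι k} :=
    fun p => ⟨(if p.1 then E.t else 1) * E.ι p.2.1, by rw [hconj', p.2.2]⟩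
  rw [← Nat.card_eq_of_bijective φ ⟨?_, ?_⟩, Nat.card_prod]
  · simp
  · rintro ⟨b, l, hl⟩ ⟨b', l', hl'⟩ e
    have e' : (if b then E.t else 1) * E.ι l = (if b' then E.t else 1) * E.ι l' :=
      congrArg Subtype.val e
    have key : ∀ a c : L, E.t * E.ι a ≠ E.ι c := fun a c hac =>
      E.notMem (c * a⁻¹) (by rw [map_mul, map_inv, ← hac, mul_inv_cancel_right])
    cases b <;> cases b' <;> simp at e'
    · simp [E.inj e']
    · exact absurd e'.symm (key _ _)
    · exact absurd e' (key _ _)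
    · simp [E.inj e']
  · rintro ⟨x, hx⟩
    have hxt : x * E.t * x⁻¹ = E.t := by
      have hn : ((E.t * E.ι h) ^ (orderOf h * orderOf k) : G) = E.t ∧
          ((E.t * E.ι k) ^ (orderOf h * orderOf k) : G) = E.t := by
        constructor
        · rw [pow_mul, ← t_eq_pow E hh]
          obtain ⟨j, hj⟩ := hk
          rw [hj, pow_succ, pow_mul, pow_two, E.sq, one_pow, one_mul]
        · rw [mul_comm, pow_mul, ← t_eq_pow E hk]
          obtain ⟨j, hj⟩ := hh
          rw [hj, pow_succ, pow_mul, pow_two, E.sq, one_pow, one_mul]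
      conv_lhs => rw [← hn.1]
      rw [← conj_pow, hx, hn.2]
    obtain ⟨l, hl | hl⟩ := E.cent x (mul_inv_eq_iff_eq_mul.1 hxt)
    · refine ⟨⟨false, l, E.inj (mul_left_cancel (a := E.t) ?_)⟩, ?_⟩
      · rw [← hconj, ← hl, hx]
      · exact Subtype.ext (by simp [φ, hl])
    · refine ⟨⟨true, l, E.inj (mul_left_cancel (a := E.t) ?_)⟩, ?_⟩
      · rw [← hconj' true]
        simp only [if_true]
        rw [← hl, hx]
      · exact Subtype.ext (by simp [φ, hl])

open Classical in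
/-- The sum over `L` giving the Gram matrix. -/
noncomputable def gsum (H : Subgroup L) [Fintype H] (α : H →* ℂˣ) (K : Subgroup L) [Fintype K]
    (β : K →* ℂˣ) : ℂ :=
  ∑ l : L, ∑ h : H, ∑ k : K, if l * (h : L) * l⁻¹ = (k : L) then
    (((α h)⁻¹ : ℂˣ) : ℂ) * ((β k : ℂˣ) : ℂ) else 0

theorem odd_orderOf {H : Subgroup L} (hH : Odd (Nat.card H)) (h : H) : Odd (orderOf (h : L)) := by
  rw [Subgroup.orderOf_coe]
  exact hH.of_dvd_nat (orderOf_dvd_natCard h)

/-- The Gram matrix. -/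
theorem sum_P_mul (H : Subgroup L) [Fintype H] (α : H →* ℂˣ) (K : Subgroup L) [Fintype K]
    (β : K →* ℂˣ) (hH : Odd (Nat.card H)) (hK : Odd (Nat.card K)) :
    ∑ χ : Cfsg.IrrCharacter G, (Pz E H α χ : ℂ) * (Pz E K β χ : ℂ) =
      2 * gsum H α K β / ((Fintype.card H : ℂ) * (Fintype.card K : ℂ)) := by
  classical
  have hreal : ∀ χ, (Pz E K β χ : ℂ) = conj (P E K β χ) := fun χ => by
    rw [← cast_Pz, map_intCast]
  simp only [hreal, cast_Pz, P, avg, map_mul, map_inv₀, map_natCast, map_sum]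
  simp only [← conj_val_hom, Complex.conj_conj]
  simp only [Finset.mul_sum, Finset.sum_mul]
  rw [Finset.sum_comm]
  simp only [gsum, Finset.mul_sum, Finset.sum_div]
  rw [Finset.sum_comm_cycle]
  conv_rhs => rw [← Finset.sum_comm_cycle]
  refine Finset.sum_congr rfl fun h _ => Finset.sum_congr rfl fun k _ => ?_
  have hcard := natCard_conj E (odd_orderOf hH h) (odd_orderOf hK k)
  have hcol := Characters.sum_irr_mul_conj (E.t * E.ι (h : L)) (E.t * E.ι (k : L))
  rw [hcard] at hcol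
  have hsum : (Nat.card {l : L // l * (h : L) * l⁻¹ = (k : L)} : ℂ) =
      ∑ l : L, if l * (h : L) * l⁻¹ = (k : L) then (1 : ℂ) else 0 := by
    rw [Finset.sum_boole, Nat.card_eq_fintype_card, Fintype.card_subtype]
  push_cast at hcol
  rw [hsum] at hcol
  calc ∑ χ : Cfsg.IrrCharacter G, (Fintype.card H : ℂ)⁻¹ *
        ((χ : G → ℂ) (E.t * (E.ι.comp H.subtype) h) * conj ((α h : ℂˣ) : ℂ)) *
          ((Fintype.card K : ℂ)⁻¹ *
            (conj ((χ : G → ℂ) (E.t * (E.ι.comp K.subtype) k)) * ((β k : ℂˣ) : ℂ)))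
      = (Fintype.card H : ℂ)⁻¹ * (Fintype.card K : ℂ)⁻¹ * conj ((α h : ℂˣ) : ℂ) * ((β k : ℂˣ) : ℂ) *
          ∑ χ : Cfsg.IrrCharacter G,
            (χ : G → ℂ) (E.t * E.ι (h : L)) * conj ((χ : G → ℂ) (E.t * E.ι (k : L))) := by
        rw [Finset.mul_sum]
        refine Finset.sum_congr rfl fun χ _ => ?_
        simp only [MonoidHom.comp_apply, Subgroup.coe_subtype]
        ring
    _ = _ := by
        rw [hcol, conj_val_hom]
        simp only [Finset.mul_sum]
        refine Finset.sum_congr rfl fun l _ => ?_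
        split_ifs <;> field_simp
        exact mul_zero _

/-- Column orthogonality against an element off the section. -/
theorem sum_col_mul_Pz (H : Subgroup L) [Fintype H] (α : H →* ℂˣ) {g : G}
    (hg : ∀ h : H, ¬ IsConj g (E.t * E.ι (h : L))) :
    ∑ χ : Cfsg.IrrCharacter G, (χ : G → ℂ) g * (Pz E H α χ : ℂ) = 0 := by
  have hreal : ∀ χ, (Pz E H α χ : ℂ) = conj (P E H α χ) := fun χ => by
    rw [← cast_Pz, map_intCast]
  simp only [hreal, P, avg, map_mul, map_inv₀, map_natCast, map_sum, ← conj_val_hom, Complex.conj_conj,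
    Finset.mul_sum]
  rw [Finset.sum_comm]
  refine Finset.sum_eq_zero fun h _ => ?_
  rw [Finset.sum_congr rfl (g := fun χ : Cfsg.IrrCharacter G =>
    (Fintype.card H : ℂ)⁻¹ * ((α h : ℂˣ) : ℂ) *
      ((χ : G → ℂ) g * conj ((χ : G → ℂ) (E.t * E.ι (h : L))))) (fun χ _ => by
      simp only [MonoidHom.comp_apply, Subgroup.coe_subtype]; ring),
    ← Finset.mul_sum, Characters.sum_irr_mul_conj_of_not_isConj (hg h), mul_zero]

theorem sum_degree_mul_Pz (H : Subgroup L) [Fintype H] (α : H →* ℂˣ) :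
    ∑ χ : Cfsg.IrrCharacter G, (χ : G → ℂ) 1 * (Pz E H α χ : ℂ) = 0 := by
  refine sum_col_mul_Pz E H α fun h hc => E.notMem (h : L)⁻¹ ?_
  rw [isConj_one_right] at hc
  rw [map_inv, inv_eq_iff_mul_eq_one]
  calc E.ι (h : L) * E.t = E.t * E.ι (h : L) := (E.comm _).symm
    _ = 1 := hc

/-! ### Trivial intersection subgroups -/

/-- Outside `M` only the identity of `H` is carried into `K`. -/
theorem gsum_eq (H : Subgroup L) [Fintype H] (α : H →* ℂˣ) (K : Subgroup L) [Fintype K]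
    (β : K →* ℂˣ) (M : Finset L)
    (hout : ∀ l ∉ M, ∀ h : H, h ≠ 1 → l * (h : L) * l⁻¹ ∉ K)
    (hin : ∀ l ∈ M, ∀ h : H, l * (h : L) * l⁻¹ ∈ K) (val : L → ℂ)
    (hval : ∀ (l : L) (hl : l ∈ M),
      ∑ h : H, (((α h)⁻¹ : ℂˣ) : ℂ) * ((β ⟨l * (h : L) * l⁻¹, hin l hl h⟩ : ℂˣ) : ℂ) = val l) :
    gsum H α K β = ((Fintype.card L : ℂ) - M.card) + ∑ l ∈ M, val l := by
  classical
  have h1 : ∀ l ∉ M, (∑ h : H, ∑ k : K, if l * (h : L) * l⁻¹ = (k : L) then
      (((α h)⁻¹ : ℂˣ) : ℂ) * ((β k : ℂˣ) : ℂ) else 0) = (1 : ℂ) := by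
    intro l hl
    rw [Finset.sum_eq_single (1 : H) (fun h _ hh => Finset.sum_eq_zero fun k _ => by
        rw [if_neg]; intro e; exact hout l hl h hh (e ▸ k.2))
      (fun h => absurd (Finset.mem_univ _) h),
      Finset.sum_eq_single (1 : K) (fun k _ hk => by
        rw [if_neg]; intro e; exact hk (Subtype.ext (by rw [← e]; simp)))
      (fun h => absurd (Finset.mem_univ _) h)]
    simp
  have h2 : ∀ l ∈ M, (∑ h : H, ∑ k : K, if l * (h : L) * l⁻¹ = (k : L) then
      (((α h)⁻¹ : ℂˣ) : ℂ) * ((β k : ℂˣ) : ℂ) else 0) = val l := by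
    intro l hl
    rw [← hval l hl]
    refine Finset.sum_congr rfl fun h _ => ?_
    rw [Finset.sum_eq_single (⟨_, hin l hl h⟩ : K) (fun k _ hk => by
        rw [if_neg]; intro e; exact hk (Subtype.ext e.symm))
      (fun h' => absurd (Finset.mem_univ _) h'), if_pos rfl]
  rw [gsum, ← Finset.sum_sdiff (Finset.subset_univ M), Finset.sum_congr rfl h2,
    Finset.sum_congr rfl (fun l hl => h1 l (Finset.mem_sdiff.1 hl).2), Finset.sum_const,
    nsmul_eq_mul, mul_one, Finset.card_sdiff_of_subset (Finset.subset_univ M), Finset.card_univ,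
    Nat.cast_sub (Finset.card_le_univ M)]

/-- Subgroups of coprime order. -/
theorem gsum_coprime (H : Subgroup L) [Fintype H] (α : H →* ℂˣ) (K : Subgroup L) [Fintype K]
    (β : K →* ℂˣ) (h : Nat.Coprime (Nat.card H) (Nat.card K)) :
    gsum H α K β = (Fintype.card L : ℂ) := by
  rw [gsum_eq H α K β ∅ (fun l _ x hx hmem => hx ?_) (fun l hl => absurd hl (Finset.notMem_empty l))
    (fun _ => 0) (fun l hl => absurd hl (Finset.notMem_empty l))]
  · simp
  · have h1 : orderOf x ∣ Nat.card K := by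
      rw [← Subgroup.orderOf_coe, show orderOf (x : L) = orderOf (l * (x : L) * l⁻¹) from
        ((MulAut.conj l).orderOf_eq (x : L)).symm, ← Subgroup.orderOf_mk _ hmem]
      exact orderOf_dvd_natCard _
    exact orderOf_eq_one_iff.1 (Nat.eq_one_of_dvd_coprimes h (orderOf_dvd_natCard x) h1)

open Classical in
theorem sum_hom (H : Subgroup L) [Fintype H] (γ : H →* ℂˣ) :
    ∑ h : H, ((γ h : ℂˣ) : ℂ) = if γ = 1 then (Fintype.card H : ℂ) else 0 := by
  split_ifs with h
  · simp [h]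
  · exact sum_hom_units_eq_zero ((Units.coeHom ℂ).comp γ) fun hc => h (MonoidHom.ext fun x =>
      Units.ext (by simpa using DFunLike.congr_fun hc x))

open Classical in
/-- A cyclic trivial intersection subgroup with normaliser `A ∪ A w`, `A` commuting with it and `w`
inverting it. -/
theorem gsum_torus (H : Subgroup L) [Fintype H] (α β : H →* ℂˣ) (M A : Finset L) (hAM : A ⊆ M)
    (hA : ∀ l ∈ A, ∀ h : H, l * (h : L) * l⁻¹ = h)
    (hw : ∀ l ∈ M, l ∉ A → ∀ h : H, l * (h : L) * l⁻¹ = (h : L)⁻¹)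
    (hout : ∀ l ∉ M, ∀ h : H, h ≠ 1 → l * (h : L) * l⁻¹ ∉ H) (hM : M.card = 2 * A.card) :
    gsum H α H β = ((Fintype.card L : ℂ) - 2 * A.card) +
      (Fintype.card H : ℂ) * A.card * ((if α = β then 1 else 0) + (if α = β⁻¹ then 1 else 0)) := by
  have hin : ∀ l ∈ M, ∀ h : H, l * (h : L) * l⁻¹ ∈ H := fun l hl h => by
    by_cases hla : l ∈ A
    · rw [hA l hla h]; exact h.2
    · rw [hw l hl hla h]; exact inv_mem h.2
  rw [gsum_eq H α H β M hout hin (fun l => (Fintype.card H : ℂ) *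
    if l ∈ A then (if α = β then 1 else 0) else (if α = β⁻¹ then 1 else 0)) fun l hl => ?_]
  · rw [← Finset.sum_sdiff hAM, Finset.sum_congr rfl (fun l hl => by
        rw [if_neg (Finset.mem_sdiff.1 hl).2]),
      Finset.sum_congr rfl (fun l (hl : l ∈ A) => by rw [if_pos hl]), Finset.sum_const,
      Finset.sum_const, Finset.card_sdiff_of_subset hAM, hM,
      show 2 * A.card - A.card = A.card by omega]
    simp only [nsmul_eq_mul]
    push_cast
    ring
  · have key : ∀ γ : H →* ℂˣ, (∀ h : H, β ⟨l * (h : L) * l⁻¹, hin l hl h⟩ = γ h) →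
        ∑ h : H, (((α h)⁻¹ : ℂˣ) : ℂ) * ((β ⟨l * (h : L) * l⁻¹, hin l hl h⟩ : ℂˣ) : ℂ) =
          (Fintype.card H : ℂ) * if α = γ then 1 else 0 := by
      intro γ hγ
      rw [Finset.sum_congr rfl (g := fun h => (((α⁻¹ * γ) h : ℂˣ) : ℂ)) (fun h _ => by
        rw [hγ, MonoidHom.mul_apply, MonoidHom.inv_apply, Units.val_mul]), sum_hom]
      by_cases e : α = γ
      · rw [if_pos e, if_pos (MonoidHom.ext fun x => by simp [e]), mul_one]
      · rw [if_neg e, if_neg (fun e' => e (inv_mul_eq_one.1 e')), mul_zero]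
    by_cases hla : l ∈ A
    · rw [if_pos hla]
      exact key β fun h => congrArg β (Subtype.ext (hA l hla h))
    · rw [if_neg hla]
      refine key β⁻¹ fun h => ?_
      rw [MonoidHom.inv_apply, ← map_inv]
      exact congrArg β (Subtype.ext (hw l hl hla h))

end CfsgLib.ReeTypeS3
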