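import Cfsg.Agent.ReeTypeS3.PSLFacts
import Cfsg.Agent.ReeTypeS3.Signed
import Cfsg.Agent.ReeG2Sylow.Normalizer
import Cfsg.Agent.Linear.SL2Sylow
import Cfsg.Agent.Linear.SylowChar
import Cfsg.Agent.FgsSix.InvolutionAction
import Mathlib

/-!
# Local structure of a group with an involution centraliser `⟨t⟩ × PSL₂(3^k)`

No involution inverts an element of order three, by hypothesis.
-/

set_option autoImplicit false
set_option linter.unusedSectionVars false
set_option linter.style.haveILetI false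

namespace CfsgLib.ReeTypeS3

open Matrix
open scoped MatrixGroups

universe u v

variable {G : Type u} [Group G] [Fintype G] {F : Type v} [Field F] [Fintype F]

local notation "PST" => Matrix.ProjectiveSpecialLinearGroup (Fin 2) F
local notation "Z₂" => Multiplicative (ZMod 2)

/-- The standing hypotheses. -/
structure Hyp (E : Emb G (Matrix.ProjectiveSpecialLinearGroup (Fin 2) F)) : Prop where
  perf : commutator G = ⊤
  three : ∃ k, 1 < k ∧ Fintype.card F = 3 ^ k
  mod8 : Fintype.card F % 8 = 3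
  odd_index : Odd (Subgroup.centralizer ({E.t} : Set G)).index
  free : ∀ s y : G, s * s = 1 → y ^ 3 = 1 → s * y * s⁻¹ = y⁻¹ → y = 1

namespace Emb

variable {L : Type v} [Group L] (E : Emb G L)

theorem t_ne_one : E.t ≠ 1 := fun h => E.notMem 1 (by rw [map_one, h])

theorem orderOf_t : orderOf E.t = 2 :=
  orderOf_eq_prime ((pow_two E.t).trans E.sq) E.t_ne_one

theorem t_inv : E.t⁻¹ = E.t := inv_eq_of_mul_eq_one_right E.sq

theorem ι_eq_t_mul_iff {a b : L} : E.ι a ≠ E.t * E.ι b := fun h =>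
  E.notMem (a * b⁻¹) (by rw [map_mul, map_inv, h, mul_inv_cancel_right])

/-- Conjugation by a centralising element. -/
theorem conj_ι {x : G} {l : L} (hx : x = E.ι l ∨ x = E.t * E.ι l) (m : L) :
    x * E.ι m * x⁻¹ = E.ι (l * m * l⁻¹) := by
  rcases hx with rfl | rfl
  · rw [map_mul, map_mul, map_inv]
  · calc E.t * E.ι l * E.ι m * (E.t * E.ι l)⁻¹
        = E.t * (E.ι l * E.ι m * (E.ι l)⁻¹) * E.t⁻¹ := by group
      _ = _ := by rw [map_mul, map_mul, map_inv, ← map_inv, ← map_mul, ← map_mul, E.comm,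
                    mul_inv_cancel_right]

theorem mem_cent {x : G} {l : L} (hx : x = E.ι l ∨ x = E.t * E.ι l) : x * E.t = E.t * x := by
  rcases hx with rfl | rfl
  · exact (E.comm l).symm
  · rw [mul_assoc, ← E.comm l]

/-- The centraliser as a product. -/
noncomputable def prodHom : Z₂ × L →* G where
  toFun p := (if p.1 = 1 then 1 else E.t) * E.ι p.2
  map_one' := by simp
  map_mul' := by
    rintro ⟨a, l⟩ ⟨b, m⟩
    have key : ∀ c : Z₂, c = 1 ∨ c = Multiplicative.ofAdd 1 := by decide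
    have hne : Multiplicative.ofAdd (1 : ZMod 2) ≠ 1 := by decide
    have hsq : Multiplicative.ofAdd (1 : ZMod 2) * Multiplicative.ofAdd 1 = 1 := by decide
    simp only [Prod.mk_mul_mk, map_mul]
    rcases key a with rfl | rfl <;> rcases key b with rfl | rfl
    · simp
    · simp only [one_mul, if_true, if_neg hne]
      rw [← mul_assoc, ← mul_assoc, E.comm l]
    · simp [hne, mul_assoc]
    · simp only [hsq, if_true, one_mul, if_neg hne]
      calc E.ι l * E.ι m = (E.t * E.t) * E.ι l * E.ι m := by rw [E.sq, one_mul]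
        _ = E.t * (E.t * E.ι l) * E.ι m := by group
        _ = E.t * (E.ι l * E.t) * E.ι m := by rw [E.comm]
        _ = _ := by group

theorem prodHom_injective : Function.Injective E.prodHom := by
  rw [injective_iff_map_eq_one]
  rintro ⟨a, l⟩ h
  by_cases ha : a = 1
  · subst ha
    simp [prodHom] at h
    rw [show l = 1 from E.inj (h.trans (map_one E.ι).symm)]
    rfl
  · simp [prodHom, ha] at h
    refine absurd ?_ (E.ι_eq_t_mul_iff (a := 1) (b := l))
    rw [map_one, h]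

theorem range_prodHom : E.prodHom.range = Subgroup.centralizer ({E.t} : Set G) := by
  ext x
  rw [Subgroup.mem_centralizer_singleton_iff]
  constructor
  · rintro ⟨⟨a, l⟩, rfl⟩
    refine E.mem_cent (l := l) ?_
    by_cases ha : a = 1 <;> simp [prodHom, ha]
  · intro hx
    obtain ⟨l, rfl | rfl⟩ := E.cent x hx
    · exact ⟨(1, l), by simp [prodHom]⟩
    · exact ⟨(Multiplicative.ofAdd 1, l), by simp [prodHom, (by decide : Multiplicative.ofAdd (1 : ZMod 2) ≠ 1)]⟩

/-- The centraliser is `Z₂ × L`. -/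
noncomputable def centEquiv : Subgroup.centralizer ({E.t} : Set G) ≃* Z₂ × L :=
  ((MonoidHom.ofInjective E.prodHom_injective).trans (MulEquiv.subgroupCongr E.range_prodHom)).symm

theorem natCard_cent :
    Nat.card (Subgroup.centralizer ({E.t} : Set G)) = 2 * Nat.card L := by
  rw [Nat.card_congr E.centEquiv.toEquiv, Nat.card_prod]
  simp

end Emb

variable {E : Emb G (Matrix.ProjectiveSpecialLinearGroup (Fin 2) F)} (hyp : Hyp E)
include hyp

theorem charP : CharP F 3 := by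
  obtain ⟨k, hk, hq⟩ := hyp.three
  obtain ⟨p, hp⟩ := CharP.exists F
  haveI := hp
  obtain ⟨⟨n, hn⟩, hpp, e⟩ := FiniteField.card F p
  rw [hq] at e
  have h3 : 3 ∣ p ^ n := e ▸ dvd_pow_self 3 (by omega)
  have := (Nat.prime_dvd_prime_iff_eq Nat.prime_three hpp).1 (Nat.prime_three.dvd_of_dvd_pow h3)
  rwa [this]

theorem two_ne : (2 : F) ≠ 0 := two_ne_zero_of_mod (by have := hyp.mod8; omega)

theorem q_large : 27 ≤ Fintype.card F := by
  obtain ⟨k, hk, hq⟩ := hyp.three
  have h8 := hyp.mod8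
  rw [hq] at h8 ⊢
  rcases (show k = 2 ∨ 3 ≤ k by omega) with rfl | h
  · norm_num at h8
  · calc 27 = 3 ^ 3 := rfl
      _ ≤ 3 ^ k := Nat.pow_le_pow_right (by norm_num) h

theorem uQ_cube (x : Multiplicative F) : uQ x ^ 3 = (1 : PST) := by
  haveI := charP hyp
  obtain ⟨a, rfl⟩ := Multiplicative.ofAdd.surjective x
  rw [← map_pow, ← ofAdd_nsmul, nsmul_eq_mul, CharP.cast_eq_zero, zero_mul]
  exact map_one uQ

theorem two_mul_natCard_psl :
    2 * Nat.card PST = Fintype.card F * (Fintype.card F ^ 2 - 1) :=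
  Linear.card_PSL_two_odd (F := F) (Nat.odd_iff.2 (by have := hyp.mod8; omega))

theorem natCard_G : Nat.card G =
    Fintype.card F * (Fintype.card F ^ 2 - 1) * (Subgroup.centralizer ({E.t} : Set G)).index := by
  rw [← (Subgroup.centralizer ({E.t} : Set G)).card_mul_index, E.natCard_cent, two_mul_natCard_psl hyp]

theorem sylow_two (S : Sylow 2 G) :
    Nat.card (S : Subgroup G) = 8 ∧ ∀ x ∈ (S : Subgroup G), x * x = 1 := by
  haveI : Fact (Nat.Prime 2) := ⟨Nat.prime_two⟩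
  have h8 := hyp.mod8
  obtain ⟨c, hc⟩ : ∃ c, Fintype.card F = 8 * c + 3 := ⟨Fintype.card F / 8, by omega⟩
  have hsq8 : Fintype.card F ^ 2 - 1 = 8 * ((4 * c + 1) * (2 * c + 1)) := by
    rw [hc, show (8 * c + 3) ^ 2 = 8 * ((4 * c + 1) * (2 * c + 1)) + 1 by ring, Nat.add_sub_cancel]
  have hG : Nat.card G = 2 ^ 3 * (Fintype.card F * ((4 * c + 1) * (2 * c + 1)) *
      (Subgroup.centralizer ({E.t} : Set G)).index) := by
    rw [natCard_G hyp, hsq8]; ring
  have hodd : ¬ 2 ∣ Fintype.card F * ((4 * c + 1) * (2 * c + 1)) *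
      (Subgroup.centralizer ({E.t} : Set G)).index := by
    rw [← even_iff_two_dvd, Nat.not_even_iff_odd, Nat.odd_mul, Nat.odd_mul, Nat.odd_mul]
    refine ⟨⟨Nat.odd_iff.2 (by omega), ?_, ?_⟩, hyp.odd_index⟩ <;> exact Nat.odd_iff.2 (by omega)
  have hS := fun T : Sylow 2 G => Linear.card_sylow_of_card_eq 2 hG hodd T
  refine ⟨hS S, ?_⟩
  set C := Subgroup.centralizer ({E.t} : Set G) with hC
  obtain ⟨P⟩ : Nonempty (Sylow 2 C) := inferInstance
  have hCc : Nat.card C = 2 ^ 3 * (Fintype.card F * ((4 * c + 1) * (2 * c + 1))) := by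
    rw [E.natCard_cent, two_mul_natCard_psl hyp, hsq8]; ring
  have hP := Linear.card_sylow_of_card_eq 2 hCc (fun h => hodd (h.mul_right _)) P
  have hPsq : ∀ x ∈ (P : Subgroup C), x * x = 1 := by
    intro x hx
    obtain ⟨Q, hQ⟩ := (P.2.map ((MonoidHom.snd _ _).comp E.centEquiv.toMonoidHom)).exists_le_sylow
    have hv := Small.kleinFour_mul_self (Linear.isKleinFour_sylow_PSL_two (Or.inl h8) Q)
      (hQ ⟨x, hx, rfl⟩)
    refine E.centEquiv.injective (Prod.ext ?_ ?_)
    · rw [map_mul, map_one, Prod.fst_mul, Prod.fst_one]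
      generalize (E.centEquiv x).1 = z
      exact (congrArg Multiplicative.ofAdd (CharTwo.add_self_eq_zero (Multiplicative.toAdd z)) :)
    · rw [map_mul, map_one, Prod.snd_mul, Prod.snd_one]
      exact hv
  let T : Sylow 2 G := Sylow.ofCard ((P : Subgroup C).map C.subtype) (by
    rw [Subgroup.card_map_of_injective C.subtype_injective, hP, ← hS (Classical.arbitrary _),
      Sylow.card_eq_multiplicity])
  have hT : ∀ y : T, y * y = 1 := by
    rintro ⟨_, x, hx, rfl⟩
    refine Subtype.ext ?_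
    show C.subtype x * C.subtype x = 1
    rw [← map_mul, hPsq x hx, map_one]
  intro x hx
  exact congrArg Subtype.val ((Sylow.equiv S T).injective (a₁ := ⟨x, hx⟩ * ⟨x, hx⟩) (a₂ := 1)
    (by rw [map_mul, map_one, hT]))

theorem two_group_facts {P : Subgroup G} (hP : IsPGroup 2 P) {x y : G} (hx : x ∈ P) (hy : y ∈ P) :
    x * x = 1 ∧ x * y = y * x := by
  haveI : Fact (Nat.Prime 2) := ⟨Nat.prime_two⟩
  obtain ⟨S, hS⟩ := hP.exists_le_sylow
  have hsq := (sylow_two hyp S).2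
  refine ⟨hsq x (hS hx), ?_⟩
  have h := hsq _ (mul_mem (hS hx) (hS hy))
  rw [mul_eq_one_iff_eq_inv, _root_.mul_inv_rev, inv_eq_of_mul_eq_one_right (hsq x (hS hx)),
    inv_eq_of_mul_eq_one_right (hsq y (hS hy))] at h
  exact h

/-- No involution inverts a nontrivial element of 3-power order. -/
theorem eq_one_of_inverted {s y : G} (hs : s * s = 1) {j : ℕ} (hy : y ^ 3 ^ j = 1)
    (h : s * y * s⁻¹ = y⁻¹) : y = 1 := by
  induction j generalizing y with
  | zero => simpa using hy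
  | succ j ih =>
    have h3 : y ^ 3 = 1 := ih (by rw [← pow_mul, ← pow_succ']; exact hy)
      (by rw [← conj_pow, h, inv_pow])
    exact hyp.free s y hs h3 h

/-! ### The unipotent subgroup in `G` -/

omit hyp in
/-- The image of the unipotent subgroup. -/
noncomputable def subQG (E : Emb G (Matrix.ProjectiveSpecialLinearGroup (Fin 2) F)) : Subgroup G :=
  (subQ (F := F)).map E.ι

theorem natCard_subQG : Nat.card (subQG E) = Fintype.card F := by
  rw [subQG, Subgroup.card_map_of_injective E.inj, natCard_subQ, Nat.card_eq_fintype_card]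

theorem subQG_cube {x : G} (hx : x ∈ subQG E) : x ^ 3 = 1 := by
  obtain ⟨_, ⟨a, rfl⟩, rfl⟩ := hx
  rw [← map_pow, uQ_cube hyp, map_one]

theorem subQG_comm {x y : G} (hx : x ∈ subQG E) (hy : y ∈ subQG E) : x * y = y * x := by
  obtain ⟨_, ⟨a, rfl⟩, rfl⟩ := hx
  obtain ⟨_, ⟨b, rfl⟩, rfl⟩ := hy
  rw [← map_mul, ← map_mul, ← map_mul, ← map_mul, mul_comm]

theorem centralizer_subQG_cent {x : G} (hxt : x * E.t = E.t * x)
    (hx : x ∈ Subgroup.centralizer (subQG E : Set G)) :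
    ∃ a ∈ subQ (F := F), x = E.ι a ∨ x = E.t * E.ι a := by
  obtain ⟨l, hl⟩ := E.cent x hxt
  refine ⟨l, mem_subQ_of_commute (two_ne hyp) (E.inj ?_), hl⟩
  rw [← E.conj_ι hl, mul_inv_eq_iff_eq_mul]
  exact (Subgroup.mem_centralizer_iff.1 hx _ ⟨_, ⟨_, rfl⟩, rfl⟩).symm

theorem t_mem_centralizer : E.t ∈ Subgroup.centralizer (subQG E : Set G) := by
  rw [Subgroup.mem_centralizer_iff]
  rintro _ ⟨a, -, rfl⟩
  exact (E.comm a).symm

/-- The centraliser of `Q` has a normal subgroup of index two of odd order. -/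
theorem exists_complement : ∃ O : Subgroup (Subgroup.centralizer (subQG E : Set G)),
    O.index = 2 ∧ Odd (Nat.card O) := by
  haveI : Fact (Nat.Prime 2) := ⟨Nat.prime_two⟩
  set C := Subgroup.centralizer (subQG E : Set G) with hC
  set tC : C := ⟨E.t, t_mem_centralizer hyp⟩
  have htC : orderOf tC = 2 := by rw [← Subgroup.orderOf_coe]; exact E.orderOf_t
  have hp : IsPGroup 2 (Subgroup.zpowers tC) :=
    IsPGroup.of_card (n := 1) (by rw [Nat.card_zpowers, htC, pow_one])
  obtain ⟨P, hP⟩ := hp.exists_le_sylow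
  have hPle : (P : Subgroup C) ≤ Subgroup.zpowers tC := by
    intro x hx
    have hPG : IsPGroup 2 ((P : Subgroup C).map C.subtype) := P.2.map _
    have hxm : (x : G) ∈ (P : Subgroup C).map C.subtype := ⟨x, hx, rfl⟩
    have htm : E.t ∈ (P : Subgroup C).map C.subtype := ⟨tC, hP (Subgroup.mem_zpowers _), rfl⟩
    obtain ⟨hxx, hxt⟩ := two_group_facts hyp hPG hxm htm
    obtain ⟨a, ⟨b, rfl⟩, ha⟩ := centralizer_subQG_cent hyp hxt x.2
    have ha1 : uQ b = (1 : PST) := by
      have h2 : uQ b * uQ b = (1 : PST) := by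
        refine E.inj ?_
        rw [map_mul, map_one]
        rcases ha with e | e
        · rw [← e, hxx]
        · have e' : E.ι (uQ b) = E.t * (x : G) := by rw [e, ← mul_assoc, E.sq, one_mul]
          rw [e', show E.t * (x : G) * (E.t * (x : G)) = E.t * ((x : G) * E.t) * x by group, hxt,
            ← mul_assoc E.t E.t, E.sq, one_mul, hxx]
      have h3 := uQ_cube hyp b
      rwa [pow_succ, pow_two, h2, one_mul] at h3
    rw [ha1, map_one, mul_one] at ha
    rcases ha with e | e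
    · rw [show x = 1 from Subtype.ext e]; exact one_mem _
    · rw [show x = tC from Subtype.ext e]; exact Subgroup.mem_zpowers _
  have hPeq : (P : Subgroup C) = Subgroup.zpowers tC := le_antisymm hPle hP
  have hcyc : IsCyclic P := by
    show IsCyclic (P : Subgroup C)
    rw [hPeq]; infer_instance
  have hmin : (Nat.card C).minFac = 2 := by
    rw [Nat.minFac_eq_two_iff, ← htC]
    exact orderOf_dvd_natCard tC
  have hc := IsCyclic.isComplement' hmin hcyc
  set O := (MonoidHom.transferSylow P (IsCyclic.normalizer_le_centralizer hmin hcyc)).ker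
  refine ⟨O, ?_, ?_⟩
  · rw [hc.symm.index_eq_card, hPeq, Nat.card_zpowers, htC]
  · rw [← Nat.not_even_iff_odd, even_iff_two_dvd]
    exact MonoidHom.not_dvd_card_ker_transferSylow _ _

omit hyp in
theorem mem_of_odd_order {H : Type*} [Group H] {O : Subgroup H} (hO : O.index = 2) {x : H} {m : ℕ}
    (hm : Odd m) (hx : x ^ m = 1) : x ∈ O := by
  by_contra h
  obtain ⟨j, rfl⟩ := hm
  have h2 : x * x ∈ O := (Subgroup.mul_mem_iff_of_index_two hO).2 Iff.rfl
  have : x ^ (2 * j + 1) ∉ O := by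
    rw [pow_succ, pow_mul, pow_two]
    exact fun hh => h ((Subgroup.mul_mem_cancel_left _ (pow_mem h2 j)).1 hh)
  exact this (hx ▸ one_mem O)

/-- Two involutions centralising `Q` have a product of odd order. -/
theorem odd_orderOf_mul {a b : G} (ha : a * a = 1) (hb : b * b = 1) (ha1 : a ≠ 1) (hb1 : b ≠ 1)
    (haC : a ∈ Subgroup.centralizer (subQG E : Set G))
    (hbC : b ∈ Subgroup.centralizer (subQG E : Set G)) : Odd (orderOf (a * b)) := by
  obtain ⟨O, hO, hodd⟩ := exists_complement hyp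
  have hnot : ∀ c : Subgroup.centralizer (subQG E : Set G), c * c = 1 → c ≠ 1 → c ∉ O := by
    intro c hc hc1 hmem
    have h1 : orderOf (⟨c, hmem⟩ : O) ∣ 2 :=
      orderOf_dvd_of_pow_eq_one (Subtype.ext (by rw [SubmonoidClass.coe_pow, pow_two]; exact hc))
    have h2 : orderOf (⟨c, hmem⟩ : O) = 1 :=
      Nat.eq_one_of_dvd_coprimes (Nat.coprime_two_right.2 hodd) (orderOf_dvd_natCard _) h1
    exact hc1 (congrArg Subtype.val (orderOf_eq_one_iff.1 h2))
  have hab : (⟨a, haC⟩ * ⟨b, hbC⟩ : Subgroup.centralizer (subQG E : Set G)) ∈ O :=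
    (Subgroup.mul_mem_iff_of_index_two hO).2
      (iff_of_false (hnot _ (Subtype.ext ha) (fun e => ha1 (congrArg Subtype.val e)))
        (hnot _ (Subtype.ext hb) (fun e => hb1 (congrArg Subtype.val e))))
  have := hodd.of_dvd_nat (orderOf_dvd_natCard (⟨_, hab⟩ : O))
  rwa [← Subgroup.orderOf_coe, ← Subgroup.orderOf_coe] at this

/-- A 3-element centralising `Q` lies in `Q`. -/
theorem mem_subQG_of_centralizer {x : G} (hx : x ∈ Subgroup.centralizer (subQG E : Set G)) {j : ℕ}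
    (hj : x ^ 3 ^ j = 1) : x ∈ subQG E := by
  haveI : Fact (Nat.Prime 3) := ⟨Nat.prime_three⟩
  set C := Subgroup.centralizer (subQG E : Set G) with hC
  obtain ⟨O, hO, hodd⟩ : ∃ O : Subgroup C, O.index = 2 ∧ Odd (Nat.card O) := exists_complement hyp
  haveI : O.Normal := Subgroup.normal_of_index_eq_two hO
  have hxO : (⟨x, hx⟩ : C) ∈ O :=
    mem_of_odd_order hO (m := 3 ^ j) ((Nat.odd_iff.2 (by norm_num)).pow) (Subtype.ext (by simpa using hj))
  set tC : C := ⟨E.t, t_mem_centralizer hyp⟩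
  have htt : tC ^ 2 = 1 := Subtype.ext (by simp [tC, pow_two, E.sq])
  obtain ⟨R, hR⟩ := FgsSix.exists_fixed_sylow O hodd 3 htt
    (by rw [Subgroup.normalizer_eq_top_iff.2 inferInstance]; exact Subgroup.mem_top _)
  have hRQ : ∀ z ∈ (R : Subgroup O), (((z : O) : C) : G) ∈ subQG E := by
    intro z hz
    have hm : tC * (z : C) * tC⁻¹ ∈ (R : Subgroup O).map O.subtype :=
      (Subgroup.mem_normalizer_iff.1 hR _).1 ⟨z, hz, rfl⟩
    obtain ⟨y, hy, hy'⟩ := hm
    obtain ⟨a, ha⟩ := R.2 ⟨z⁻¹ * y, mul_mem (inv_mem hz) hy⟩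
    have hu3 : ((((z⁻¹ * y : O) : C) : G)) ^ 3 ^ a = 1 := by
      have := congrArg (fun w : (R : Subgroup O) => ((((w : O) : C) : G))) ha
      simpa using this
    have hyv : (((y : O) : C) : G) = E.t * (((z : O) : C) : G) * E.t⁻¹ :=
      congrArg (fun w : C => (w : G)) hy'
    have huone : (((z⁻¹ * y : O) : C) : G) = 1 := by
      refine eq_one_of_inverted hyp E.sq hu3 ?_
      push_cast
      rw [hyv, _root_.mul_inv_rev, _root_.mul_inv_rev, _root_.mul_inv_rev, E.t_inv]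
      have h := E.sq
      calc E.t * ((((z : O) : C) : G)⁻¹ * (E.t * ((z : O) : C) * E.t)) * E.t
          = E.t * (((z : O) : C) : G)⁻¹ * E.t * ((z : O) : C) * (E.t * E.t) := by group
        _ = _ := by rw [h, inv_inv, mul_one]; simp only [mul_assoc, E.t_inv]
    have hcomm : (((z : O) : C) : G) * E.t = E.t * (((z : O) : C) : G) := by
      push_cast at huone
      rw [inv_mul_eq_one, hyv, eq_mul_inv_iff_mul_eq] at huone
      exact huone
    obtain ⟨b, hb, hzb⟩ := centralizer_subQG_cent hyp hcomm ((z : O) : C).2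
    rcases hzb with e | e
    · exact e ▸ ⟨b, hb, rfl⟩
    · exfalso
      obtain ⟨k, hk⟩ := R.2 ⟨z, hz⟩
      have hk' : (((z : O) : C) : G) ^ 3 ^ k = 1 := by
        have := congrArg (fun w : (R : Subgroup O) => ((((w : O) : C) : G))) hk
        simpa using this
      obtain ⟨c, rfl⟩ := hb
      have hcommt : Commute E.t (E.ι (uQ c)) := E.comm _
      rw [e, hcommt.mul_pow] at hk'
      obtain ⟨i, hi⟩ := (show Odd (3 ^ k) from (Nat.odd_iff.2 (by norm_num)).pow)
      rw [show E.t ^ 3 ^ k = E.t by rw [hi, pow_succ, pow_mul, pow_two, E.sq, one_pow, one_mul],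
        ← map_pow] at hk'
      exact E.ι_eq_t_mul_iff (a := 1) (b := uQ c ^ 3 ^ k) (by rw [map_one E.ι]; exact hk'.symm)
  obtain ⟨a, ha⟩ : ∃ a, x ^ 3 ^ a = 1 := ⟨j, hj⟩
  have hp : IsPGroup 3 (Subgroup.zpowers (⟨⟨x, hx⟩, hxO⟩ : O)) := by
    obtain ⟨i, -, hi⟩ := (Nat.dvd_prime_pow Nat.prime_three).1 (orderOf_dvd_of_pow_eq_one
      (show (⟨⟨x, hx⟩, hxO⟩ : O) ^ 3 ^ a = 1 from Subtype.ext (Subtype.ext (by simpa using ha))))
    exact IsPGroup.of_card (n := i) (by rw [Nat.card_zpowers, hi])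
  obtain ⟨R', hR'⟩ := hp.exists_le_sylow
  obtain ⟨g, rfl⟩ := MulAction.exists_smul_eq O R R'
  have hm := hR' (Subgroup.mem_zpowers _)
  rw [Sylow.coe_subgroup_smul, Subgroup.mem_pointwise_smul_iff_inv_smul_mem] at hm
  have h := hRQ _ hm
  set w : G := ((((MulAut.conj g)⁻¹ • (⟨⟨x, hx⟩, hxO⟩ : O) : O) : C) : G) with hw
  have hxe : x = ((g : C) : G) * w * ((g : C) : G)⁻¹ := by
    rw [hw, MulAut.smul_def, MulAut.conj_inv_apply]
    push_cast
    group
  rw [hxe, ← Subgroup.mem_centralizer_iff.1 (g : C).2 w h, mul_inv_cancel_right]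
  exact h

/-- The normaliser of `Q` acts on it by multiplication with squares. -/
theorem normalizer_acts {x : G} (hx : x ∈ Subgroup.normalizer (subQG E : Set G)) :
    ∃ a : F, ∀ b : F, x * E.ι (uQ (.ofAdd b)) * x⁻¹ = E.ι (uQ (.ofAdd (a * a * b))) := by
  haveI : Fact (Nat.Prime 2) := ⟨Nat.prime_two⟩
  haveI : Fact (Nat.Prime 3) := ⟨Nat.prime_three⟩
  haveI := charP hyp
  set C := Subgroup.centralizer (subQG E : Set G) with hC
  obtain ⟨O, hO, hodd⟩ : ∃ O : Subgroup C, O.index = 2 ∧ Odd (Nat.card O) := exists_complement hyp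
  have hxC : x * E.t * x⁻¹ ∈ C := by
    rw [hC, Subgroup.mem_centralizer_iff]
    intro q hq
    have hq' : x⁻¹ * q * x ∈ subQG E := (Subgroup.mem_normalizer_iff''.1 hx q).1 hq
    obtain ⟨b, -, hb⟩ := hq'
    calc q * (x * E.t * x⁻¹) = x * ((x⁻¹ * q * x) * E.t) * x⁻¹ := by group
      _ = x * (E.t * (x⁻¹ * q * x)) * x⁻¹ := by rw [← hb, E.comm]
      _ = _ := by group
  -- Sylow 2-subgroups of `C` have order two
  have hsyl : ∀ T : Sylow 2 C, Nat.card (T : Subgroup C) = 2 := by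
    intro T
    have := Linear.card_sylow_of_card_eq 2 (k := 1) (r := Nat.card O)
      (by rw [← O.card_mul_index, hO, pow_one, mul_comm]) (by rw [Nat.two_dvd_ne_zero, ← Nat.odd_iff]; exact hodd) T
    simpa using this
  set tC : C := ⟨E.t, t_mem_centralizer hyp⟩
  set uC : C := ⟨x * E.t * x⁻¹, hxC⟩
  have ho : orderOf tC = 2 ∧ orderOf uC = 2 := by
    rw [← Subgroup.orderOf_coe, ← Subgroup.orderOf_coe]
    exact ⟨E.orderOf_t, ((MulAut.conj x).orderOf_eq E.t).trans E.orderOf_t⟩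
  let T1 : Sylow 2 C := Sylow.ofCard (Subgroup.zpowers tC) (by
    rw [Nat.card_zpowers, ho.1]
    exact (hsyl (Classical.arbitrary _)).symm.trans (Sylow.card_eq_multiplicity _))
  let T2 : Sylow 2 C := Sylow.ofCard (Subgroup.zpowers uC) (by
    rw [Nat.card_zpowers, ho.2]
    exact (hsyl (Classical.arbitrary _)).symm.trans (Sylow.card_eq_multiplicity _))
  obtain ⟨c, hc⟩ := MulAction.exists_smul_eq C T2 T1
  have hm : c * uC * c⁻¹ ∈ Subgroup.zpowers tC := by
    have h1 : MulAut.conj c • uC ∈ ((c • T2 : Sylow 2 C) : Subgroup C) := by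
      rw [Sylow.coe_subgroup_smul]
      exact Subgroup.smul_mem_pointwise_smul uC _ _ (Subgroup.mem_zpowers uC)
    rw [hc] at h1
    exact h1
  obtain ⟨e, he⟩ := hm
  have hcu : c * uC * c⁻¹ = tC := by
    have h1 : orderOf (c * uC * c⁻¹) = 2 := ((MulAut.conj c).orderOf_eq uC).trans ho.2
    rcases Int.even_or_odd e with ⟨i, rfl⟩ | ⟨i, rfl⟩
    · simp only [← two_mul, _root_.zpow_mul, _root_.zpow_ofNat] at he
      rw [pow_two, show tC * tC = 1 from Subtype.ext E.sq, _root_.one_zpow] at he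
      rw [← he, orderOf_one] at h1
      omega
    · simp only [_root_.zpow_add, _root_.zpow_mul, _root_.zpow_ofNat] at he
      rw [pow_two, show tC * tC = 1 from Subtype.ext E.sq, _root_.one_zpow, one_mul] at he
      rw [pow_one] at he
      exact he.symm
  set y : G := (c : G) * x with hy
  have hyt : y * E.t = E.t * y := by
    have := congrArg Subtype.val hcu
    rw [Subgroup.coe_mul, Subgroup.coe_mul, Subgroup.coe_inv] at this
    change (c : G) * (x * E.t * x⁻¹) * (c : G)⁻¹ = E.t at this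
    rw [← mul_inv_eq_iff_eq_mul, hy]
    rw [show (c : G) * x * E.t * ((c : G) * x)⁻¹ = (c : G) * (x * E.t * x⁻¹) * (c : G)⁻¹ by group]
    exact this
  obtain ⟨l, hl⟩ := E.cent y hyt
  have hxconj : ∀ q ∈ subQG E, x * q * x⁻¹ = y * q * y⁻¹ := by
    intro q hq
    have hq' := (Subgroup.mem_normalizer_iff.1 hx q).1 hq
    rw [hy, show (c : G) * x * q * ((c : G) * x)⁻¹ = (c : G) * (x * q * x⁻¹) * (c : G)⁻¹ by group,
      ← Subgroup.mem_centralizer_iff.1 c.2 _ hq', mul_inv_cancel_right]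
  have h1Q : E.ι (uQ (Multiplicative.ofAdd (1 : F))) ∈ subQG E := ⟨_, ⟨_, rfl⟩, rfl⟩
  have hl1 : l * uQ (Multiplicative.ofAdd (1 : F)) * l⁻¹ ∈ subQ (F := F) := by
    have := (Subgroup.mem_normalizer_iff.1 hx _).1 h1Q
    rw [hxconj _ h1Q, E.conj_ι hl] at this
    obtain ⟨b, hb, e⟩ := this
    exact E.inj e ▸ hb
  have hB : InB l := inB_of_conj (two_ne hyp) ⟨_, rfl⟩ (fun h => one_ne_zero (α := F)
    (congrArg Multiplicative.toAdd (uQ_injective (h.trans (map_one uQ).symm)))) hl1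
  obtain ⟨a, ha0, ha⟩ := inB_conj hB
  exact ⟨a, fun b => by
    rw [hxconj _ ⟨_, ⟨_, rfl⟩, rfl⟩, E.conj_ι hl, ha]⟩

/-- An element of 3-power order normalising `Q` lies in `Q`. -/
theorem mem_subQG_of_normalizer {x : G} (hx : x ∈ Subgroup.normalizer (subQG E : Set G)) {j : ℕ}
    (hj : x ^ 3 ^ j = 1) : x ∈ subQG E := by
  haveI : Fact (Nat.Prime 3) := ⟨Nat.prime_three⟩
  haveI := charP hyp
  obtain ⟨a, hact⟩ := normalizer_acts hyp hx
  have hpow : ∀ (i : ℕ) (b : F),
      x ^ i * E.ι (uQ (.ofAdd b)) * (x ^ i)⁻¹ = E.ι (uQ (.ofAdd ((a * a) ^ i * b))) := by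
    intro i
    induction i with
    | zero => intro b; simp
    | succ i ih =>
      intro b
      rw [pow_succ', show x * x ^ i * E.ι (uQ (.ofAdd b)) * (x * x ^ i)⁻¹ =
        x * (x ^ i * E.ι (uQ (.ofAdd b)) * (x ^ i)⁻¹) * x⁻¹ by group, ih, hact, pow_succ', ← mul_assoc]
  have haa : a * a = 1 := by
    have h := hpow (3 ^ j) 1
    rw [hj, mul_one, inv_one, mul_one, one_mul] at h
    have h' : (a * a) ^ 3 ^ j = 1 := (congrArg Multiplicative.toAdd (uQ_injective (E.inj h))).symm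
    have := iterateFrobenius_inj F 3 j (a₁ := a * a) (a₂ := 1)
      (by rw [iterateFrobenius_def, iterateFrobenius_def, h', one_pow])
    exact this
  refine mem_subQG_of_centralizer hyp (x := x) (j := j) ?_ hj
  rw [Subgroup.mem_centralizer_iff]
  rintro _ ⟨_, ⟨b, rfl⟩, rfl⟩
  have := hact (Multiplicative.toAdd b)
  rw [haa, one_mul, ofAdd_toAdd, mul_inv_eq_iff_eq_mul] at this
  exact this.symm

/-- `Q` is a Sylow 3-subgroup. -/
theorem exists_sylow_three : ∃ S : Sylow 3 G, (S : Subgroup G) = subQG E := by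
  haveI : Fact (Nat.Prime 3) := ⟨Nat.prime_three⟩
  obtain ⟨k, -, hk⟩ := hyp.three
  have hp : IsPGroup 3 (subQG E) := IsPGroup.of_card (n := k) (by rw [natCard_subQG hyp, hk])
  obtain ⟨S, hS⟩ := hp.exists_le_sylow
  refine ⟨S, le_antisymm ?_ hS⟩
  by_contra hne
  haveI : Group.IsNilpotent (S : Subgroup G) := S.2.isNilpotent
  have hlt : (subQG E).subgroupOf (S : Subgroup G) < ⊤ := by
    rw [lt_top_iff_ne_top, Ne, Subgroup.subgroupOf_eq_top]
    exact hne
  obtain ⟨⟨x, hxS⟩, hxN, hxQ⟩ :=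
    SetLike.exists_of_lt (Group.normalizerCondition_of_isNilpotent _ hlt)
  obtain ⟨j, hj⟩ := S.2 ⟨x, hxS⟩
  refine hxQ (Subgroup.mem_subgroupOf.2 (mem_subQG_of_normalizer hyp (j := j) ?_
    (congrArg Subtype.val hj)))
  rw [Subgroup.mem_normalizer_iff]
  intro q
  constructor
  · intro hq
    exact (Subgroup.mem_normalizer_iff.1 hxN ⟨q, hS hq⟩).1 hq
  · intro hq
    have hqS : q ∈ (S : Subgroup G) := by
      have := mul_mem (mul_mem (inv_mem hxS) (hS hq)) hxS
      simpa [mul_assoc] using this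
    exact (Subgroup.mem_normalizer_iff.1 hxN ⟨q, hqS⟩).2 hq

theorem index_not_three : ¬ 3 ∣ (Subgroup.centralizer ({E.t} : Set G)).index := by
  haveI : Fact (Nat.Prime 3) := ⟨Nat.prime_three⟩
  obtain ⟨S, hS⟩ := exists_sylow_three hyp
  intro h
  refine S.not_dvd_index ?_
  have h1 := (S : Subgroup G).card_mul_index
  rw [hS, natCard_subQG hyp, natCard_G hyp, mul_assoc] at h1
  rw [hS, Nat.eq_of_mul_eq_mul_left (Nat.pos_of_ne_zero Fintype.card_ne_zero) h1]
  exact h.mul_left _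

theorem main_involutions (S : Sylow 2 G) :
    Subgroup.centralizer ((S : Subgroup G) : Set G) = (S : Subgroup G) ∧
      Nat.card (Subgroup.normalizer ((S : Subgroup G) : Set G)) = 168 ∧
      ∀ s t : G, s ≠ 1 → s * s = 1 → t ≠ 1 → t * t = 1 → IsConj s t :=
  ReeG2Sylow.main hyp.perf S (sylow_two hyp S).1 (sylow_two hyp S).2 hyp.mod8 E.t_ne_one E.sq
    E.centEquiv

theorem isConj_t {s : G} (hs : s ≠ 1) (hs2 : s * s = 1) : IsConj E.t s :=
  (main_involutions hyp (Classical.arbitrary _)).2.2 _ _ E.t_ne_one E.sq hs hs2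

/-- An element of order three cycles a four-group through `t`. -/
theorem exists_cycle : ∃ (v t₁ : G) (i : PST), v ^ 3 = 1 ∧ v ≠ 1 ∧ i ≠ 1 ∧ i * i = 1 ∧
    (t₁ = E.ι i ∨ t₁ = E.t * E.ι i) ∧ v * E.t * v⁻¹ = t₁ ∧ v * t₁ * v⁻¹ = E.t * t₁ := by
  haveI : Fact (Nat.Prime 3) := ⟨Nat.prime_three⟩
  obtain ⟨S, -⟩ : ∃ S : Sylow 2 G, True := ⟨Classical.arbitrary _, trivial⟩
  obtain ⟨hC, hN, -⟩ := main_involutions hyp S
  have hsq := (sylow_two hyp S).2
  obtain ⟨⟨v, hvN⟩, hv⟩ := exists_prime_orderOf_dvd_card' (G := Subgroup.normalizer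
    ((S : Subgroup G) : Set G)) 3 (by rw [hN]; norm_num)
  rw [Subgroup.orderOf_mk] at hv
  have hv3 : v ^ 3 = 1 := hv ▸ pow_orderOf_eq_one v
  have hv1 : v ≠ 1 := fun h => by rw [h, orderOf_one] at hv; omega
  have hvS : v ∉ (S : Subgroup G) := fun h => by
    have := hsq v h
    rw [pow_succ, pow_two, this, one_mul] at hv3
    exact hv1 hv3
  obtain ⟨s, hs, hmove⟩ : ∃ s ∈ (S : Subgroup G), v * s * v⁻¹ ≠ s := by
    by_contra h
    push Not at h
    refine hvS (hC ▸ Subgroup.mem_centralizer_iff.2 fun s hs => ?_)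
    exact (mul_inv_eq_iff_eq_mul.1 (h s hs)).symm
  set x := s * (v * s * v⁻¹) with hx
  have hsS : ∀ y ∈ (S : Subgroup G), v * y * v⁻¹ ∈ (S : Subgroup G) := fun y hy =>
    (Subgroup.mem_normalizer_iff.1 hvN y).1 hy
  have hxS : x ∈ (S : Subgroup G) := mul_mem hs (hsS s hs)
  have hxx := hsq x hxS
  have hx1 : x ≠ 1 := fun h => hmove (by
    rw [hx, mul_eq_one_iff_eq_inv] at h
    exact (inv_inv (v * s * v⁻¹)).symm.trans
      ((congrArg (·⁻¹) h.symm).trans (inv_eq_of_mul_eq_one_right (hsq s hs))))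
  have hx₁S : v * x * v⁻¹ ∈ (S : Subgroup G) := hsS x hxS
  have hcomm : v * x * v⁻¹ * x = x * (v * x * v⁻¹) :=
    (two_group_facts hyp S.2 hx₁S hxS).2
  have hprod : v * (v * x * v⁻¹) * v⁻¹ = x * (v * x * v⁻¹) := by
    have hv2 : v * v = v⁻¹ := eq_inv_of_mul_eq_one_left (by rw [← pow_two, ← pow_succ, hv3])
    have hv2' : v⁻¹ * v⁻¹ = v := by rw [← _root_.mul_inv_rev, hv2, inv_inv]
    calc v * (v * x * v⁻¹) * v⁻¹ = (v * v) * x * (v⁻¹ * v⁻¹) := by group
      _ = v⁻¹ * s * (v * s) := by rw [hv2, hv2', hx]; group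
      _ = v⁻¹ * s * v * 1 * s := by group
      _ = v⁻¹ * s * v * (s * s) * s := by rw [hsq s hs]
      _ = (v⁻¹ * s * v * s) * (s * s) := by group
      _ = (v⁻¹ * s * v * s) * 1 := by rw [hsq s hs]
      _ = s * ((v * v) * s * (v⁻¹ * v⁻¹)) := by
        rw [hv2, hv2', mul_one]
        have hm : v⁻¹ * s * v ∈ (S : Subgroup G) := by
          simpa using (Subgroup.mem_normalizer_iff''.1 hvN s).1 hs
        exact (two_group_facts hyp S.2 hm hs).2
      _ = s * ((v * s * v⁻¹) * (v * s * v⁻¹) * ((v * v) * s * (v⁻¹ * v⁻¹))) := by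
        rw [hsq _ (hsS s hs), one_mul]
      _ = x * (v * x * v⁻¹) := by rw [hx]; group
  have hx₁x : v * x * v⁻¹ ≠ x := fun h => by
    rw [h, hxx, h] at hprod
    exact hx1 hprod
  obtain ⟨g, hg⟩ := isConj_iff.1 (isConj_t hyp hx1 hxx).symm
  set w := g * v * g⁻¹ with hw
  set t₁ := g * (v * x * v⁻¹) * g⁻¹ with ht₁
  have ht₁t : t₁ * E.t = E.t * t₁ := by
    rw [← hg, ht₁]
    calc g * (v * x * v⁻¹) * g⁻¹ * (g * x * g⁻¹) = g * (v * x * v⁻¹ * x) * g⁻¹ := by group
      _ = _ := by rw [hcomm]; group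
  obtain ⟨i, hi⟩ := E.cent t₁ ht₁t
  have hne : t₁ ≠ E.t := fun h => hx₁x (by
    rw [← hg, ht₁] at h
    exact mul_left_cancel (mul_right_cancel h))
  have hne1 : t₁ ≠ 1 := fun h => hx1 (by rwa [ht₁, conj_eq_one_iff, conj_eq_one_iff] at h)
  have ht₁2 : t₁ * t₁ = 1 := by
    rw [ht₁, show g * (v * x * v⁻¹) * g⁻¹ * (g * (v * x * v⁻¹) * g⁻¹) =
      g * v * (x * x) * v⁻¹ * g⁻¹ by group, hxx]
    group
  refine ⟨w, t₁, i, ?_, fun h => hv1 (conj_eq_one_iff.1 h), ?_, ?_, hi, ?_, ?_⟩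
  · rw [hw, conj_pow, hv3, mul_one, mul_inv_cancel]
  · intro h
    rw [h, map_one, mul_one] at hi
    exact hi.elim hne1 hne
  · refine E.inj ?_
    rw [map_mul, map_one]
    rcases hi with e | e
    · rw [← e, ht₁2]
    · have e' : E.ι i = E.t * t₁ := by rw [e, ← mul_assoc, E.sq, one_mul]
      rw [e', show E.t * t₁ * (E.t * t₁) = E.t * (t₁ * E.t) * t₁ by group, ht₁t, ← mul_assoc E.t E.t,
        E.sq, one_mul, ht₁2]
  · rw [← hg, hw, ht₁]; group
  · rw [hw, ht₁, ← hg]
    calc g * v * g⁻¹ * (g * (v * x * v⁻¹) * g⁻¹) * (g * v * g⁻¹)⁻¹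
        = g * (v * (v * x * v⁻¹) * v⁻¹) * g⁻¹ := by group
      _ = _ := by rw [hprod]; group

end CfsgLib.ReeTypeS3
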