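import Mathlib

/-!
# Three orthogonal integer rows of norm four

Three integer vectors of squared norm `4`, pairwise orthogonal, congruent modulo `2` and orthogonal
to a positive vector are supported, with entries `±1`, on one set of four points, on which every
vector orthogonal to the three is constant.
-/

set_option autoImplicit false

namespace CfsgLib.ReeTypeS3

variable {ι : Type*} [Fintype ι]

/-- An integer vector of squared norm at most `4` orthogonal to a positive one has small entries. -/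
theorem abs_le_one {v : ι → ℤ} {f : ι → ℕ} (hf : ∀ i, 0 < f i) (hn : ∑ i, v i * v i ≤ 4)
    (hvf : ∑ i, v i * (f i : ℤ) = 0) (i : ι) : v i = -1 ∨ v i = 0 ∨ v i = 1 := by
  classical
  rcases (show v i ≤ -2 ∨ v i = -1 ∨ v i = 0 ∨ v i = 1 ∨ 2 ≤ v i by omega) with h | h | h | h | h
  all_goals try tauto
  all_goals
    exfalso
    have h4 : 4 ≤ v i * v i := by nlinarith
    rw [← Finset.add_sum_erase _ _ (Finset.mem_univ i)] at hn hvf
    have hz : ∀ j ∈ Finset.univ.erase i, v j = 0 := by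
      intro j hj
      have h1 : v j * v j ≤ ∑ j ∈ Finset.univ.erase i, v j * v j :=
        Finset.single_le_sum (fun j _ => mul_self_nonneg (v j)) hj
      exact mul_self_eq_zero.1 (le_antisymm (by linarith) (mul_self_nonneg _))
    rw [Finset.sum_eq_zero (fun j hj => by rw [hz j hj, zero_mul]), add_zero] at hvf
    rcases mul_eq_zero.1 hvf with h0 | h0
    · omega
    · exact absurd h0 (by exact_mod_cast (hf i).ne')

/-- The supports of the rows. -/
theorem rows {a b c : ι → ℤ} {f : ι → ℕ} (hf : ∀ i, 0 < f i)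
    (na : ∑ i, a i * a i = 4) (nb : ∑ i, b i * b i = 4) (nc : ∑ i, c i * c i = 4)
    (oab : ∑ i, a i * b i = 0) (oac : ∑ i, a i * c i = 0) (obc : ∑ i, b i * c i = 0)
    (pb : ∀ i, 2 ∣ a i - b i) (pc : ∀ i, 2 ∣ a i - c i)
    (fa : ∑ i, a i * (f i : ℤ) = 0) (fb : ∑ i, b i * (f i : ℤ) = 0)
    (fc : ∑ i, c i * (f i : ℤ) = 0) :
    ∃ R : Finset ι, R.card = 4 ∧
      (∀ x : ι → ℂ, ∑ i, x i * (a i : ℂ) = 0 → ∑ i, x i * (b i : ℂ) = 0 →
        ∑ i, x i * (c i : ℂ) = 0 → ∀ i ∈ R, ∀ j ∈ R, x i = x j) ∧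
      ∃ i₀ ∈ R, ∃ i₁ ∈ R, (a i₀ + b i₀ + c i₀) ^ 2 = 9 ∧ (a i₁ + b i₁ + c i₁) ^ 2 = 1 := by
  classical
  have va := abs_le_one hf na.le fa
  have vb := abs_le_one hf nb.le fb
  have vc := abs_le_one hf nc.le fc
  obtain ⟨R, hR⟩ : ∃ R : Finset ι, R = Finset.univ.filter fun i => a i ≠ 0 := ⟨_, rfl⟩
  have hin : ∀ i ∈ R, (a i = 1 ∨ a i = -1) ∧ (b i = 1 ∨ b i = -1) ∧ (c i = 1 ∨ c i = -1) := by
    intro i hi
    rw [hR, Finset.mem_filter] at hi
    have := hi.2
    have := va i; have := vb i; have := vc i; have := pb i; have := pc i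
    omega
  have hnot : ∀ i ∉ R, a i = 0 ∧ b i = 0 ∧ c i = 0 := by
    intro i hi
    rw [hR, Finset.mem_filter, not_and, not_not] at hi
    have := hi (Finset.mem_univ _)
    have := vb i; have := vc i; have := pb i; have := pc i
    omega
  have hcard : R.card = 4 := by
    rw [← Finset.sum_subset (Finset.subset_univ R) (fun i _ hi => by rw [(hnot i hi).1, zero_mul]),
      Finset.sum_congr rfl (fun i hi => show a i * a i = 1 by
        rcases (hin i hi).1 with h | h <;> rw [h] <;> norm_num), Finset.sum_const] at na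
    simp only [nsmul_eq_mul, mul_one] at na
    exact_mod_cast na
  let e : Fin 4 ≃ R := (Fintype.equivFinOfCardEq (by simpa using hcard)).symm
  let M : Matrix (Fin 4) (Fin 4) ℂ := Matrix.of
    ![fun k => (a (e k) : ℂ), fun k => (b (e k) : ℂ), fun k => (c (e k) : ℂ),
      fun k => (a (e k) * b (e k) * c (e k) : ℤ)]
  have hsum : ∀ x : ι → ℂ, (∀ i ∉ R, x i = 0) → ∑ k, x (e k) = ∑ i, x i := by
    intro x hx
    rw [Equiv.sum_comp e (fun i : R => x i), Finset.sum_coe_sort R x]
    exact Finset.sum_subset (Finset.subset_univ R) fun i _ hi => hx i hi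
  have dot : ∀ u v : ι → ℤ, (∀ i ∉ R, u i = 0) →
      ∑ k, (u (e k) : ℂ) * (v (e k) : ℂ) = ((∑ i, u i * v i : ℤ) : ℂ) := by
    intro u v hu
    push_cast
    exact hsum (fun i => (u i : ℂ) * (v i : ℂ)) fun i hi => by simp [hu i hi]
  have sq1 : ∀ i ∈ R, a i * a i = 1 ∧ b i * b i = 1 ∧ c i * c i = 1 := by
    intro i hi
    obtain ⟨h₁, h₂, h₃⟩ := hin i hi
    exact ⟨by rcases h₁ with h | h <;> rw [h] <;> norm_num,
      by rcases h₂ with h | h <;> rw [h] <;> norm_num,
      by rcases h₃ with h | h <;> rw [h] <;> norm_num⟩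
  have he : ∀ u : ι → ℤ, ∀ v : ι → ℤ, (∀ i ∈ R, u i = v i) → (∀ i ∉ R, v i = 0) →
      ∑ k, (u (e k) : ℂ) = ((∑ i, v i : ℤ) : ℂ) := by
    intro u v h1 h2
    push_cast
    rw [← hsum (fun i => (v i : ℂ)) fun i hi => by simp [h2 i hi]]
    exact Finset.sum_congr rfl fun k _ => by rw [h1 _ (e k).2]
  have hMM : M * M.transpose = (4 : ℂ) • 1 := by
    have ea : ∑ k, ((a (e k) * b (e k) * c (e k) : ℤ) : ℂ) * (a (e k) : ℂ) = 0 := by
      simp only [← Int.cast_mul]
      rw [he (fun i => a i * b i * c i * a i) (fun i => b i * c i)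
        (fun i hi => by linear_combination (b i * c i) * (sq1 i hi).1)
        (fun i hi => by simp [(hnot i hi).2.1]), obc, Int.cast_zero]
    have eb : ∑ k, ((a (e k) * b (e k) * c (e k) : ℤ) : ℂ) * (b (e k) : ℂ) = 0 := by
      simp only [← Int.cast_mul]
      rw [he (fun i => a i * b i * c i * b i) (fun i => a i * c i)
        (fun i hi => by linear_combination (a i * c i) * (sq1 i hi).2.1)
        (fun i hi => by simp [(hnot i hi).1]), oac, Int.cast_zero]
    have ec : ∑ k, ((a (e k) * b (e k) * c (e k) : ℤ) : ℂ) * (c (e k) : ℂ) = 0 := by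
      simp only [← Int.cast_mul]
      rw [he (fun i => a i * b i * c i * c i) (fun i => a i * b i)
        (fun i hi => by linear_combination (a i * b i) * (sq1 i hi).2.2)
        (fun i hi => by simp [(hnot i hi).1]), oab, Int.cast_zero]
    have ee : ∑ k, ((a (e k) * b (e k) * c (e k) : ℤ) : ℂ) *
        ((a (e k) * b (e k) * c (e k) : ℤ) : ℂ) = 4 := by
      simp only [← Int.cast_mul]
      rw [he (fun i => a i * b i * c i * (a i * b i * c i)) (fun i => a i * a i)
        (fun i hi => by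
          linear_combination (a i * a i * (c i * c i)) * (sq1 i hi).2.1 +
            (a i * a i) * (sq1 i hi).2.2)
        (fun i hi => by simp [(hnot i hi).1]), na, Int.cast_ofNat]
    have haa := dot a a fun i hi => (hnot i hi).1
    have hbb := dot b b fun i hi => (hnot i hi).2.1
    have hcc := dot c c fun i hi => (hnot i hi).2.2
    have hab := dot a b fun i hi => (hnot i hi).1
    have hac := dot a c fun i hi => (hnot i hi).1
    have hbc := dot b c fun i hi => (hnot i hi).2.1
    simp only [na, nb, nc, oab, oac, obc, Int.cast_ofNat, Int.cast_zero] at haa hbb hcc hab hac hbc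
    have comm : ∀ x y : Fin 4 → ℂ, ∑ k, x k * y k = ∑ k, y k * x k := fun x y =>
      Finset.sum_congr rfl fun k _ => mul_comm _ _
    ext p q
    rw [Matrix.mul_apply]
    simp only [Matrix.transpose_apply]
    fin_cases p <;> fin_cases q <;>
      simp only [M, Fin.zero_eta, Fin.mk_one, Fin.reduceFinMk, Matrix.smul_apply, Matrix.one_apply,
        Matrix.of_apply, Matrix.cons_val, smul_eq_mul, Fin.reduceEq, if_true, if_false, mul_one,
        mul_zero] <;>
      first
        | assumption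
        | (rw [comm]; assumption)
  have hMM' : M.transpose * M = (4 : ℂ) • 1 := by
    have h1 : M * ((4 : ℂ)⁻¹ • M.transpose) = 1 := by
      rw [Matrix.mul_smul, hMM, smul_smul]; norm_num
    have h2 := mul_eq_one_comm.1 h1
    rw [Matrix.smul_mul] at h2
    rw [← h2, smul_smul]; norm_num
  have key : ∀ x : ι → ℂ, ∑ i, x i * (a i : ℂ) = 0 → ∑ i, x i * (b i : ℂ) = 0 →
      ∑ i, x i * (c i : ℂ) = 0 → ∀ k : Fin 4,
      4 * x (e k) = M 3 k * ∑ l, M 3 l * x (e l) := by
    intro x xa xb xc k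
    have h0 : ∀ u : ι → ℤ, (∀ i ∉ R, u i = 0) → ∑ i, x i * (u i : ℂ) = 0 →
        ∑ l, (u (e l) : ℂ) * x (e l) = 0 := by
      intro u hu h
      rw [hsum (fun i => (u i : ℂ) * x i) fun i hi => by simp [hu i hi], ← h]
      exact Finset.sum_congr rfl fun i _ => mul_comm _ _
    have := congrArg (fun N : Matrix (Fin 4) (Fin 4) ℂ => N.mulVec (fun l => x (e l)) k) hMM'
    simp only [← Matrix.mulVec_mulVec, Matrix.smul_mulVec, Matrix.one_mulVec, Pi.smul_apply,
      smul_eq_mul] at this
    rw [← this, Matrix.mulVec, dotProduct, Fin.sum_univ_four]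
    simp only [Matrix.transpose_apply, Matrix.mulVec, dotProduct]
    have r0 : ∑ l, M 0 l * x (e l) = 0 := h0 a (fun i hi => (hnot i hi).1) xa
    have r1 : ∑ l, M 1 l * x (e l) = 0 := h0 b (fun i hi => (hnot i hi).2.1) xb
    have r2 : ∑ l, M 2 l * x (e l) = 0 := h0 c (fun i hi => (hnot i hi).2.2) xc
    rw [r0, r1, r2]
    ring
  refine ⟨R, hcard, ?_, ?_⟩
  · obtain ⟨σ, hσ⟩ : ∃ σ : ℤ, σ = ∑ l, a (e l) * b (e l) * c (e l) * (f (e l) : ℤ) := ⟨_, rfl⟩
    have hfk : ∀ k, 4 * (f (e k) : ℤ) = a (e k) * b (e k) * c (e k) * σ := by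
      intro k
      have hz : ∀ u : ι → ℤ, ∑ i, u i * (f i : ℤ) = 0 → ∑ i, (f i : ℂ) * (u i : ℂ) = 0 := by
        intro u h
        rw [← Finset.sum_congr rfl fun i _ => mul_comm ((u i : ℤ) : ℂ) ((f i : ℕ) : ℂ)]
        exact_mod_cast h
      have := key (fun i => (f i : ℂ)) (hz a fa) (hz b fb) (hz c fc) k
      simp only [M, Matrix.of_apply, Matrix.cons_val] at this
      rw [hσ]
      exact_mod_cast this
    have hconst : ∀ k l, a (e k) * b (e k) * c (e k) = a (e l) * b (e l) * c (e l) := by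
      intro k l
      have h1 := hfk k; have h2 := hfk l
      have p1 : (0 : ℤ) < f (e k) := by exact_mod_cast hf _
      have p2 : (0 : ℤ) < f (e l) := by exact_mod_cast hf _
      obtain ⟨a1, b1, c1⟩ := hin _ (e k).2
      obtain ⟨a2, b2, c2⟩ := hin _ (e l).2
      rcases a1 with a1 | a1 <;> rcases b1 with b1 | b1 <;> rcases c1 with c1 | c1 <;>
        rcases a2 with a2 | a2 <;> rcases b2 with b2 | b2 <;> rcases c2 with c2 | c2 <;>
        simp only [a1, b1, c1, a2, b2, c2] at h1 h2 ⊢ <;> linarith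
    intro x xa xb xc i hi j hj
    have h1 := key x xa xb xc (e.symm ⟨i, hi⟩)
    have h2 := key x xa xb xc (e.symm ⟨j, hj⟩)
    have h3 : M 3 (e.symm ⟨i, hi⟩) = M 3 (e.symm ⟨j, hj⟩) := by
      simp only [M, Matrix.of_apply, Matrix.cons_val]
      rw [hconst]
    rw [h3, ← h2, Equiv.apply_symm_apply, Equiv.apply_symm_apply] at h1
    simpa using h1
  · have htot : ∑ i ∈ R, (a i + b i + c i) ^ 2 = 12 := by
      rw [Finset.sum_subset (Finset.subset_univ R) fun i _ hi => by
        obtain ⟨h1, h2, h3⟩ := hnot i hi; rw [h1, h2, h3]; norm_num]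
      calc ∑ i, (a i + b i + c i) ^ 2 = ∑ i, (a i * a i + b i * b i + c i * c i +
            2 * (a i * b i) + 2 * (a i * c i) + 2 * (b i * c i)) :=
            Finset.sum_congr rfl fun i _ => by ring
        _ = 12 := by
          simp only [Finset.sum_add_distrib, ← Finset.mul_sum, na, nb, nc, oab, oac, obc]
          norm_num
    have hv : ∀ i ∈ R, (a i + b i + c i) ^ 2 = 9 ∨ (a i + b i + c i) ^ 2 = 1 := by
      intro i hi
      obtain ⟨h1, h2, h3⟩ := hin i hi
      rcases h1 with h1 | h1 <;> rcases h2 with h2 | h2 <;> rcases h3 with h3 | h3 <;>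
        rw [h1, h2, h3] <;> norm_num
    obtain ⟨i₀, hi₀, h₀⟩ : ∃ i ∈ R, (a i + b i + c i) ^ 2 = 9 := by
      by_contra hh; push Not at hh
      rw [Finset.sum_congr rfl fun i hi => (hv i hi).resolve_left (hh i hi)] at htot
      simp [hcard] at htot
    obtain ⟨i₁, hi₁, h₁⟩ : ∃ i ∈ R, (a i + b i + c i) ^ 2 = 1 := by
      by_contra hh; push Not at hh
      rw [Finset.sum_congr rfl fun i hi => (hv i hi).resolve_right (hh i hi)] at htot
      simp [hcard] at htot
    exact ⟨i₀, hi₀, i₁, hi₁, h₀, h₁⟩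

/-- A short integer vector orthogonal to the rows and to the positive vector vanishes on the
support. -/
theorem eq_zero_of_const {R : Finset ι} (hR : R.card = 4) {v : ι → ℤ} {f : ι → ℕ}
    (hf : ∀ i, 0 < f i) (hn : ∑ i, v i * v i ≤ 4) (hvf : ∑ i, v i * (f i : ℤ) = 0)
    (hc : ∀ i ∈ R, ∀ j ∈ R, v i = v j) {i : ι} (hi : i ∈ R) : v i = 0 := by
  classical
  by_contra h
  have hh : ∀ j ∈ R, v j = v i := fun j hj => hc j hj i hi
  have h2 := Finset.sum_sdiff (s₁ := R) (f := fun j => v j * v j) (Finset.subset_univ R)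
  have h3 : ∑ j ∈ R, v j * v j = 4 * (v i * v i) := by
    rw [Finset.sum_congr rfl (fun j hj => show v j * v j = v i * v i by rw [hh j hj]),
      Finset.sum_const, hR, nsmul_eq_mul]
    norm_num
  rw [h3] at h2
  have h1 : (1 : ℤ) ≤ v i * v i := Int.add_one_le_iff.2 (mul_self_pos.2 h)
  have hz : ∀ j ∈ Finset.univ \ R, v j = 0 := by
    intro j hj
    have := Finset.single_le_sum (f := fun j => v j * v j) (fun j _ => mul_self_nonneg (v j)) hj
    exact mul_self_eq_zero.1 (le_antisymm (by linarith) (mul_self_nonneg _))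
  rw [← Finset.sum_sdiff (Finset.subset_univ R),
    Finset.sum_eq_zero (fun j hj => by rw [hz j hj, zero_mul]), zero_add,
    Finset.sum_congr rfl (fun j hj => by rw [hh j hj]), ← Finset.mul_sum] at hvf
  rcases mul_eq_zero.1 hvf with h0 | h0
  · exact h h0
  · have : 0 < ∑ j ∈ R, (f j : ℤ) := Finset.sum_pos (fun j _ => by exact_mod_cast hf j) ⟨i, hi⟩
    omega

end CfsgLib.ReeTypeS3
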