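import Cfsg.Agent.ReeTypeS3.Cycle
import Mathlib

/-!
# The signed columns of `Q`, of the odd part of the nonsplit torus and of the split torus
-/

set_option autoImplicit false
set_option linter.unusedSectionVars false
set_option linter.style.haveILetI false

namespace CfsgLib.ReeTypeS3

open Matrix
open scoped MatrixGroups

universe u v

variable {G : Type u} [Group G] [Fintype G] {F : Type v} [Field F] [Fintype F]

local notation "PST" => Matrix.ProjectiveSpecialLinearGroup (Fin 2) F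
local notation "qC" => (Fintype.card F : ℂ)

noncomputable local instance (priority := high) instFintypePST :
    Fintype (Matrix.ProjectiveSpecialLinearGroup (Fin 2) F) := Fintype.ofFinite _

noncomputable local instance (priority := high) instFintypeSubPST
    (H : Subgroup (Matrix.ProjectiveSpecialLinearGroup (Fin 2) F)) : Fintype H := Fintype.ofFinite _

/-- The scalar product of integer vectors. -/
def dotp {ι : Type*} [Fintype ι] (u w : ι → ℤ) : ℤ := ∑ i, u i * w i

section Dot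

variable {ι : Type*} [Fintype ι] (u u' w : ι → ℤ)

theorem dotp_comm : dotp u w = dotp w u := Finset.sum_congr rfl fun _ _ => mul_comm _ _

theorem dotp_sub : dotp (fun i => u i - u' i) w = dotp u w - dotp u' w := by
  simp only [dotp, sub_mul, Finset.sum_sub_distrib]

theorem dotp_add : dotp (fun i => u i + u' i) w = dotp u w + dotp u' w := by
  simp only [dotp, add_mul, Finset.sum_add_distrib]

theorem dotp_smul (n : ℤ) : dotp (fun i => n * u i) w = n * dotp u w := by
  simp only [dotp, Finset.mul_sum, mul_assoc]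

theorem dotp_sub' : dotp w (fun i => u i - u' i) = dotp w u - dotp w u' := by
  rw [dotp_comm, dotp_sub, dotp_comm u, dotp_comm u']

theorem dotp_add' : dotp w (fun i => u i + u' i) = dotp w u + dotp w u' := by
  rw [dotp_comm, dotp_add, dotp_comm u, dotp_comm u']

theorem dotp_smul' (n : ℤ) : dotp w (fun i => n * u i) = n * dotp w u := by
  rw [dotp_comm, dotp_smul, dotp_comm u]

end Dot

theorem neg_one_sq_F : (-1 : F) * (-1) = 1 := by ring

/-- An additive character of the field as a character of the unipotent subgroup. -/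
noncomputable def lam (e : F) : (subQ (F := F)) →* ℂˣ :=
  ((AddChar.mulShift (AddChar.FiniteField.primitiveChar_to_Complex F) e).toMonoidHom.toHomUnits).comp
    (MonoidHom.ofInjective (uQ_injective (F := F))).symm.toMonoidHom

theorem uQ_mem (x : Multiplicative F) : uQ x ∈ subQ (F := F) := ⟨x, rfl⟩

theorem lam_apply (e x : F) (h : uQ (.ofAdd x) ∈ subQ (F := F)) :
    ((lam e ⟨uQ (.ofAdd x), h⟩ : ℂˣ) : ℂ) = AddChar.FiniteField.primitiveChar_to_Complex F (e * x) := by
  have : (MonoidHom.ofInjective (uQ_injective (F := F))).symm ⟨uQ (.ofAdd x), h⟩ = .ofAdd x := by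
    rw [MulEquiv.symm_apply_eq]
    exact Subtype.ext rfl
  show (AddChar.mulShift (AddChar.FiniteField.primitiveChar_to_Complex F) e).toMonoidHom
    ((MonoidHom.ofInjective (uQ_injective (F := F))).symm ⟨uQ (.ofAdd x), h⟩) = _
  exact (congrArg (AddChar.mulShift (AddChar.FiniteField.primitiveChar_to_Complex F) e).toMonoidHom
    this).trans rfl

variable {E : Emb G (Matrix.ProjectiveSpecialLinearGroup (Fin 2) F)} (hyp : Hyp E)
include hyp

theorem two_mul_card_L :
    2 * (Fintype.card PST : ℂ) = qC * (qC ^ 2 - 1) := by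
  have h := two_mul_natCard_psl hyp
  rw [Nat.card_eq_fintype_card] at h
  have h' : (2 * Fintype.card PST : ℂ) =
      ((Fintype.card F * (Fintype.card F ^ 2 - 1) : ℕ) : ℂ) := by exact_mod_cast h
  rw [h']
  push_cast [Nat.cast_sub (Nat.one_le_pow _ _ Fintype.card_pos)]
  ring

theorem dot_of_gsum (H : Subgroup PST) (α : H →* ℂˣ) (K : Subgroup PST) (β : K →* ℂˣ)
    (hH : Odd (Nat.card H)) (hK : Odd (Nat.card K)) (z : ℤ)
    (h : 2 * gsum H α K β = (Nat.card H : ℂ) * (Nat.card K : ℂ) * (z : ℂ)) :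
    dotp (Pz E H α) (Pz E K β) = z := by
  have h1 := sum_P_mul E H α K β hH hK
  rw [h, Nat.card_eq_fintype_card, Nat.card_eq_fintype_card, mul_div_cancel_left₀ _
    (mul_ne_zero (Nat.cast_ne_zero.2 Fintype.card_ne_zero) (Nat.cast_ne_zero.2 Fintype.card_ne_zero))]
    at h1
  rw [dotp]
  exact_mod_cast h1

theorem odd_subQ : Odd (Nat.card (subQ (F := F))) := by
  rw [natCard_subQ, Nat.card_eq_fintype_card, Nat.odd_iff]
  have := hyp.mod8
  omega

theorem gsum_subQ {e₁ e₂ : F} (h₁ : e₁ * e₁ = 1) (h₂ : e₂ * e₂ = 1) [Decidable (e₁ = e₂)] :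
    2 * gsum (subQ (F := F)) (lam e₁) (subQ (F := F)) (lam e₂) =
      qC * qC * (if e₁ = e₂ then qC + 1 else qC - 1) := by
  classical
  have h2 := two_ne hyp
  have h4 : Fintype.card F % 4 = 3 := by have := hyp.mod8; omega
  obtain ⟨B, hB⟩ : ∃ B : Finset PST, B = Finset.univ.filter fun l => InB l := ⟨_, rfl⟩
  have hmem : ∀ l, l ∈ B ↔ InB l := fun l => by simp [hB]
  have hin : ∀ l ∈ B, ∀ h : subQ (F := F), l * (h : PST) * l⁻¹ ∈ subQ (F := F) := by
    rintro l hl ⟨_, b, rfl⟩
    obtain ⟨a, -, ha⟩ := inB_conj ((hmem l).1 hl)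
    exact ⟨_, (ha (Multiplicative.toAdd b)).symm⟩
  have hout : ∀ l ∉ B, ∀ h : subQ (F := F), h ≠ 1 → l * (h : PST) * l⁻¹ ∉ subQ (F := F) :=
    fun l hl h hh hc => hl ((hmem l).2 (inB_of_conj h2 h.2 (fun e => hh (Subtype.ext e)) hc))
  rw [gsum_eq (subQ (F := F)) (lam e₁) (subQ (F := F)) (lam e₂) B hout hin
    (fun l => if e₁ = e₂ ∧ l ∈ subQ (F := F) then qC else 0) fun l hl => ?_]
  · have hBc : 2 * (B.card : ℂ) = qC * (qC - 1) := by
      have h := two_mul_natCard_inB (F := F) h2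
      rw [Nat.card_eq_fintype_card, Fintype.card_subtype, ← hB] at h
      have h' : (2 * B.card : ℂ) = ((Fintype.card F * (Fintype.card F - 1) : ℕ) : ℂ) := by
        exact_mod_cast h
      rw [h']
      push_cast [Nat.cast_sub (Nat.one_le_iff_ne_zero.2 Fintype.card_ne_zero)]
      ring
    have hL := two_mul_card_L hyp
    by_cases he : e₁ = e₂
    · have hQ : (B.filter fun l => e₁ = e₂ ∧ l ∈ subQ (F := F)) =
          Finset.univ.filter fun l => l ∈ subQ (F := F) := by
        ext l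
        simp only [Finset.mem_filter, he, true_and, Finset.mem_univ, hmem, and_iff_right_iff_imp]
        rintro ⟨b, rfl⟩
        exact inB_iff.2 ⟨LocalEven50.upperHom F b,
          (show (LocalEven50.upperHom F b : Matrix (Fin 2) (Fin 2) F) 1 0 = 0 from rfl), rfl⟩
      rw [if_pos he, ← Finset.sum_filter, hQ, Finset.sum_const, nsmul_eq_mul,
        ← Fintype.card_subtype,
        show Fintype.card {l // l ∈ subQ (F := F)} = Fintype.card F by
          rw [← Nat.card_eq_fintype_card, ← Nat.card_eq_fintype_card]; exact natCard_subQ]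
      linear_combination hL - hBc
    · rw [if_neg he, Finset.sum_eq_zero fun l _ => by rw [if_neg fun h => he h.1]]
      linear_combination hL - hBc
  · obtain ⟨a, -, ha⟩ := inB_conj ((hmem l).1 hl)
    let ψ := AddChar.FiniteField.primitiveChar_to_Complex F
    have hψ : ψ.IsPrimitive := AddChar.FiniteField.primitiveChar_to_Complex_isPrimitive F
    calc ∑ h : subQ (F := F), (((lam e₁ h)⁻¹ : ℂˣ) : ℂ) *
          ((lam e₂ ⟨l * (h : PST) * l⁻¹, hin l hl h⟩ : ℂˣ) : ℂ)
        = ∑ x : F, ψ (x * (e₂ * (a * a) - e₁)) := by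
          refine (Fintype.sum_bijective (fun x : F => (⟨uQ (.ofAdd x), uQ_mem _⟩ : subQ (F := F)))
            ⟨fun x y h => ?_, ?_⟩ _ _ fun x => ?_).symm
          · exact Multiplicative.ofAdd.injective (uQ_injective (congrArg Subtype.val h))
          · rintro ⟨_, b, rfl⟩
            exact ⟨Multiplicative.toAdd b, rfl⟩
          · have e : (⟨l * uQ (.ofAdd x) * l⁻¹, hin l hl ⟨_, uQ_mem _⟩⟩ : subQ (F := F)) =
                ⟨uQ (.ofAdd (a * a * x)), uQ_mem _⟩ := Subtype.ext (ha x)
            rw [e, Units.val_inv_eq_inv_val, lam_apply, lam_apply,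
              show x * (e₂ * (a * a) - e₁) = -(e₁ * x) + e₂ * (a * a * x) by ring,
              AddChar.map_add_eq_mul, AddChar.map_neg_eq_inv]
      _ = if e₁ = e₂ ∧ l ∈ subQ (F := F) then qC else 0 := by
          rw [AddChar.sum_mulShift _ hψ]
          have hiff : e₂ * (a * a) - e₁ = 0 ↔ e₁ = e₂ ∧ l ∈ subQ (F := F) := by
            constructor
            · intro h
              have haa : a * a = e₂ * e₁ := by linear_combination e₂ * h - (a * a) * h₂
              rcases mul_self_eq_one_iff.1 h₁ with rfl | rfl <;>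
                rcases mul_self_eq_one_iff.1 h₂ with rfl | rfl
              · exact ⟨rfl, mem_subQ_of_commute h2 (by rw [ha, haa]; norm_num)⟩
              · exact absurd (FiniteField.isSquare_neg_one_iff.1 ⟨a, by rw [haa]; ring⟩) (not_not.2 h4)
              · exact absurd (FiniteField.isSquare_neg_one_iff.1 ⟨a, by rw [haa]; ring⟩) (not_not.2 h4)
              · exact ⟨rfl, mem_subQ_of_commute h2 (by rw [ha, haa]; norm_num)⟩
            · rintro ⟨rfl, b, rfl⟩
              have h := ha 1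
              rw [← map_inv, ← map_mul, ← map_mul, mul_comm b, mul_inv_cancel_right, mul_one] at h
              have haa : a * a = 1 := (congrArg Multiplicative.toAdd (uQ_injective h)).symm
              rw [haa]; ring
          by_cases h : e₁ = e₂ ∧ l ∈ subQ (F := F)
          · rw [if_pos h, if_pos (hiff.2 h)]
          · rw [if_neg h, if_neg fun h' => h (hiff.1 h'), Nat.cast_zero]

theorem gsum_tor {g : SL(2, F)} (htr : SL2Tori.tr g ^ 2 ≠ 4) (H : Subgroup PST) (hH : H ≤ tor g)
    (α β : H →* ℂˣ) [Decidable (α = β)] [Decidable (α = β⁻¹)] :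
    gsum H α H β = ((Fintype.card PST : ℂ) - 2 * (Nat.card (tor g) : ℂ)) +
      (Nat.card H : ℂ) * (Nat.card (tor g) : ℂ) *
        ((if α = β then 1 else 0) + (if α = β⁻¹ then 1 else 0)) := by
  classical
  have hA : (Finset.univ.filter fun l : PST => l ∈ tor g).card = Nat.card (tor g) := by
    rw [Nat.card_eq_fintype_card, ← Fintype.card_subtype]
  have hN : (Finset.univ.filter fun l : PST => l ∈ torN g).card = Nat.card (torN g) := by
    rw [Nat.card_eq_fintype_card, ← Fintype.card_subtype]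
  rw [gsum_torus H α β (Finset.univ.filter fun l : PST => l ∈ torN g)
    (Finset.univ.filter fun l : PST => l ∈ tor g) ?_ ?_ ?_ ?_ ?_, hA, Nat.card_eq_fintype_card (α := H)]
  · congr
  · intro l hl
    simp only [Finset.mem_filter, Finset.mem_univ, true_and] at hl ⊢
    exact tor_le_torN g hl
  · intro l hl h
    simp only [Finset.mem_filter, Finset.mem_univ, true_and] at hl
    rw [tor_comm htr hl (hH h.2), mul_inv_cancel_right]
  · intro l hl hl' h
    simp only [Finset.mem_filter, Finset.mem_univ, true_and] at hl hl'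
    exact (torN_cases htr hl).resolve_left hl' _ (hH h.2)
  · intro l hl h hh hc
    simp only [Finset.mem_filter, Finset.mem_univ, true_and] at hl
    exact hl (mem_torN_of_conj htr (hH h.2) (fun e => hh (Subtype.ext e)) (hH hc))
  · rw [hA, hN, natCard_torN htr (two_ne hyp)]

/-! ### The vectors -/

omit hyp

/-- The sum of the two unipotent columns. -/
noncomputable def vN (E : Emb G (Matrix.ProjectiveSpecialLinearGroup (Fin 2) F)) :
    Cfsg.IrrCharacter G → ℤ :=
  fun χ => Pz E (subQ (F := F)) (lam 1) χ + Pz E (subQ (F := F)) (lam (-1)) χ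

/-- Their difference. -/
noncomputable def vK (E : Emb G (Matrix.ProjectiveSpecialLinearGroup (Fin 2) F)) :
    Cfsg.IrrCharacter G → ℤ :=
  fun χ => Pz E (subQ (F := F)) (lam 1) χ - Pz E (subQ (F := F)) (lam (-1)) χ

/-- The short columns of the nonsplit torus. -/
noncomputable def vP (c : Cyc E) (ν : c.Cr →* ℂˣ) : Cfsg.IrrCharacter G → ℤ :=
  fun χ => 2 * vN E χ - Pz E c.Cr ν χ

/-- The short columns of the split torus. -/
noncomputable def vR (E : Emb G (Matrix.ProjectiveSpecialLinearGroup (Fin 2) F))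
    (T : Subgroup (Matrix.ProjectiveSpecialLinearGroup (Fin 2) F)) (τ : T →* ℂˣ) :
    Cfsg.IrrCharacter G → ℤ :=
  fun χ => Pz E T τ χ - vN E χ

variable (c : Cyc E)
include hyp

theorem dot_subQ {e₁ e₂ : F} (h₁ : e₁ * e₁ = 1) (h₂ : e₂ * e₂ = 1) [Decidable (e₁ = e₂)] :
    dotp (Pz E (subQ (F := F)) (lam e₁)) (Pz E (subQ (F := F)) (lam e₂)) =
      if e₁ = e₂ then (Fintype.card F : ℤ) + 1 else (Fintype.card F : ℤ) - 1 := by
  refine dot_of_gsum hyp _ _ _ _ (odd_subQ hyp) (odd_subQ hyp) _ ?_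
  rw [gsum_subQ hyp h₁ h₂, natCard_subQ, Nat.card_eq_fintype_card]
  split_ifs <;> push_cast <;> ring

theorem one_ne_neg_one : (1 : F) ≠ -1 := fun h => two_ne hyp (by linear_combination h)

theorem dot_NN : dotp (vN E) (vN E) = 4 * (Fintype.card F : ℤ) := by
  classical
  have hne := one_ne_neg_one hyp
  unfold vN
  simp only [dotp_add, dotp_add', dot_subQ hyp (one_mul (1 : F)) (one_mul 1),
    dot_subQ hyp (one_mul (1 : F)) (neg_one_sq_F), dot_subQ hyp
    (neg_one_sq_F) (one_mul 1), dot_subQ hyp (neg_one_sq_F)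
    (neg_one_sq_F), if_true, if_neg hne, if_neg hne.symm]
  ring

theorem dot_KN : dotp (vK E) (vN E) = 0 := by
  classical
  have hne := one_ne_neg_one hyp
  unfold vK vN
  simp only [dotp_sub, dotp_add', dot_subQ hyp (one_mul (1 : F)) (one_mul 1),
    dot_subQ hyp (one_mul (1 : F)) (neg_one_sq_F), dot_subQ hyp
    (neg_one_sq_F) (one_mul 1), dot_subQ hyp (neg_one_sq_F)
    (neg_one_sq_F), if_true, if_neg hne, if_neg hne.symm]
  ring

theorem dot_KK : dotp (vK E) (vK E) = 4 := by
  classical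
  have hne := one_ne_neg_one hyp
  unfold vK
  simp only [dotp_sub, dotp_sub', dot_subQ hyp (one_mul (1 : F)) (one_mul 1),
    dot_subQ hyp (one_mul (1 : F)) (neg_one_sq_F), dot_subQ hyp
    (neg_one_sq_F) (one_mul 1), dot_subQ hyp (neg_one_sq_F)
    (neg_one_sq_F), if_true, if_neg hne, if_neg hne.symm]
  ring

theorem q_eq : qC = 4 * (rOf F : ℂ) - 1 := by
  have h := (rOf_facts hyp).1
  have h' : (4 * rOf F : ℂ) = (Fintype.card F + 1 : ℕ) := by exact_mod_cast h
  rw [h']; push_cast; ring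

theorem coprime_q {n : ℕ} (hn : ¬ 3 ∣ n) : Nat.Coprime (Fintype.card F) n := by
  obtain ⟨k, -, hk⟩ := hyp.three
  rw [hk]
  exact (Nat.prime_three.coprime_iff_not_dvd.2 hn).pow_left k

theorem dot_QH (e : F) (ν : c.Cr →* ℂˣ) :
    dotp (Pz E (subQ (F := F)) (lam e)) (Pz E c.Cr ν) = 4 * ((Fintype.card F : ℤ) - 1) := by
  refine dot_of_gsum hyp _ _ _ _ (odd_subQ hyp) (c.odd_Cr hyp) _ ?_
  rw [gsum_coprime, natCard_subQ, Nat.card_eq_fintype_card, c.natCard_Cr hyp]
  · push_cast
    linear_combination two_mul_card_L hyp + qC * (qC - 1) * q_eq hyp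
  · rw [natCard_subQ, Nat.card_eq_fintype_card, c.natCard_Cr hyp]
    refine coprime_q hyp ?_
    have := (rOf_facts hyp).2.2.2
    omega

theorem dot_NH (ν : c.Cr →* ℂˣ) : dotp (vN E) (Pz E c.Cr ν) = 8 * ((Fintype.card F : ℤ) - 1) := by
  unfold vN
  simp only [dotp_add, dot_QH hyp c]; ring

theorem dot_KH (ν : c.Cr →* ℂˣ) : dotp (vK E) (Pz E c.Cr ν) = 0 := by
  unfold vK
  simp only [dotp_sub, dot_QH hyp c]; ring

/-- The indicator of equality up to inversion. -/
noncomputable def dlt {H : Type v} [Group H] (α β : H →* ℂˣ) : ℤ := by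
  classical exact (if α = β then 1 else 0) + (if α = β⁻¹ then 1 else 0)

theorem dot_HH (ν ν' : c.Cr →* ℂˣ) :
    dotp (Pz E c.Cr ν) (Pz E c.Cr ν') = 16 * ((Fintype.card F : ℤ) - 2) + 4 * dlt ν ν' := by
  classical
  refine dot_of_gsum hyp _ _ _ _ (c.odd_Cr hyp) (c.odd_Cr hyp) _ ?_
  rw [gsum_tor hyp c.htr c.Cr c.Cr_le, c.natCard_tor hyp, c.natCard_Cr hyp]
  unfold dlt
  split_ifs <;> push_cast <;>
    linear_combination two_mul_card_L hyp + (qC * (qC - 1) + 4 * (rOf F : ℂ) * (qC - 2)) * q_eq hyp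

theorem dot_PP (ν ν' : c.Cr →* ℂˣ) : dotp (vP c ν) (vP c ν') = 4 * dlt ν ν' := by
  have hs : ∀ x y, dotp (Pz E c.Cr x) (vN E) = dotp (vN E) (Pz E c.Cr y) := fun x y => by
    rw [dotp_comm, dot_NH hyp c, dot_NH hyp c]
  unfold vP
  simp only [dotp_sub, dotp_sub', dotp_smul, dotp_smul', dot_NN hyp, dot_NH hyp c, hs ν ν, dot_HH hyp c]
  ring

theorem dot_KP (ν : c.Cr →* ℂˣ) : dotp (vK E) (vP c ν) = 0 := by
  unfold vP
  simp only [dotp_sub', dotp_smul', dot_KN hyp, dot_KH hyp c]
  ring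

variable {g : SL(2, F)} (htr : SL2Tori.tr g ^ 2 ≠ 4) (hg : 2 * Nat.card (tor g) = Fintype.card F - 1)
include htr hg

theorem natCard_split : (2 * (Nat.card (tor g) : ℂ) = qC - 1) ∧ Odd (Nat.card (tor g)) ∧
    ¬ 3 ∣ Nat.card (tor g) := by
  have h8 := hyp.mod8
  obtain ⟨k, hk, hq⟩ := hyp.three
  have h3 : Fintype.card F % 3 = 0 := by
    rw [hq]; exact Nat.mod_eq_zero_of_dvd (dvd_pow_self 3 (by omega))
  refine ⟨?_, Nat.odd_iff.2 (by omega), by omega⟩
  have h : (2 * Nat.card (tor g) : ℂ) = ((Fintype.card F - 1 : ℕ) : ℂ) := by exact_mod_cast hg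
  rw [h, Nat.cast_sub (by omega), Nat.cast_one]

theorem dot_QT (e : F) (τ : tor g →* ℂˣ) :
    dotp (Pz E (subQ (F := F)) (lam e)) (Pz E (tor g) τ) = 2 * ((Fintype.card F : ℤ) + 1) := by
  obtain ⟨hs, hodd, h3⟩ := natCard_split hyp htr hg
  refine dot_of_gsum hyp _ _ _ _ (odd_subQ hyp) hodd _ ?_
  rw [gsum_coprime, natCard_subQ, Nat.card_eq_fintype_card (α := F)]
  · push_cast
    linear_combination two_mul_card_L hyp - qC * (qC + 1) * hs
  · rw [natCard_subQ, Nat.card_eq_fintype_card (α := F)]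
    exact coprime_q hyp h3

theorem dot_HT (ν : c.Cr →* ℂˣ) (τ : tor g →* ℂˣ) :
    dotp (Pz E c.Cr ν) (Pz E (tor g) τ) = 8 * (Fintype.card F : ℤ) := by
  obtain ⟨hs, hodd, -⟩ := natCard_split hyp htr hg
  refine dot_of_gsum hyp _ _ _ _ (c.odd_Cr hyp) hodd _ ?_
  rw [gsum_coprime, c.natCard_Cr hyp]
  · push_cast
    linear_combination two_mul_card_L hyp + qC * (qC - 1) * q_eq hyp - 4 * (rOf F : ℂ) * qC * hs
  · rw [c.natCard_Cr hyp]
    have hr := (rOf_facts hyp).1
    have hro := (rOf_facts hyp).2.1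
    have hd : Nat.gcd (rOf F) (Nat.card (tor g)) ∣ 1 := by
      have h1 : Nat.gcd (rOf F) (Nat.card (tor g)) ∣ Fintype.card F + 1 :=
        hr ▸ (Nat.gcd_dvd_left _ _).mul_left 4
      have h2 : Nat.gcd (rOf F) (Nat.card (tor g)) ∣ Fintype.card F - 1 :=
        hg ▸ (Nat.gcd_dvd_right _ _).mul_left 2
      have h3 := Nat.dvd_sub h1 h2
      rw [show Fintype.card F + 1 - (Fintype.card F - 1) = 2 by have := hyp.mod8; omega] at h3
      have h4 : Odd (Nat.gcd (rOf F) (Nat.card (tor g))) := hro.of_dvd_nat (Nat.gcd_dvd_left _ _)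
      rcases (Nat.dvd_prime Nat.prime_two).1 h3 with h5 | h5
      · rw [h5]
      · rw [h5] at h4; exact absurd h4 (by decide)
    exact Nat.dvd_one.1 hd

theorem dot_TT (τ τ' : tor g →* ℂˣ) :
    dotp (Pz E (tor g) τ) (Pz E (tor g) τ') = 4 * ((Fintype.card F : ℤ) + 2) + 2 * dlt τ τ' := by
  classical
  obtain ⟨hs, hodd, -⟩ := natCard_split hyp htr hg
  refine dot_of_gsum hyp _ _ _ _ hodd hodd _ ?_
  rw [gsum_tor hyp htr (tor g) le_rfl]
  unfold dlt
  split_ifs <;> push_cast <;>
    linear_combination two_mul_card_L hyp -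
      ((qC + 2) * (2 * (Nat.card (tor g) : ℂ) + qC - 1) + 2) * hs

theorem dot_NT (τ : tor g →* ℂˣ) :
    dotp (vN E) (Pz E (tor g) τ) = 4 * ((Fintype.card F : ℤ) + 1) := by
  unfold vN
  simp only [dotp_add, dot_QT hyp htr hg]; ring

theorem dot_RR (τ τ' : tor g →* ℂˣ) : dotp (vR E (tor g) τ) (vR E (tor g) τ') = 2 * dlt τ τ' := by
  have hs : dotp (Pz E (tor g) τ) (vN E) = 4 * ((Fintype.card F : ℤ) + 1) := by
    rw [dotp_comm, dot_NT hyp htr hg]
  unfold vR
  simp only [dotp_sub, dotp_sub', dot_NN hyp, dot_NT hyp htr hg, hs, dot_TT hyp htr hg]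
  ring

theorem dot_RP (τ : tor g →* ℂˣ) (ν : c.Cr →* ℂˣ) : dotp (vR E (tor g) τ) (vP c ν) = 0 := by
  unfold vR vP
  have hs : dotp (Pz E (tor g) τ) (vN E) = 4 * ((Fintype.card F : ℤ) + 1) := by
    rw [dotp_comm, dot_NT hyp htr hg]
  have hs' : dotp (Pz E (tor g) τ) (Pz E c.Cr ν) = 8 * (Fintype.card F : ℤ) := by
    rw [dotp_comm, dot_HT hyp c htr hg]
  simp only [dotp_sub, dotp_sub', dotp_smul', dot_NN hyp, dot_NH hyp c, hs, hs']
  ring

end CfsgLib.ReeTypeS3
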