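import Cfsg.Agent.Characters.Integrality
import Cfsg.Agent.Characters.Orthogonality
import Mathlib

/-!
# Class sums, orbit sums and characters of cyclic groups
-/

set_option autoImplicit false
set_option linter.unusedSectionVars false
set_option linter.style.haveILetI false

namespace CfsgLib.ReeTypeS3

universe u v

section ClassSum

variable {G : Type u} [Group G] [Fintype G]

/-- The character of the square of a class sum. -/
theorem degree_mul_sum_class (χ : Cfsg.IrrCharacter G) (K : Finset G)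
    (hK : ∀ g h : G, h * g * h⁻¹ ∈ K ↔ g ∈ K) {t : G} (hKt : ∀ x ∈ K, IsConj x t) :
    (χ : G → ℂ) 1 * ∑ p ∈ K ×ˢ K, (χ : G → ℂ) (p.1 * p.2) =
      ((K.card : ℂ) * (χ : G → ℂ) t) ^ 2 := by
  obtain ⟨n, ρ, hρ, hρχ⟩ := χ.2
  rw [← hρχ]
  have hcomm : ∀ (h : G) (x : Fin n → ℂ), (∑ g ∈ K, ρ g) (ρ h x) = ρ h ((∑ g ∈ K, ρ g) x) := by
    intro h x
    simp only [LinearMap.sum_apply, map_sum, ← Module.End.mul_apply, ← map_mul]
    refine Finset.sum_bij (fun g _ => h⁻¹ * g * h) ?_ ?_ ?_ ?_
    · intro g hg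
      simpa using (hK g h⁻¹).2 hg
    · intro g _ g' _ hgg
      simpa using hgg
    · intro g hg
      exact ⟨h * g * h⁻¹, (hK g h).2 hg, by group⟩
    · intro g _
      congr 2
      group
  obtain ⟨c, hc⟩ := Characters.schur_scalar ρ _ hcomm
  have h1 : ∑ g ∈ K, ρ.character g = c * (Module.finrank ℂ (Fin n → ℂ) : ℂ) := by
    have ht := congrArg (LinearMap.trace ℂ (Fin n → ℂ)) hc
    rw [Characters.trace_smul_id, map_sum] at ht
    exact ht
  have h2 : ∑ p ∈ K ×ˢ K, ρ.character (p.1 * p.2) = c * c * (Module.finrank ℂ (Fin n → ℂ) : ℂ) := by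
    have hsq : (∑ p ∈ K ×ˢ K, ρ (p.1 * p.2) : Module.End ℂ (Fin n → ℂ)) =
        (c * c) • LinearMap.id := by
      rw [Finset.sum_product]
      simp only [map_mul, ← Finset.mul_sum, ← Finset.sum_mul, hc]
      rw [← Module.End.one_eq_id, smul_mul_smul_comm, one_mul]
    have ht := congrArg (LinearMap.trace ℂ (Fin n → ℂ)) hsq
    rw [Characters.trace_smul_id, map_sum] at ht
    exact ht
  have h3 : ∑ g ∈ K, ρ.character g = (K.card : ℂ) * ρ.character t := by
    rw [Finset.sum_congr rfl fun g hg => Characters.classFunction_isConj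
      (Characters.isClassFunction_of_isCharacter (Characters.isCharacter_character ρ)) (hKt g hg),
      Finset.sum_const, nsmul_eq_mul]
  rw [h2, ← h3, h1, Representation.char_one]
  ring

end ClassSum

section Orbit

/-- An invariant integral function vanishing on the fixed points of a 3-group sums to three times an
algebraic integer. -/
theorem exists_three_mul {P X : Type*} [Group P] [Finite P] [Fintype X] [MulAction P X]
    (hP : IsPGroup 3 P) (D : X → ℂ) (hinv : ∀ (g : P) (x : X), D (g • x) = D x)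
    (hint : ∀ x, IsIntegral ℤ (D x)) (hfix : ∀ x, (∀ g : P, g • x = x) → D x = 0) :
    ∃ a : ℂ, IsIntegral ℤ a ∧ ∑ x, D x = 3 * a := by
  classical
  haveI : Fact (Nat.Prime 3) := ⟨Nat.prime_three⟩
  haveI : Fintype (MulAction.orbitRel.Quotient P X) := Fintype.ofFinite _
  have key : ∀ ω : MulAction.orbitRel.Quotient P X, ∃ a : ℂ, IsIntegral ℤ a ∧
      ∑ x with Quotient.mk'' x = ω, D x = 3 * a := by
    intro ω
    induction ω using Quotient.inductionOn' with
    | h x₀ =>
      have hmem : ∀ x, x ∈ Finset.univ.filter (fun x : X =>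
          (Quotient.mk'' x : MulAction.orbitRel.Quotient P X) = Quotient.mk'' x₀) ↔
          x ∈ MulAction.orbit P x₀ := by
        intro x
        simp only [Finset.mem_filter, Finset.mem_univ, true_and]
        exact Quotient.eq''.trans MulAction.orbitRel_apply
      rw [Finset.sum_congr rfl (g := fun _ => D x₀) fun x hx => by
        obtain ⟨g, rfl⟩ := (hmem x).1 hx
        exact hinv g x₀, Finset.sum_const, nsmul_eq_mul]
      have hc : (Finset.univ.filter (fun x : X =>
          (Quotient.mk'' x : MulAction.orbitRel.Quotient P X) = Quotient.mk'' x₀)).card =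
          Nat.card (MulAction.orbit P x₀) := by
        rw [Nat.card_coe_set_eq, ← Set.ncard_coe_finset]
        congr 1
        ext x
        exact hmem x
      obtain ⟨n, hn⟩ := hP.card_orbit x₀
      rcases n with _ | n
      · refine ⟨0, isIntegral_zero, ?_⟩
        have : D x₀ = 0 := hfix x₀ fun g => by
          rw [pow_zero, Nat.card_eq_one_iff_unique] at hn
          obtain ⟨hs, -⟩ := hn
          exact congrArg Subtype.val (hs.elim ⟨g • x₀, MulAction.mem_orbit _ g⟩
            ⟨x₀, MulAction.mem_orbit_self _⟩)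
        rw [this, mul_zero, mul_zero]
      · refine ⟨((3 ^ n : ℕ) : ℂ) * D x₀, (isIntegral_algebraMap (x := ((3 ^ n : ℕ) : ℤ))).mul
          (hint x₀) |> fun h => by simpa using h, ?_⟩
        rw [hc, hn]
        push_cast
        ring
  choose a ha hsum using key
  refine ⟨∑ ω, a ω, IsIntegral.sum _ fun ω _ => ha ω, ?_⟩
  rw [Finset.mul_sum, ← Finset.sum_congr rfl fun ω _ => hsum ω,
    Finset.sum_fiberwise_of_maps_to (fun x _ => Finset.mem_univ _) D]

end Orbit

section Cyclic

variable {H : Type v} [Group H] [Finite H] [IsCyclic H]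

theorem exists_faithful : ∃ μ : H →* ℂˣ, Function.Injective μ := by
  classical
  obtain ⟨g, hg⟩ := IsCyclic.exists_generator (α := H)
  have hn : orderOf g ≠ 0 := (orderOf_pos g).ne'
  obtain ⟨ζ, hζ⟩ : ∃ ζ : ℂˣ, IsPrimitiveRoot ζ (orderOf g) :=
    ⟨(Complex.isPrimitiveRoot_exp _ hn).isUnit hn |>.unit,
      (Complex.isPrimitiveRoot_exp _ hn).isUnit_unit hn⟩
  have hd : orderOf ζ ∣ orderOf g := by rw [← hζ.eq_orderOf]
  refine ⟨monoidHomOfForallMemZpowers hg hd, (injective_iff_map_eq_one _).2 fun x hx => ?_⟩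
  obtain ⟨k, rfl⟩ := hg x
  change monoidHomOfForallMemZpowers hg hd (g ^ k) = 1 at hx
  rw [map_zpow, monoidHomOfForallMemZpowers_apply_gen, hζ.zpow_eq_one_iff_dvd] at hx
  exact orderOf_dvd_iff_zpow_eq_one.1 hx

variable {μ : H →* ℂˣ} (hμ : Function.Injective μ)
include hμ

theorem pow_injOn {i j : ℕ} (hi : i < Nat.card H) (hj : j < Nat.card H) (h : μ ^ i = μ ^ j) :
    i = j := by
  obtain ⟨g, hg⟩ := IsCyclic.exists_generator (α := H)
  have hc : orderOf g = Nat.card H := orderOf_eq_card_of_forall_mem_zpowers hg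
  have h' := DFunLike.congr_fun h g
  rw [MonoidHom.pow_apply, MonoidHom.pow_apply, ← map_pow, ← map_pow] at h'
  exact pow_injOn_Iio_orderOf (by simpa [hc] using hi) (by simpa [hc] using hj) (hμ h')

theorem exists_pow_eq (ν : H →* ℂˣ) : ∃ j < Nat.card H, μ ^ j = ν := by
  obtain ⟨g, hg⟩ := IsCyclic.exists_generator (α := H)
  have hc : orderOf g = Nat.card H := orderOf_eq_card_of_forall_mem_zpowers hg
  haveI : NeZero (Nat.card H) := ⟨Nat.card_pos.ne'⟩
  have hprim : IsPrimitiveRoot ((μ g : ℂˣ) : ℂ) (Nat.card H) := by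
    rw [IsPrimitiveRoot.coe_units_iff, ← hc, ← orderOf_injective μ hμ g]
    exact IsPrimitiveRoot.orderOf _
  obtain ⟨j, hj, he⟩ := hprim.eq_pow_of_pow_eq_one (ξ := ((ν g : ℂˣ) : ℂ))
    (by rw [← Units.val_pow_eq_pow_val, ← map_pow, ← hc, pow_orderOf_eq_one, map_one, Units.val_one])
  refine ⟨j, hj, MonoidHom.ext fun x => ?_⟩
  obtain ⟨k, rfl⟩ := hg x
  have : (μ ^ j) g = ν g := Units.ext (by rw [MonoidHom.pow_apply, Units.val_pow_eq_pow_val, he])
  show (μ ^ j) (g ^ k) = ν (g ^ k)
  rw [map_zpow, map_zpow, this]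

theorem sum_range_pow [DecidableEq H] (h : H) :
    ∑ j ∈ Finset.range (Nat.card H), ((((μ ^ j) h)⁻¹ : ℂˣ) : ℂ) =
      if h = 1 then (Nat.card H : ℂ) else 0 := by
  split_ifs with h1
  · simp [h1]
  · simp only [MonoidHom.pow_apply, ← inv_pow, Units.val_pow_eq_pow_val]
    have hne : (((μ h)⁻¹ : ℂˣ) : ℂ) ≠ 1 := by
      rw [Ne, Units.val_eq_one, inv_eq_one, ← map_one μ]
      exact fun e => h1 (hμ e)
    rw [geom_sum_eq hne, ← Units.val_pow_eq_pow_val, inv_pow, ← map_pow, pow_card_eq_one', map_one,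
      inv_one, Units.val_one, sub_self, zero_div]

end Cyclic

end CfsgLib.ReeTypeS3
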