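import Cfsg.Agent.ReeTypeS3.Columns
import Cfsg.Agent.ReeTypeS3.Rows
import Cfsg.Agent.ReeTypeS3.Tools
import Cfsg.Agent.PRational.Basic

/-!
# The cycling element centralises the odd part of the torus

If it moved it, three columns of norm four would sit on four characters of equal degree that agree
off the sections of `t`; a class sum count then gives a contradiction modulo three.
-/

set_option autoImplicit false
set_option linter.unusedSectionVars false
set_option linter.style.haveILetI false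

namespace CfsgLib.ReeTypeS3

open Matrix
open scoped MatrixGroups ComplexConjugate

universe u v

variable {G : Type u} [Group G] [Fintype G] {F : Type v} [Field F] [Fintype F]

local notation "PST" => Matrix.ProjectiveSpecialLinearGroup (Fin 2) F

noncomputable local instance (priority := high) instFintypePST' :
    Fintype (Matrix.ProjectiveSpecialLinearGroup (Fin 2) F) := Fintype.ofFinite _

noncomputable local instance (priority := high) instFintypeSubPST'
    (H : Subgroup (Matrix.ProjectiveSpecialLinearGroup (Fin 2) F)) : Fintype H := Fintype.ofFinite _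

variable {E : Emb G (Matrix.ProjectiveSpecialLinearGroup (Fin 2) F)} (hyp : Hyp E) (c : Cyc E)

/-- The degree of an irreducible character. -/
noncomputable def deg (χ : Cfsg.IrrCharacter G) : ℕ :=
  (Characters.exists_degree_pos χ.2).choose

theorem deg_pos (χ : Cfsg.IrrCharacter G) : 0 < deg χ :=
  (Characters.exists_degree_pos χ.2).choose_spec.1

theorem deg_spec (χ : Cfsg.IrrCharacter G) : (χ : G → ℂ) 1 = (deg χ : ℂ) :=
  (Characters.exists_degree_pos χ.2).choose_spec.2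

theorem deg_orth (H : Subgroup PST) (α : H →* ℂˣ) :
    ∑ χ : Cfsg.IrrCharacter G, Pz E H α χ * (deg χ : ℤ) = 0 := by
  have h := sum_degree_mul_Pz E H α
  simp only [deg_spec] at h
  have : ∑ χ : Cfsg.IrrCharacter G, (Pz E H α χ : ℂ) * (deg χ : ℂ) = 0 := by
    rw [← h]; exact Finset.sum_congr rfl fun _ _ => mul_comm _ _
  exact_mod_cast this

theorem deg_orth_vP (ν : c.Cr →* ℂˣ) :
    ∑ χ : Cfsg.IrrCharacter G, vP c ν χ * (deg χ : ℤ) = 0 := by
  simp only [vP, vN, sub_mul, mul_add, add_mul, Finset.sum_sub_distrib, Finset.sum_add_distrib,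
    mul_assoc, ← Finset.mul_sum, deg_orth]
  ring

theorem orth_cast {u w : Cfsg.IrrCharacter G → ℤ} (h : dotp u w = 0) :
    ∑ χ, ((u χ : ℂ)) * (w χ : ℂ) = 0 := by
  have h' : ((dotp u w : ℤ) : ℂ) = 0 := by rw [h, Int.cast_zero]
  rw [dotp, Int.cast_sum] at h'
  rw [← h']
  exact Finset.sum_congr rfl fun _ _ => (Int.cast_mul _ _).symm

/-- An element of even order is not of odd order. -/
theorem not_conj_section {g : G} (hg : Odd (orderOf g)) {h : PST} :
    ¬ IsConj g (E.t * E.ι h) := by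
  intro hc
  obtain ⟨x, hx⟩ := isConj_iff.1 hc
  have ho : orderOf (E.t * E.ι h) = orderOf g := by
    rw [← hx]; exact (MulAut.conj x).orderOf_eq g
  have h1 := pow_orderOf_eq_one (E.t * E.ι h)
  rw [ho, (show Commute E.t (E.ι h) from E.comm h).mul_pow] at h1
  obtain ⟨j, hj⟩ := hg
  rw [show E.t ^ orderOf g = E.t by rw [hj, pow_succ, pow_mul, pow_two, E.sq, one_pow, one_mul],
    ← map_pow] at h1
  exact E.ι_eq_t_mul_iff (a := 1) (b := h ^ orderOf g) (by rw [map_one E.ι]; exact h1.symm)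

theorem column_vP (ν : c.Cr →* ℂˣ) {g : G}
    (hg : ∀ h : PST, ¬ IsConj g (E.t * E.ι h)) :
    ∑ χ : Cfsg.IrrCharacter G, (χ : G → ℂ) g * (vP c ν χ : ℂ) = 0 := by
  have hQ := fun e : F => sum_col_mul_Pz E (subQ (F := F)) (lam e) (g := g) fun h => hg h
  have hH := sum_col_mul_Pz E c.Cr ν (g := g) fun h => hg h
  simp only [vP, vN, Int.cast_sub, Int.cast_mul, Int.cast_add, mul_sub, mul_add, Finset.sum_sub_distrib,
    Finset.sum_add_distrib, ← mul_assoc, mul_comm (_ : ℂ) ((2 : ℤ) : ℂ)]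
  simp only [mul_assoc, ← Finset.mul_sum, hQ, hH]
  ring

include hyp

/-- The short columns have the parity of their conjugates. -/
theorem parity (ν : c.Cr →* ℂˣ) (χ : Cfsg.IrrCharacter G) :
    (2 : ℤ) ∣ vP c ν χ - vP c (ν.comp (c.aut hyp)) χ := by
  obtain ⟨n, hn⟩ := avg_int_parity (Characters.isCharacter_of_isIrr χ.2) (E.ι.comp c.Cr.subtype) ν
  obtain ⟨z, hz, hz2⟩ := hn E.t E.sq fun h => E.comm _
  obtain ⟨z', hz', hz'2⟩ := hn c.t₁ c.t₁_sq fun h => (c.Cr_comm_t₁ h.2).symm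
  have e1 : Pz E c.Cr ν χ = z := by
    have := cast_Pz E c.Cr ν χ
    rw [P, hz] at this
    exact_mod_cast this
  have hb : Function.Bijective (c.aut hyp) :=
    ⟨fun a b h => by rw [← c.aut_cube hyp a, h, c.aut_cube], fun a => ⟨_, c.aut_cube hyp a⟩⟩
  have e2 : Pz E c.Cr (ν.comp (c.aut hyp)) χ = z' := by
    have := cast_Pz E c.Cr (ν.comp (c.aut hyp)) χ
    have hav : avg (χ : G → ℂ) (E.ι.comp c.Cr.subtype) ν c.t₁ =
        P E c.Cr (ν.comp (c.aut hyp)) χ := by
      rw [P, avg, avg]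
      congr 1
      refine (Fintype.sum_bijective (c.aut hyp) hb _ _ fun x => ?_).symm
      have hcl : (χ : G → ℂ) (c.t₁ * E.ι ((c.aut hyp x : c.Cr) : PST)) =
          (χ : G → ℂ) (E.t * E.ι (x : PST)) := by
        rw [c.aut_spec hyp x, ← c.hv, show c.v * E.t * c.v⁻¹ * (c.v * E.ι (x : PST) * c.v⁻¹) =
          c.v * (E.t * E.ι (x : PST)) * c.v⁻¹ by group]
        exact Characters.classFunction_isConj (Characters.isClassFunction_of_isCharacter
          (Characters.isCharacter_of_isIrr χ.2)) (isConj_iff.2 ⟨c.v, rfl⟩).symm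
      simp only [MonoidHom.comp_apply, Subgroup.coe_subtype, hcl]
    rw [← hav, hz'] at this
    exact_mod_cast this
  simp only [vP, e1, e2]
  obtain ⟨a, ha⟩ := hz2
  obtain ⟨b, hb'⟩ := hz'2
  exact ⟨b - a, by linear_combination hb' - ha⟩

omit hyp in
theorem dlt_comm {H : Type v} [Group H] (α β : H →* ℂˣ) : dlt α β = dlt β α := by
  classical
  unfold dlt
  rw [show (α = β) = (β = α) from propext eq_comm,
    show (α = β⁻¹) = (β = α⁻¹) from propext ⟨fun h => MonoidHom.ext fun x => by simp [h], fun h => MonoidHom.ext fun x => by simp [h]⟩]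

theorem odd_char_ne_inv {H : Subgroup PST} (hH : Odd (Nat.card H)) {ν : H →* ℂˣ} (hν : ν ≠ 1) :
    ν ≠ ν⁻¹ := by
  intro h
  refine hν (MonoidHom.ext fun x => ?_)
  have h2 : ν x * ν x = 1 := by
    nth_rewrite 1 [h]
    rw [MonoidHom.inv_apply, inv_mul_cancel]
  have h1 : ν x ^ Nat.card H = 1 := by rw [← map_pow, pow_card_eq_one', map_one]
  obtain ⟨j, hj⟩ := hH
  rwa [hj, pow_succ, pow_mul, pow_two, h2, one_pow, one_mul] at h1

theorem dlt_self {ν : c.Cr →* ℂˣ} (hν : ν ≠ 1) : dlt ν ν = 1 := by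
  classical
  unfold dlt
  rw [if_pos rfl, if_neg (odd_char_ne_inv hyp (c.odd_Cr hyp) hν), add_zero]

/-- The cycling element centralises `C_r`. -/
theorem aut_eq (a₀ : c.Cr) : c.aut hyp a₀ = a₀ := by
  classical
  by_contra hmove
  haveI := c.isCyclic_Cr hyp
  obtain ⟨μ, hμ⟩ := exists_faithful (H := c.Cr)
  obtain ⟨α, hα⟩ : ∃ α : c.Cr →* c.Cr, α = c.aut hyp := ⟨_, rfl⟩
  have h3 : ∀ x, α (α (α x)) = x := fun x => by rw [hα]; exact c.aut_cube hyp x
  have hαne : α a₀ ≠ a₀ := by rw [hα]; exact hmove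
  have hαinj : Function.Injective α := fun x y h => by rw [← h3 x, h, h3]
  have hr7 := (rOf_facts hyp).2.2.1
  have hr : Nat.card c.Cr = rOf F := c.natCard_Cr hyp
  have hone : ∀ ν : c.Cr →* ℂˣ, Function.Injective ν → ν ≠ 1 := fun ν hν e => hαne (by
    refine hν ?_; rw [e]; rfl)
  have hsq : ∀ x : c.Cr, x * x = 1 → x = 1 := fun x hx => by
    have h1 : x ^ Nat.card c.Cr = 1 := pow_card_eq_one'
    obtain ⟨j, hj⟩ := c.odd_Cr hyp
    rwa [hj, pow_succ, pow_mul, pow_two, hx, one_pow, one_mul] at h1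
  -- a faithful character differs from its twists and their inverses
  have hd1 : ∀ ν : c.Cr →* ℂˣ, Function.Injective ν →
      dlt ν (ν.comp α) = 0 ∧ dlt ν ((ν.comp α).comp α) = 0 := by
    intro ν hν
    have hinv : ∀ (k : c.Cr →* c.Cr), ν = (ν.comp k)⁻¹ → ∀ x, k x = x⁻¹ := fun k h x => hν (by
      rw [map_inv, DFunLike.congr_fun h x, MonoidHom.inv_apply, inv_inv, MonoidHom.comp_apply])
    constructor <;> unfold dlt <;> rw [if_neg ?_, if_neg ?_, add_zero]
    · intro h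
      have ha := hinv α h
      have e := h3 a₀
      rw [ha, ha, ha, inv_inv, inv_eq_iff_mul_eq_one] at e
      exact hαne (by rw [hsq _ e, map_one])
    · intro h
      exact hαne (hν (DFunLike.congr_fun h a₀).symm)
    · intro h
      have ha : ∀ x, α (α x) = x⁻¹ := hinv (α.comp α) h
      have e := ha (α (α a₀))
      rw [h3, ha, inv_inv] at e
      exact hαne e
    · intro h
      have ha : ∀ x, α (α x) = x := fun x => hν (DFunLike.congr_fun h x).symm
      exact hαne ((congrArg α (ha a₀)).symm.trans (h3 a₀))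
  obtain ⟨μ₁, hμ₁⟩ : ∃ ν : c.Cr →* ℂˣ, ν = μ.comp α := ⟨_, rfl⟩
  obtain ⟨μ₂, hμ₂⟩ : ∃ ν : c.Cr →* ℂˣ, ν = μ₁.comp α := ⟨_, rfl⟩
  have i1 : Function.Injective μ₁ := hμ₁ ▸ hμ.comp hαinj
  have i2 : Function.Injective μ₂ := hμ₂ ▸ i1.comp hαinj
  have n0 := hone μ hμ; have n1 := hone μ₁ i1; have n2 := hone μ₂ i2
  have d01 : dlt μ μ₁ = 0 := hμ₁ ▸ (hd1 μ hμ).1
  have d02 : dlt μ μ₂ = 0 := by rw [hμ₂, hμ₁]; exact (hd1 μ hμ).2
  have d12 : dlt μ₁ μ₂ = 0 := hμ₂ ▸ (hd1 μ₁ i1).1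
  have s0 := dlt_self hyp c n0; have s1 := dlt_self hyp c n1; have s2 := dlt_self hyp c n2
  have d10 : dlt μ₁ μ = 0 := (dlt_comm _ _).trans d01
  have d20 : dlt μ₂ μ = 0 := (dlt_comm _ _).trans d02
  have d21 : dlt μ₂ μ₁ = 0 := (dlt_comm _ _).trans d12
  have hpp := dot_PP hyp c
  -- the four characters
  obtain ⟨R, hR, hconst, i₀, hi₀, i₁, hi₁, hw₀, hw₁⟩ := rows (a := vP c μ) (b := vP c μ₁)
    (c := vP c μ₂) (f := deg) deg_pos (by simpa [dotp, s0] using hpp μ μ)
    (by simpa [dotp, s1] using hpp μ₁ μ₁) (by simpa [dotp, s2] using hpp μ₂ μ₂)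
    (by simpa [dotp, d01] using hpp μ μ₁) (by simpa [dotp, d02] using hpp μ μ₂)
    (by simpa [dotp, d12] using hpp μ₁ μ₂)
    (fun χ => by rw [hμ₁, hα]; exact parity hyp c μ χ)
    (fun χ => by
      have h1 : (2 : ℤ) ∣ vP c μ χ - vP c μ₁ χ := by rw [hμ₁, hα]; exact parity hyp c μ χ
      have h2 : (2 : ℤ) ∣ vP c μ₁ χ - vP c μ₂ χ := by rw [hμ₂, hα]; exact parity hyp c μ₁ χ
      simpa using dvd_add h1 h2)
    (deg_orth_vP c μ) (deg_orth_vP c μ₁) (deg_orth_vP c μ₂)
  have const : ∀ u : Cfsg.IrrCharacter G → ℤ, dotp u (vP c μ) = 0 → dotp u (vP c μ₁) = 0 →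
      dotp u (vP c μ₂) = 0 → ∀ i ∈ R, ∀ j ∈ R, u i = u j := fun u a b d i hi j hj => by
    have := hconst (fun χ => (u χ : ℂ)) (orth_cast a) (orth_cast b) (orth_cast d) i hi j hj
    exact_mod_cast this
  have zero : ∀ u : Cfsg.IrrCharacter G → ℤ, dotp u (vP c μ) = 0 → dotp u (vP c μ₁) = 0 →
      dotp u (vP c μ₂) = 0 → dotp u u ≤ 4 → (∑ χ, u χ * (deg χ : ℤ) = 0) → ∀ i ∈ R, u i = 0 :=
    fun u a b d hn hf i hi =>
      eq_zero_of_const hR deg_pos hn hf (const u a b d) hi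
  -- every short column is a combination of the three
  have hcomb : ∀ ν : c.Cr →* ℂˣ, ν ≠ 1 → ∀ i ∈ R, vP c ν i =
      dlt ν μ * vP c μ i + dlt ν μ₁ * vP c μ₁ i + dlt ν μ₂ * vP c μ₂ i := by
    intro ν hν i hi
    let y : Cfsg.IrrCharacter G → ℤ := fun χ => vP c ν χ -
      (dlt ν μ * vP c μ χ + dlt ν μ₁ * vP c μ₁ χ + dlt ν μ₂ * vP c μ₂ χ)
    have hy : ∀ κ, dotp y (vP c κ) = 4 * dlt ν κ -
        (dlt ν μ * (4 * dlt μ κ) + dlt ν μ₁ * (4 * dlt μ₁ κ) + dlt ν μ₂ * (4 * dlt μ₂ κ)) := fun κ => by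
      simp only [y, dotp_sub, dotp_add, dotp_smul, hpp]
    refine sub_eq_zero.1 (zero y ?_ ?_ ?_ ?_ ?_ i hi)
    · rw [hy, s0, d10, d20]; ring
    · rw [hy, s1, d01, d21]; ring
    · rw [hy, s2, d02, d12]; ring
    · have h1 := hy ν
      have h2 := hy μ; have h4 := hy μ₁; have h5 := hy μ₂
      simp only [s0, s1, s2, d01, d02, d12, d10, d20, d21] at h2 h4 h5
      have key : dotp y y = dotp y (vP c ν) - (dlt ν μ * dotp y (vP c μ) + dlt ν μ₁ * dotp y (vP c μ₁) +
          dlt ν μ₂ * dotp y (vP c μ₂)) := by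
        conv_lhs => arg 2; simp only [y]
        simp only [dotp_sub', dotp_add', dotp_smul']
      rw [key, h1, h2, h4, h5, dlt_self hyp c hν, dlt_comm μ ν, dlt_comm μ₁ ν, dlt_comm μ₂ ν]
      nlinarith [mul_self_nonneg (dlt ν μ), mul_self_nonneg (dlt ν μ₁), mul_self_nonneg (dlt ν μ₂)]
    · simp only [y, sub_mul, add_mul, Finset.sum_sub_distrib, Finset.sum_add_distrib, mul_assoc,
        ← Finset.mul_sum, deg_orth_vP]
      ring
  have hK : ∀ i ∈ R, vK E i = 0 := zero _ (dot_KP hyp c _) (dot_KP hyp c _) (dot_KP hyp c _)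
    (dot_KK hyp).le (by
      simp only [vK, sub_mul, Finset.sum_sub_distrib, deg_orth, sub_zero])
  have hd1' : ∀ ν : c.Cr →* ℂˣ, ν ≠ 1 → dlt (1 : c.Cr →* ℂˣ) ν = 0 := by
    intro ν hν
    unfold dlt
    rw [if_neg (Ne.symm hν), if_neg (fun h => hν (MonoidHom.ext fun x => inv_eq_one.1 (DFunLike.congr_fun h.symm x))), add_zero]
  have h11 : dlt (1 : c.Cr →* ℂˣ) 1 = 2 := by
    unfold dlt
    rw [if_pos rfl, if_pos (MonoidHom.ext fun x => by simp)]; rfl
  have hγ0 : ∀ i ∈ R, ∀ j ∈ R, vP c 1 i = vP c 1 j :=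
    const _ (by rw [hpp, hd1' _ n0, mul_zero]) (by rw [hpp, hd1' _ n1, mul_zero])
      (by rw [hpp, hd1' _ n2, mul_zero])
  have hγ1 : ∀ i ∈ R, -1 ≤ vP c 1 i ∧ vP c 1 i ≤ 1 := by
    intro i hi
    have h8 : dotp (vP c 1) (vP c 1) = 8 := by rw [hpp, h11]; norm_num
    have hle : ∑ j ∈ R, vP c 1 j * vP c 1 j ≤ 8 := h8 ▸
      Finset.sum_le_univ_sum_of_nonneg fun j => mul_self_nonneg (vP c 1 j)
    rw [Finset.sum_congr rfl fun j hj => show vP c 1 j * vP c 1 j = vP c 1 i * vP c 1 i by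
      rw [hγ0 j hj i hi], Finset.sum_const, hR] at hle
    simp only [nsmul_eq_mul, Nat.cast_ofNat] at hle
    constructor <;> nlinarith
  -- the split torus
  obtain ⟨g₂, hg₂, hcard₂⟩ := exists_split_tor (F := F) (by have := hyp.mod8; omega)
    (by have := q_large hyp; omega)
  haveI := isCyclic_tor hg₂
  obtain ⟨τ₀, hτ₀⟩ := exists_faithful (H := tor g₂)
  have hdle : ∀ τ : tor g₂ →* ℂˣ, dlt τ τ ≤ 2 := fun τ => by
    unfold dlt; split_ifs <;> norm_num
  have hT : ∀ τ : tor g₂ →* ℂˣ, ∀ i ∈ R, Pz E (tor g₂) τ i = vN E i := fun τ i hi =>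
    sub_eq_zero.1 (zero (vR E (tor g₂) τ) (dot_RP hyp c hg₂ hcard₂ τ μ)
      (dot_RP hyp c hg₂ hcard₂ τ μ₁) (dot_RP hyp c hg₂ hcard₂ τ μ₂)
      (by rw [dot_RR hyp hg₂ hcard₂]; have := hdle τ; omega)
      (by simp only [vR, vN, sub_mul, add_mul, Finset.sum_sub_distrib, Finset.sum_add_distrib,
            deg_orth]
          norm_num) i hi)
  -- the value at `t`
  have hsumP : ∀ (H : Subgroup PST) [IsCyclic H] (ν : H →* ℂˣ), Function.Injective ν →
      ∀ χ : Cfsg.IrrCharacter G,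
        ∑ j ∈ Finset.range (Nat.card H), (Pz E H (ν ^ j) χ : ℂ) = (χ : G → ℂ) E.t := by
    intro H _ ν hν χ
    simp only [cast_Pz, P, avg, ← Finset.mul_sum]
    rw [Finset.sum_comm]
    simp only [← Finset.mul_sum, sum_range_pow hν, mul_ite, mul_zero, Finset.sum_ite_eq',
      Finset.mem_univ, if_true, map_one, mul_one]
    rw [Nat.card_eq_fintype_card, mul_comm ((χ : G → ℂ) E.t), ← mul_assoc,
      inv_mul_cancel₀ (Nat.cast_ne_zero.2 Fintype.card_ne_zero), one_mul]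
  have hpow0 : μ ^ 0 = 1 := MonoidHom.ext fun x => by simp
  let s : Cfsg.IrrCharacter G → ℤ := fun χ => vP c μ χ + vP c μ₁ χ + vP c μ₂ χ
  have hbound : ∀ κ : c.Cr →* ℂˣ, κ ≠ 1 →
      ∑ j ∈ (Finset.range (rOf F)).erase 0, dlt (μ ^ j) κ = 2 := by
    intro κ hκ
    have hall : ∀ κ : c.Cr →* ℂˣ, ∑ j ∈ Finset.range (rOf F), (if μ ^ j = κ then (1 : ℤ) else 0) = 1 := by
      intro κ
      obtain ⟨j, hj, rfl⟩ := exists_pow_eq hμ κ
      rw [hr] at hj
      rw [Finset.sum_eq_single j (fun i hi hij => by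
        rw [if_neg]; intro e
        exact hij (pow_injOn hμ (hr ▸ Finset.mem_range.1 hi) (hr ▸ hj) e))
        (fun h => absurd (Finset.mem_range.2 hj) h), if_pos rfl]
    rw [Finset.sum_erase _ (by rw [hpow0]; exact hd1' κ hκ)]
    unfold dlt
    rw [Finset.sum_add_distrib]
    convert congrArg₂ HAdd.hAdd (hall κ) (hall κ⁻¹)
    norm_num
  have hsum : ∀ i ∈ R, ∑ j ∈ Finset.range (rOf F), vP c (μ ^ j) i = vP c 1 i + 2 * s i := by
    intro i hi
    rw [← Finset.add_sum_erase _ _ (Finset.mem_range.2 (show 0 < rOf F by omega)), hpow0]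
    congr 1
    rw [Finset.sum_congr rfl fun j hj => hcomb (μ ^ j) (fun e => by
      obtain ⟨hj0, hjr⟩ := Finset.mem_erase.1 hj
      exact hj0 (pow_injOn hμ (hr ▸ Finset.mem_range.1 hjr) (hr ▸ (show 0 < rOf F by omega))
        (e.trans hpow0.symm))) i hi]
    simp only [Finset.sum_add_distrib, ← Finset.sum_mul, hbound _ n0, hbound _ n1, hbound _ n2, s]
    ring
  have hqr : (Fintype.card F : ℤ) = 4 * (rOf F : ℤ) - 1 := by have := (rOf_facts hyp).1; omega
  have hm : (2 * Nat.card (tor g₂) : ℤ) = 4 * (rOf F : ℤ) - 2 := by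
    have := (rOf_facts hyp).1; omega
  have hval : ∀ i ∈ R, (i : G → ℂ) E.t = (((Fintype.card F : ℤ) - 1) * s i : ℤ) := by
    intro i hi
    have e1 : (i : G → ℂ) E.t = ((2 * (rOf F : ℤ) * vN E i - vP c 1 i - 2 * s i : ℤ) : ℂ) := by
      rw [← hsumP c.Cr μ hμ i, hr, ← Int.cast_sum]
      congr 1
      have hh : ∑ j ∈ Finset.range (rOf F), Pz E c.Cr (μ ^ j) i =
          ∑ j ∈ Finset.range (rOf F), (2 * vN E i - vP c (μ ^ j) i) :=
        Finset.sum_congr rfl fun j _ => by simp only [vP]; ring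
      rw [hh, Finset.sum_sub_distrib, hsum i hi, Finset.sum_const, Finset.card_range, nsmul_eq_mul]
      ring
    have e2 : (i : G → ℂ) E.t = (((Nat.card (tor g₂) : ℤ) * vN E i : ℤ) : ℂ) := by
      rw [← hsumP (tor g₂) τ₀ hτ₀ i, Finset.sum_congr rfl fun j _ => by rw [hT (τ₀ ^ j) i hi],
        Finset.sum_const, Finset.card_range, nsmul_eq_mul]
      push_cast
      rfl
    have e3 : 2 * (rOf F : ℤ) * vN E i - vP c 1 i - 2 * s i = (Nat.card (tor g₂) : ℤ) * vN E i := by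
      exact_mod_cast e1.symm.trans e2
    have hNγ : vN E i = vP c 1 i + 2 * s i := by linear_combination e3 - (vN E i) * (by
      linarith : (2 * (rOf F : ℤ) - (Nat.card (tor g₂) : ℤ)) = 1)
    have hk := hK i hi
    have hγb := hγ1 i hi
    simp only [vK, vN] at hk hNγ
    have hγz : vP c 1 i = 0 := by omega
    rw [e2]
    congr 1
    rw [show vN E i = 2 * s i by simp only [vN]; omega, hqr]
    linear_combination (s i) * hm
  -- the values off the sections
  have hcol : ∀ g : G, Odd (orderOf g) → (i₀ : G → ℂ) g = (i₁ : G → ℂ) g := fun g hg =>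
    hconst (fun χ : Cfsg.IrrCharacter G => (χ : G → ℂ) g)
      (column_vP c μ fun _ => not_conj_section hg) (column_vP c μ₁ fun _ => not_conj_section hg)
      (column_vP c μ₂ fun _ => not_conj_section hg) i₀ hi₀ i₁ hi₁
  have hdeg : (i₀ : G → ℂ) 1 = (i₁ : G → ℂ) 1 := hcol 1 (by rw [orderOf_one]; exact odd_one)
  -- the class sum
  obtain ⟨K, hKdef⟩ : ∃ K : Finset G, K = Finset.univ.filter fun x : G => x ≠ 1 ∧ x * x = 1 :=
    ⟨_, rfl⟩
  have hKmem : ∀ x, x ∈ K ↔ x ≠ 1 ∧ x * x = 1 := fun x => by simp [hKdef]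
  have hKconj : ∀ g h : G, h * g * h⁻¹ ∈ K ↔ g ∈ K := fun g h => by
    rw [hKmem, hKmem, Ne, conj_eq_one_iff, show h * g * h⁻¹ * (h * g * h⁻¹) = h * (g * g) * h⁻¹ by group,
      conj_eq_one_iff]
  have hKt : ∀ x ∈ K, IsConj x E.t := fun x hx =>
    (isConj_t hyp ((hKmem x).1 hx).1 ((hKmem x).1 hx).2).symm
  have hKcard : K.card = (Subgroup.centralizer ({E.t} : Set G)).index := by
    rw [← Characters.card_conjugates_eq_index, Nat.card_eq_fintype_card, Fintype.card_subtype, hKdef]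
    congr 1
    ext x
    simp only [Finset.mem_filter, Finset.mem_univ, true_and]
    refine ⟨fun h => (isConj_t hyp h.1 h.2).symm, fun h => ?_⟩
    obtain ⟨y, hy⟩ := isConj_iff.1 h.symm
    rw [← hy, Ne, conj_eq_one_iff, show y * E.t * y⁻¹ * (y * E.t * y⁻¹) = y * (E.t * E.t) * y⁻¹ by group,
      E.sq, conj_eq_one_iff]
    exact ⟨E.t_ne_one, rfl⟩
  let D : G × G → ℂ := fun p =>
    if p.1 ∈ K ∧ p.2 ∈ K then (i₀ : G → ℂ) (p.1 * p.2) - (i₁ : G → ℂ) (p.1 * p.2) else 0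
  have hcl : ∀ (χ : Cfsg.IrrCharacter G) (x y : G), (χ : G → ℂ) (y * x * y⁻¹) = (χ : G → ℂ) x :=
    fun χ x y => (Characters.classFunction_isConj (Characters.isClassFunction_of_isCharacter
      (Characters.isCharacter_of_isIrr χ.2)) (isConj_iff.2 ⟨y, rfl⟩)).symm
  letI act : MulAction (subQG E) (G × G) :=
    { smul := fun q p => ((q : G) * p.1 * (q : G)⁻¹, (q : G) * p.2 * (q : G)⁻¹)
      one_smul := fun p => by
        show (((1 : subQG E) : G) * p.1 * _, _) = p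
        simp
      mul_smul := fun q q' p => by
        show (((q * q' : subQG E) : G) * p.1 * ((q * q' : subQG E) : G)⁻¹,
            ((q * q' : subQG E) : G) * p.2 * ((q * q' : subQG E) : G)⁻¹) =
          ((q : G) * ((q' : G) * p.1 * (q' : G)⁻¹) * (q : G)⁻¹,
            (q : G) * ((q' : G) * p.2 * (q' : G)⁻¹) * (q : G)⁻¹)
        simp [mul_assoc] }
  obtain ⟨k, -, hk⟩ := hyp.three
  have hP : IsPGroup 3 (subQG E) := IsPGroup.of_card (n := k) (by rw [natCard_subQG hyp, hk])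
  obtain ⟨a, ha, hDsum⟩ := exists_three_mul hP D (fun q p => by
      show (if (q : G) * p.1 * (q : G)⁻¹ ∈ K ∧ (q : G) * p.2 * (q : G)⁻¹ ∈ K then _ else _) = _
      simp only [hKconj, D]
      split_ifs
      · show (i₀ : G → ℂ) ((q : G) * p.1 * (q : G)⁻¹ * ((q : G) * p.2 * (q : G)⁻¹)) -
          (i₁ : G → ℂ) ((q : G) * p.1 * (q : G)⁻¹ * ((q : G) * p.2 * (q : G)⁻¹)) = _
        rw [show (q : G) * p.1 * (q : G)⁻¹ * ((q : G) * p.2 * (q : G)⁻¹) =
          (q : G) * (p.1 * p.2) * (q : G)⁻¹ by group, hcl, hcl]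
      · rfl)
    (fun p => by
      simp only [D]
      split_ifs
      · obtain ⟨n, ρ, hρ⟩ := Characters.isCharacter_of_isIrr i₀.2
        obtain ⟨n', ρ', hρ'⟩ := Characters.isCharacter_of_isIrr i₁.2
        rw [← hρ, ← hρ']
        exact (Characters.char_isIntegral ρ _).sub (Characters.char_isIntegral ρ' _)
      · exact isIntegral_zero)
    (fun p hp => by
      simp only [D]
      split_ifs with hpK
      · have hC : ∀ z, (z = p.1 ∨ z = p.2) → z ∈ Subgroup.centralizer (subQG E : Set G) := by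
          intro z hz
          rw [Subgroup.mem_centralizer_iff]
          intro q hq
          have := hp ⟨q, hq⟩
          rcases hz with rfl | rfl
          · exact mul_inv_eq_iff_eq_mul.1 (congrArg Prod.fst this)
          · exact mul_inv_eq_iff_eq_mul.1 (congrArg Prod.snd this)
        rw [hcol _ (odd_orderOf_mul hyp ((hKmem _).1 hpK.1).2 ((hKmem _).1 hpK.2).2
          ((hKmem _).1 hpK.1).1 ((hKmem _).1 hpK.2).1 (hC _ (Or.inl rfl)) (hC _ (Or.inr rfl))),
          sub_self]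
      · rfl)
  have hD' : ∑ p, D p = ∑ p ∈ K ×ˢ K, ((i₀ : G → ℂ) (p.1 * p.2) - (i₁ : G → ℂ) (p.1 * p.2)) := by
    simp only [D, ← Finset.mem_product]
    rw [Finset.sum_ite_mem, Finset.univ_inter]
  have h0 := degree_mul_sum_class i₀ K hKconj hKt
  have h1 := degree_mul_sum_class i₁ K hKconj hKt
  rw [← hdeg] at h1
  have key : (i₀ : G → ℂ) 1 * (3 * a) =
      ((8 * (((Fintype.card F : ℤ) - 1) * (K.card : ℤ)) ^ 2 : ℤ) : ℂ) := by
    rw [← hDsum, hD', Finset.sum_sub_distrib, mul_sub, h0, h1, hval i₀ hi₀, hval i₁ hi₁]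
    have e0 : ((s i₀ : ℤ) : ℂ) ^ 2 = 9 := by exact_mod_cast hw₀
    have e1 : ((s i₁ : ℤ) : ℂ) ^ 2 = 1 := by exact_mod_cast hw₁
    push_cast
    linear_combination ((K.card : ℂ) * ((Fintype.card F : ℂ) - 1)) ^ 2 * (e0 - e1)
  rw [deg_spec] at key
  obtain ⟨z, rfl⟩ := PRational.exists_int_of_isIntegral_of_mul ha (b := 3 * deg i₀)
    (by have := deg_pos i₀; omega)
    (a := 8 * (((Fintype.card F : ℤ) - 1) * (K.card : ℤ)) ^ 2)
    (by rw [← key]; push_cast; ring)
  have hdiv : (3 : ℤ) ∣ 8 * (((Fintype.card F : ℤ) - 1) * (K.card : ℤ)) ^ 2 := by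
    refine ⟨(deg i₀ : ℤ) * z, ?_⟩
    have h' : ((8 * (((Fintype.card F : ℤ) - 1) * (K.card : ℤ)) ^ 2 : ℤ) : ℂ) =
        (((3 : ℤ) * ((deg i₀ : ℤ) * z) : ℤ) : ℂ) := by
      rw [← key]; push_cast; ring
    exact_mod_cast h'
  have h3 := Int.prime_three
  rcases h3.dvd_or_dvd hdiv with h | h
  · omega
  rcases h3.dvd_or_dvd (h3.dvd_of_dvd_pow h) with h | h
  · have hq3 : Fintype.card F % 3 = 0 := by
      have := (rOf_facts hyp).1; have := (rOf_facts hyp).2.2.2; omega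
    omega
  · exact index_not_three hyp (hKcard ▸ Int.natCast_dvd_natCast.1 h)

end CfsgLib.ReeTypeS3
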