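import Cfsg.Agent.ReeTypeS3.Fixed

/-!
# Counting pairs of the two classes inverting the torus element
-/

set_option autoImplicit false
set_option linter.unusedSectionVars false
set_option linter.style.haveILetI false

namespace CfsgLib.ReeTypeS3

open Matrix
open scoped MatrixGroups

universe u v

variable {G : Type u} [Group G] [Fintype G] {F : Type v} [Field F] [Fintype F]

local notation "PST" => Matrix.ProjectiveSpecialLinearGroup (Fin 2) F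

variable {E : Emb G (Matrix.ProjectiveSpecialLinearGroup (Fin 2) F)}

/-- The cycling element centralises `C_r`; `d` inverts it and commutes with the cycling element. -/
structure Fix (c : Cyc E) where
  /-- The inverting involution. -/
  d : G
  /-- An element of prime order of `C_r`. -/
  a₀ : Matrix.ProjectiveSpecialLinearGroup (Fin 2) F
  /-- Its order. -/
  p : ℕ
  dd : d * d = 1
  dt : d * E.t = E.t * d
  dt₁ : d * c.t₁ = c.t₁ * d
  dinv : ∀ a ∈ c.Cr, d * E.ι a * d⁻¹ = E.ι a⁻¹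
  dv : c.v * d * c.v⁻¹ = d
  ha₀ : a₀ ∈ c.Cr
  ho : orderOf a₀ = p
  hp : p.Prime
  p7 : 7 ≤ p
  vfix : ∀ a ∈ c.Cr, c.v * E.ι a * c.v⁻¹ = E.ι a

theorem exists_fix (hyp : Hyp E) (c : Cyc E)
    (hfix : ∀ a ∈ c.Cr, c.v * E.ι a * c.v⁻¹ = E.ι a) : Nonempty (Fix c) := by
  obtain ⟨d, h1, h2, h3, h4, h5⟩ := c.exists_d hyp hfix
  obtain ⟨h4r, hodd, h7, h3r⟩ := rOf_facts hyp
  obtain ⟨p, hp, hdvd⟩ := Nat.exists_prime_and_dvd (show rOf F ≠ 1 by omega)
  haveI : Fact p.Prime := ⟨hp⟩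
  obtain ⟨⟨a, ha⟩, hao⟩ := exists_prime_orderOf_dvd_card' (G := c.Cr) p
    (by rw [c.natCard_Cr hyp]; exact hdvd)
  rw [Subgroup.orderOf_mk] at hao
  have hne2 : p ≠ 2 := fun e => by
    subst e
    exact absurd (Nat.odd_iff.1 (hodd.of_dvd_nat hdvd)) (by norm_num)
  have hne3 : p ≠ 3 := fun e => by
    subst e
    omega
  have hne5 : p ≠ 5 := fun e => by
    subst e
    obtain ⟨k, ⟨j, rfl⟩, hq⟩ := odd_exp hyp
    have h5 : 5 ∣ 3 ^ (2 * j + 1) + 1 := by rw [← hq, ← h4r]; exact hdvd.mul_left 4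
    have hm : (3 ^ (2 * j + 1) + 1) % 5 = 4 ∨ (3 ^ (2 * j + 1) + 1) % 5 = 3 := by
      clear h5 hq
      induction j with
      | zero => norm_num
      | succ j ih =>
        rw [show 3 ^ (2 * (j + 1) + 1) = 9 * 3 ^ (2 * j + 1) by ring]
        omega
    omega
  have : p ≠ 4 := fun e => by subst e; exact absurd hp (by decide)
  have : p ≠ 6 := fun e => by subst e; exact absurd hp (by decide)
  have := hp.two_le
  exact ⟨⟨d, a, p, h1, h2, h3, h4, h5, ha, hao, hp, by omega, hfix⟩⟩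

namespace Fix

variable (hyp : Hyp E) {c : Cyc E} (f : Fix c)

/-- The centraliser of the element of prime order. -/
def X : Subgroup G := Subgroup.centralizer ({E.ι f.a₀} : Set G)

/-- Conjugacy under `X`. -/
def InOrb (x y : G) : Prop := ∃ h ∈ f.X, h * x * h⁻¹ = y

theorem mem_X {x : G} : x ∈ f.X ↔ x * E.ι f.a₀ = E.ι f.a₀ * x :=
  Subgroup.mem_centralizer_singleton_iff

theorem four_mem_X {x : G} (hx : c.IsFour x) : x ∈ f.X := f.mem_X.2 (c.four_comm_Cr hx f.ha₀)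

theorem Cr_mem_X {a : PST} (ha : a ∈ c.Cr) : E.ι a ∈ f.X :=
  f.mem_X.2 (by rw [← map_mul, ← map_mul, tor_comm c.htr ha.1 f.ha₀.1])

theorem v_mem_X : c.v ∈ f.X := f.mem_X.2 (mul_inv_eq_iff_eq_mul.1 (f.vfix _ f.ha₀))

theorem a₀_ne_one : f.a₀ ≠ 1 := fun h => by
  have h1 := f.ho
  rw [h, orderOf_one] at h1
  exact f.hp.one_lt.ne h1

theorem a₀_sq : f.a₀ * f.a₀ ≠ 1 := fun h => by
  have := orderOf_dvd_of_pow_eq_one ((pow_two _).trans h)
  rw [f.ho] at this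
  have := Nat.le_of_dvd two_pos this
  have := f.p7
  omega

theorem not_mem_X {x : G} (hx : x * E.ι f.a₀ * x⁻¹ = E.ι f.a₀⁻¹) : x ∉ f.X := fun h => by
  rw [f.mem_X.1 h, mul_inv_cancel_right] at hx
  exact f.a₀_sq (by
    calc f.a₀ * f.a₀ = f.a₀ * f.a₀⁻¹ := by rw [← E.inj hx]
      _ = 1 := mul_inv_cancel _)

theorem d_inv : f.d⁻¹ = f.d := inv_eq_of_mul_eq_one_right f.dd

theorem four_comm_d {e : G} (he : c.IsFour e) : e * f.d = f.d * e := by
  rcases he with rfl | rfl | rfl | rfl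
  · rw [one_mul, mul_one]
  · exact f.dt.symm
  · exact f.dt₁.symm
  · rw [mul_assoc, ← f.dt₁, ← mul_assoc, ← f.dt, mul_assoc]

theorem d_Cr {a : PST} (ha : a ∈ c.Cr) : E.ι a * f.d = f.d * E.ι a⁻¹ := by
  have h := f.dinv a⁻¹ (inv_mem ha)
  rw [inv_inv, f.d_inv] at h
  rw [← h, mul_assoc, f.dd, mul_one]

theorem d_pow_v (k : ℕ) : c.v ^ k * f.d * (c.v ^ k)⁻¹ = f.d := by
  induction k with
  | zero => simp
  | succ k ih =>
    rw [pow_succ', show c.v * c.v ^ k * f.d * (c.v * c.v ^ k)⁻¹ = c.v * (c.v ^ k * f.d * (c.v ^ k)⁻¹) * c.v⁻¹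
      by group, ih, f.dv]

omit f in
theorem four_to_t {e : G} (he : c.IsFour e) (he1 : e ≠ 1) :
    ∃ k : ℕ, c.v ^ k * e * (c.v ^ k)⁻¹ = E.t := by
  rcases he with rfl | rfl | rfl | rfl
  · exact absurd rfl he1
  · exact ⟨0, by simp⟩
  · refine ⟨2, ?_⟩
    calc c.v ^ 2 * c.t₁ * (c.v ^ 2)⁻¹ = c.v * (c.v * c.t₁ * c.v⁻¹) * c.v⁻¹ := by
          simp only [pow_two, _root_.mul_inv_rev, mul_assoc]
      _ = E.t := by rw [c.hv₁, c.hv₂]
  · exact ⟨1, by rw [pow_one, c.hv₂]⟩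

theorem four_conj_pow {e : G} (he : c.IsFour e) (k : ℕ) : c.IsFour (c.v ^ k * e * (c.v ^ k)⁻¹) := by
  induction k with
  | zero => simpa using he
  | succ k ih =>
    rw [pow_succ', show c.v * c.v ^ k * e * (c.v * c.v ^ k)⁻¹ = c.v * (c.v ^ k * e * (c.v ^ k)⁻¹) * c.v⁻¹
      by group]
    rcases ih with h | h | h | h <;> rw [h]
    · left; simp
    · right; right; left; exact c.hv
    · right; right; right; exact c.hv₁
    · right; left; exact c.hv₂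

include hyp

theorem cent_t {x : G} (hX : x ∈ f.X) (hx : x * E.t = E.t * x) :
    ∃ e, c.IsFour e ∧ ∃ a ∈ c.Cr, x = e * E.ι a := by
  obtain ⟨l, hl⟩ := E.cent x hx
  have hla : l * f.a₀ * l⁻¹ = f.a₀ := E.inj (by
    rw [← E.conj_ι hl, f.mem_X.1 hX, mul_inv_cancel_right])
  have hN : l ∈ torN c.g := mem_torN_of_conj c.htr f.ha₀.1 f.a₀_ne_one (by rw [hla]; exact f.ha₀.1)
  have hT : l ∈ tor c.g := by
    rcases torN_cases c.htr hN with h | h
    · exact h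
    · exfalso
      apply f.a₀_sq
      nth_rewrite 1 [← hla]
      rw [h _ f.ha₀.1, inv_mul_cancel]
  obtain ⟨a, ha, w, hw, rfl⟩ := c.tor_split hyp hT
  rcases hl with rfl | rfl
  · exact ⟨E.ι w, c.four_of (Or.inl rfl) hw, a, ha, map_mul _ _ _⟩
  · exact ⟨E.t * E.ι w, c.four_of (Or.inr rfl) hw, a, ha, by rw [map_mul, mul_assoc]⟩

theorem cent_four {x e : G} (hX : x ∈ f.X) (he : c.IsFour e) (he1 : e ≠ 1) (hx : x * e = e * x) :
    ∃ e', c.IsFour e' ∧ ∃ a ∈ c.Cr, x = e' * E.ι a := by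
  obtain ⟨k, hk⟩ := four_to_t he he1
  have hkX : c.v ^ k ∈ f.X := pow_mem f.v_mem_X k
  obtain ⟨e', he', a, ha, h⟩ := f.cent_t hyp (mul_mem (mul_mem hkX hX) (inv_mem hkX)) (by
    rw [← hk]
    calc c.v ^ k * x * (c.v ^ k)⁻¹ * (c.v ^ k * e * (c.v ^ k)⁻¹)
        = c.v ^ k * (x * e) * (c.v ^ k)⁻¹ := by group
      _ = _ := by rw [hx]; group)
  obtain ⟨i, hi⟩ : ∃ i : ℕ, c.v ^ i = (c.v ^ k)⁻¹ := ⟨2 * k, by
    rw [eq_inv_iff_mul_eq_one, ← pow_add, show 2 * k + k = 3 * k by ring, pow_mul, c.v3, one_pow]⟩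
  have hv_a : ∀ j : ℕ, c.v ^ j * E.ι a * (c.v ^ j)⁻¹ = E.ι a := by
    intro j
    induction j with
    | zero => simp
    | succ j ih =>
      rw [pow_succ', show c.v * c.v ^ j * E.ι a * (c.v * c.v ^ j)⁻¹ =
        c.v * (c.v ^ j * E.ι a * (c.v ^ j)⁻¹) * c.v⁻¹ by group, ih, f.vfix a ha]
  refine ⟨_, four_conj_pow he' i, a, ha, ?_⟩
  calc x = (c.v ^ i) * (c.v ^ k * x * (c.v ^ k)⁻¹) * (c.v ^ i)⁻¹ := by rw [hi]; group
    _ = (c.v ^ i) * e' * (c.v ^ i)⁻¹ * ((c.v ^ i) * E.ι a * (c.v ^ i)⁻¹) := by rw [h]; group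
    _ = _ := by rw [hv_a]

theorem sqrt {a : PST} (ha : a ∈ c.Cr) : ∃ b ∈ c.Cr, b * b = a := by
  obtain ⟨j, hj⟩ := (rOf_facts hyp).2.1
  refine ⟨a ^ (j + 1), pow_mem ha _, ?_⟩
  rw [← pow_add, show j + 1 + (j + 1) = rOf F + 1 by omega, pow_succ, ha.2, one_mul]

/-- The elements commuting with `t` that invert the element of prime order. -/
theorem decomp {y : G} (hy : y * E.t = E.t * y) (hinv : y * E.ι f.a₀ * y⁻¹ = E.ι f.a₀⁻¹) :
    ∃ e, c.IsFour e ∧ ∃ a ∈ c.Cr, y = f.d * (e * E.ι a) := by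
  have h1 : f.d * y ∈ f.X := f.mem_X.2 (by
    rw [← mul_inv_eq_iff_eq_mul, show f.d * y * E.ι f.a₀ * (f.d * y)⁻¹ =
      f.d * (y * E.ι f.a₀ * y⁻¹) * f.d⁻¹ by group, hinv, f.dinv _ (inv_mem f.ha₀), inv_inv])
  obtain ⟨e, he, a, ha, h⟩ := f.cent_t hyp h1 (by rw [mul_assoc, hy, ← mul_assoc, f.dt, mul_assoc])
  exact ⟨e, he, a, ha, by rw [← h, ← mul_assoc, f.dd, one_mul]⟩

theorem inOrb_d {a : PST} (ha : a ∈ c.Cr) {e : G} (he : c.IsFour e) :
    f.InOrb (f.d * e) (f.d * (e * E.ι a)) := by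
  obtain ⟨b, hb, hbb⟩ := sqrt hyp (c := c) (inv_mem ha)
  refine ⟨E.ι b, f.Cr_mem_X hb, ?_⟩
  rw [← mul_assoc (E.ι b), f.d_Cr hb, mul_assoc f.d, ← c.four_comm_Cr he (inv_mem hb)]
  rw [mul_assoc f.d, mul_assoc e, ← map_inv, ← map_mul, ← _root_.mul_inv_rev, hbb, inv_inv]

omit hyp in
theorem inOrb_trans {x y z : G} (h1 : f.InOrb x y) (h2 : f.InOrb y z) : f.InOrb x z := by
  obtain ⟨g, hg, rfl⟩ := h1
  obtain ⟨h, hh, rfl⟩ := h2
  exact ⟨h * g, mul_mem hh hg, by group⟩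

omit hyp in
theorem inOrb_symm {x y : G} (h1 : f.InOrb x y) : f.InOrb y x := by
  obtain ⟨g, hg, rfl⟩ := h1
  exact ⟨g⁻¹, inv_mem hg, by group⟩

theorem inOrb_dt {a : PST} (ha : a ∈ c.Cr) {e : G} (he : c.IsFour e) (he1 : e ≠ 1) :
    f.InOrb (f.d * E.t) (f.d * (e * E.ι a)) := by
  refine f.inOrb_trans (f.inOrb_symm ?_) (f.inOrb_d hyp ha he)
  obtain ⟨k, hk⟩ := four_to_t he he1
  refine ⟨c.v ^ k, pow_mem f.v_mem_X k, ?_⟩
  calc c.v ^ k * (f.d * e) * (c.v ^ k)⁻¹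
      = c.v ^ k * f.d * (c.v ^ k)⁻¹ * (c.v ^ k * e * (c.v ^ k)⁻¹) := by group
    _ = f.d * E.t := by rw [f.d_pow_v, hk]

theorem two_group_le {P : Subgroup G} (hP : IsPGroup 2 P) (hPX : P ≤ f.X) (ht : E.t ∈ P) :
    P ≤ c.fourG := by
  intro x hx
  obtain ⟨hxx, hxt⟩ := two_group_facts hyp hP hx ht
  obtain ⟨e, he, a, ha, rfl⟩ := f.cent_t hyp (hPX hx) hxt
  have h1 : e * E.ι a * (e * E.ι a) = E.ι (a * a) := by
    rw [show e * E.ι a * (e * E.ι a) = e * (E.ι a * e) * E.ι a by group, ← c.four_comm_Cr he ha,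
      ← mul_assoc e e, c.four_sq he, one_mul, map_mul]
  rw [h1] at hxx
  have h2 : a * a = 1 := E.inj (hxx.trans (map_one E.ι).symm)
  have h3 : a ^ rOf F = 1 := ha.2
  obtain ⟨j, hj⟩ := (rOf_facts hyp).2.1
  rw [hj, pow_succ, pow_mul, pow_two, h2, one_pow, one_mul] at h3
  rw [h3, map_one, mul_one]
  exact he

theorem involution_conj {z : G} (hz : z ∈ f.X) (hz1 : z ≠ 1) (hzz : z * z = 1) : f.InOrb E.t z := by
  haveI : Fact (Nat.Prime 2) := ⟨Nat.prime_two⟩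
  have h4 : IsPGroup 2 (c.fourG.subgroupOf f.X) := IsPGroup.of_card (n := 2) (by
    rw [Nat.card_congr (Subgroup.subgroupOfEquivOfLe (fun x hx => f.four_mem_X hx)).toEquiv,
      c.natCard_fourG]; norm_num)
  obtain ⟨T, hT⟩ := h4.exists_le_sylow
  have hTle : ∀ x ∈ (T : Subgroup f.X), c.IsFour (x : G) := fun x hx =>
    f.two_group_le hyp (T.2.map f.X.subtype) (Subgroup.map_subtype_le _)
      ⟨⟨E.t, f.four_mem_X (Or.inr (Or.inl rfl))⟩, hT (Or.inr (Or.inl rfl)), rfl⟩ ⟨x, hx, rfl⟩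
  have hp : IsPGroup 2 (Subgroup.zpowers (⟨z, hz⟩ : f.X)) := IsPGroup.of_card (n := 1) (by
    rw [Nat.card_zpowers, Subgroup.orderOf_mk, pow_one]
    exact orderOf_eq_prime ((pow_two z).trans hzz) hz1)
  obtain ⟨U, hU⟩ := hp.exists_le_sylow
  obtain ⟨h, hh⟩ := MulAction.exists_smul_eq f.X U T
  have hm : MulAut.conj h • (⟨z, hz⟩ : f.X) ∈ ((h • U : Sylow 2 f.X) : Subgroup f.X) := by
    rw [Sylow.coe_subgroup_smul]
    exact Subgroup.smul_mem_pointwise_smul _ _ _ (hU (Subgroup.mem_zpowers _))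
  rw [hh] at hm
  have h4' : c.IsFour ((h : G) * z * (h : G)⁻¹) := hTle _ hm
  obtain ⟨k, hk⟩ := four_to_t h4' (fun e => hz1 (conj_eq_one_iff.1 e))
  refine f.inOrb_symm ⟨c.v ^ k * h, mul_mem (pow_mem f.v_mem_X k) h.2, ?_⟩
  rw [← hk]; group

theorem card_J : Nat.card (f.X ⊓ Subgroup.centralizer ({f.d} : Set G) : Subgroup G) = 12 ∨
    Nat.card (f.X ⊓ Subgroup.centralizer ({f.d} : Set G) : Subgroup G) = 60 := by
  obtain ⟨J, hJ⟩ : ∃ J : Subgroup G, J = f.X ⊓ Subgroup.centralizer ({f.d} : Set G) := ⟨_, rfl⟩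
  rw [← hJ]
  have hmemJ : ∀ x, x ∈ J ↔ x ∈ f.X ∧ x * f.d = f.d * x := fun x => by
    rw [hJ, Subgroup.mem_inf, Subgroup.mem_centralizer_singleton_iff]
  have hdX : f.d ∉ f.X := f.not_mem_X (f.dinv _ f.ha₀)
  have hd1 : f.d ≠ 1 := fun h => hdX (h ▸ one_mem _)
  obtain ⟨g, hg⟩ := isConj_iff.1 (isConj_t hyp hd1 f.dd).symm
  have hmap : ∀ x : J, MulAut.conj g (x : G) ∈ Subgroup.centralizer ({E.t} : Set G) := fun x => by
    rw [Subgroup.mem_centralizer_singleton_iff, ← hg, MulAut.conj_apply]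
    calc g * (x : G) * g⁻¹ * (g * f.d * g⁻¹) = g * ((x : G) * f.d) * g⁻¹ := by group
      _ = _ := by rw [((hmemJ _).1 x.2).2]; group
  let ψ : J →* Subgroup.centralizer ({E.t} : Set G) :=
    ((MulAut.conj g).toMonoidHom.comp J.subtype).codRestrict _ hmap
  let φ : J →* PST := (MonoidHom.snd _ _).comp (E.centEquiv.toMonoidHom.comp ψ)
  have hφ : Function.Injective φ := by
    rw [injective_iff_map_eq_one]
    intro x hx
    have hx2 : (E.centEquiv (ψ x)).2 = 1 := hx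
    have h' : ((ψ x : Subgroup.centralizer ({E.t} : Set G)) : G) = E.prodHom (E.centEquiv (ψ x)) := by
      conv_lhs => rw [← E.centEquiv.symm_apply_apply (ψ x)]
      rfl
    have hcases : (ψ x : G) = 1 ∨ (ψ x : G) = E.t := by
      rw [h']
      by_cases ha : (E.centEquiv (ψ x)).1 = 1
      · left; simp [Emb.prodHom, ha, hx2]
      · right; simp [Emb.prodHom, ha, hx2]
    change g * (x : G) * g⁻¹ = 1 ∨ g * (x : G) * g⁻¹ = E.t at hcases
    rcases hcases with h | h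
    · exact Subtype.ext (conj_eq_one_iff.1 h)
    · rw [← hg] at h
      exact absurd ((mul_left_cancel (mul_right_cancel h)) ▸ ((hmemJ _).1 x.2).1) hdX
  refine card_eq_of_embedding hyp φ hφ (e := E.t) (e₁ := c.t₁) (v := c.v)
    ((hmemJ _).2 ⟨f.four_mem_X (Or.inr (Or.inl rfl)), f.dt.symm⟩)
    ((hmemJ _).2 ⟨f.v_mem_X, mul_inv_eq_iff_eq_mul.1 f.dv⟩)
    E.t_ne_one E.sq c.t₁_comm.symm c.t₁_ne_t c.hv c.hv₁ fun x hx hxt => ?_
  obtain ⟨e, he, a, ha, rfl⟩ := f.cent_t hyp ((hmemJ x).1 hx).1 hxt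
  have h1 := ((hmemJ _).1 hx).2
  rw [mul_assoc, f.d_Cr ha, ← mul_assoc, f.four_comm_d he, mul_assoc] at h1
  obtain ⟨-, h2⟩ := c.four_mul_Cr_inj hyp he he (inv_mem ha) ha (mul_left_cancel h1)
  have h3 : a * a = 1 := by
    nth_rewrite 1 [← h2]
    exact inv_mul_cancel a
  have h4 : a ^ rOf F = 1 := ha.2
  obtain ⟨j, hj⟩ := (rOf_facts hyp).2.1
  rw [hj, pow_succ, pow_mul, pow_two, h3, one_pow, one_mul] at h4
  rw [h4, map_one, mul_one]
  exact he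

theorem card_J₂ :
    Nat.card (f.X ⊓ Subgroup.centralizer ({f.d * E.t} : Set G) : Subgroup G) = 4 := by
  haveI : Fact (Nat.Prime 2) := ⟨Nat.prime_two⟩
  obtain ⟨J, hJ⟩ : ∃ J : Subgroup G, J = f.X ⊓ Subgroup.centralizer ({f.d * E.t} : Set G) :=
    ⟨_, rfl⟩
  rw [← hJ]
  have hmemJ : ∀ x, x ∈ J ↔ x ∈ f.X ∧ x * (f.d * E.t) = f.d * E.t * x := fun x => by
    rw [hJ, Subgroup.mem_inf, Subgroup.mem_centralizer_singleton_iff]
  have ht4 : c.IsFour E.t := Or.inr (Or.inl rfl)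
  have hfJ : c.fourG ≤ J := fun x hx => (hmemJ x).2 ⟨f.four_mem_X hx, by
    rw [← mul_assoc, f.four_comm_d hx, mul_assoc, c.four_comm_t hx, ← mul_assoc]⟩
  -- the elements of `J` commuting with an involution of the four-group lie in it
  have hcent : ∀ x ∈ J, ∀ e, c.IsFour e → e ≠ 1 → x * e = e * x → c.IsFour x := by
    intro x hx e he he1 hxe
    obtain ⟨e', he', a, ha, rfl⟩ := f.cent_four hyp ((hmemJ x).1 hx).1 he he1 hxe
    have h1 := ((hmemJ _).1 hx).2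
    have hL : e' * E.ι a * (f.d * E.t) = f.d * E.t * (e' * E.ι a⁻¹) := by
      rw [show e' * E.ι a * (f.d * E.t) = e' * (E.ι a * f.d) * E.t by group, f.d_Cr ha,
        show e' * (f.d * E.ι a⁻¹) * E.t = (e' * f.d) * (E.ι a⁻¹ * E.t) by group, f.four_comm_d he',
        ← E.comm, show f.d * e' * (E.t * E.ι a⁻¹) = f.d * (e' * E.t) * E.ι a⁻¹ by group,
        c.four_comm_t he']
      group
    rw [hL] at h1
    obtain ⟨-, h2⟩ := c.four_mul_Cr_inj hyp he' he' (inv_mem ha) ha (mul_left_cancel h1)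
    have h3 : a * a = 1 := by
      nth_rewrite 1 [← h2]
      exact inv_mul_cancel a
    have h4 : a ^ rOf F = 1 := ha.2
    obtain ⟨j, hj⟩ := (rOf_facts hyp).2.1
    rw [hj, pow_succ, pow_mul, pow_two, h3, one_pow, one_mul] at h4
    rw [h4, map_one, mul_one]
    exact he'
  -- the four-group is a Sylow subgroup, equal to its normaliser
  obtain ⟨T0, hT0⟩ : ∃ T0 : Subgroup J, T0 = c.fourG.subgroupOf J := ⟨_, rfl⟩
  have hT0mem : ∀ x : J, x ∈ T0 ↔ c.IsFour (x : G) := fun x => by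
    rw [hT0, Subgroup.mem_subgroupOf]; rfl
  have hT0card : Nat.card T0 = 4 := by
    rw [hT0, Nat.card_congr (Subgroup.subgroupOfEquivOfLe hfJ).toEquiv, c.natCard_fourG]
  have hp0 : IsPGroup 2 T0 := IsPGroup.of_card (n := 2) (by rw [hT0card]; norm_num)
  obtain ⟨T, hT⟩ := hp0.exists_le_sylow
  have hTeq : (T : Subgroup J) = T0 := le_antisymm (fun x hx => (hT0mem x).2
    (f.two_group_le hyp (T.2.map J.subtype)
      ((Subgroup.map_subtype_le _).trans (hJ ▸ inf_le_left))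
      ⟨⟨E.t, hfJ ht4⟩, hT ((hT0mem _).2 ht4), rfl⟩ ⟨x, hx, rfl⟩)) hT
  have hN : Subgroup.normalizer ((T : Subgroup J) : Set J) ≤
      Subgroup.centralizer ((T : Subgroup J) : Set J) := by
    intro x hx
    rw [hTeq] at hx
    suffices hxt : (x : G) * E.t = E.t * (x : G) by
      rw [Subgroup.mem_centralizer_iff]
      intro y hy
      rw [hTeq] at hy
      have hy4 := (hT0mem y).1 hy
      have hx4 := hcent x x.2 E.t ht4 E.t_ne_one hxt
      obtain ⟨u, hu, hxu⟩ := c.four_exists hx4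
      obtain ⟨w, hw, hyw⟩ := c.four_exists hy4
      refine Subtype.ext ?_
      show (y : G) * x = x * y
      have := c.four_sq (c.four_mul hy4 hx4)
      calc (y : G) * x = (y : G) * x * ((y : G) * x * ((y : G) * x))⁻¹ := by
            rw [this, inv_one, mul_one]
        _ = ((y : G) * x)⁻¹ := by group
        _ = x * y := by rw [_root_.mul_inv_rev, c.four_inv hx4, c.four_inv hy4]
    have hxt' : c.IsFour ((x : G) * E.t * (x : G)⁻¹) := by
      have h := (Subgroup.mem_normalizer_iff.1 hx ⟨E.t, hfJ ht4⟩).1 ((hT0mem _).2 ht4)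
      exact (hT0mem _).1 h
    obtain ⟨k, hk⟩ := four_to_t hxt' (fun e => E.t_ne_one (conj_eq_one_iff.1 e))
    obtain ⟨e', he', a, ha, hka⟩ := f.cent_t hyp
      (mul_mem (pow_mem f.v_mem_X k) ((hmemJ _).1 x.2).1) (x := c.v ^ k * x) (by
      calc c.v ^ k * x * E.t = c.v ^ k * ((x : G) * E.t * (x : G)⁻¹) * (c.v ^ k)⁻¹ * (c.v ^ k * x) := by
            group
        _ = _ := by rw [hk])
    -- conjugate `d t` by both sides
    have e1 : (c.v ^ k * x) * (f.d * E.t) * (c.v ^ k * x)⁻¹ =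
        f.d * (c.v ^ k * E.t * (c.v ^ k)⁻¹) := by
      calc (c.v ^ k * x) * (f.d * E.t) * (c.v ^ k * x)⁻¹
          = c.v ^ k * ((x : G) * (f.d * E.t) * (x : G)⁻¹) * (c.v ^ k)⁻¹ := by group
        _ = c.v ^ k * (f.d * E.t) * (c.v ^ k)⁻¹ := by
          rw [((hmemJ _).1 x.2).2, mul_inv_cancel_right]
        _ = c.v ^ k * f.d * (c.v ^ k)⁻¹ * (c.v ^ k * E.t * (c.v ^ k)⁻¹) := by group
        _ = _ := by rw [f.d_pow_v]
    have e2 : (e' * E.ι a) * (f.d * E.t) * (e' * E.ι a)⁻¹ = f.d * (E.t * E.ι (a⁻¹ * a⁻¹)) := by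
      rw [show (e' * E.ι a) * (f.d * E.t) * (e' * E.ι a)⁻¹ =
        e' * ((E.ι a * f.d) * E.t * (E.ι a)⁻¹) * e'⁻¹ by group, f.d_Cr ha, ← map_inv,
        show f.d * E.ι a⁻¹ * E.t * E.ι a⁻¹ = f.d * (E.ι a⁻¹ * E.t * E.ι a⁻¹) by group, ← E.comm,
        mul_assoc E.t, ← map_mul, show e' * (f.d * (E.t * E.ι (a⁻¹ * a⁻¹))) * e'⁻¹ =
        (e' * f.d) * E.t * (E.ι (a⁻¹ * a⁻¹) * e'⁻¹) by group, f.four_comm_d he',
        c.four_inv he', ← c.four_comm_Cr he' (mul_mem (inv_mem ha) (inv_mem ha)),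
        show f.d * e' * E.t * (e' * E.ι (a⁻¹ * a⁻¹)) = f.d * ((e' * E.t) * e' * E.ι (a⁻¹ * a⁻¹)) by group,
        c.four_comm_t he', mul_assoc E.t, c.four_sq he', mul_one]
    rw [hka, e2] at e1
    have h4 : c.IsFour (c.v ^ k * E.t * (c.v ^ k)⁻¹) := four_conj_pow ht4 k
    obtain ⟨h5, -⟩ := c.four_mul_Cr_inj hyp ht4 h4 (mul_mem (inv_mem ha) (inv_mem ha)) (one_mem _)
      (by rw [map_one, mul_one]; exact mul_left_cancel e1)
    have h6 : c.v ^ k * ((x : G) * E.t * (x : G)⁻¹) * (c.v ^ k)⁻¹ = c.v ^ k * E.t * (c.v ^ k)⁻¹ := by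
      rw [hk, ← h5]
    exact mul_inv_eq_iff_eq_mul.1 (mul_left_cancel (mul_right_cancel h6))
  obtain ⟨O, hO⟩ : ∃ O : Subgroup J, O = (MonoidHom.transferSylow T hN).ker := ⟨_, rfl⟩
  haveI : O.Normal := hO ▸ inferInstance
  have hc : O.IsComplement' (T : Subgroup J) := hO ▸ MonoidHom.ker_transferSylow_isComplement' T hN
  have hoddO : Odd (Nat.card O) := by
    rw [← Nat.not_even_iff_odd, even_iff_two_dvd, hO]
    exact MonoidHom.not_dvd_card_ker_transferSylow T hN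
  have hinvert : ∀ e, c.IsFour e → e ≠ 1 → ∀ z ∈ O, e * (z : G) * e⁻¹ = (z : G)⁻¹ := by
    intro e he he1
    let σ : O → O := fun z => ⟨⟨e, hfJ he⟩ * z.1 * ⟨e, hfJ he⟩⁻¹, Subgroup.Normal.conj_mem inferInstance _ z.2 _⟩
    let F₁ : O → O := fun z => z⁻¹ * σ z
    have hinj : Function.Injective F₁ := by
      intro z z' h
      have h' : ((z : J) : G)⁻¹ * (e * ((z : J) : G) * e⁻¹) =
          ((z' : J) : G)⁻¹ * (e * ((z' : J) : G) * e⁻¹) :=
        congrArg (fun w : O => ((w : J) : G)) h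
      have h4 : c.IsFour (((z' * z⁻¹ : O) : J) : G) := by
        refine hcent _ ((z' * z⁻¹ : O) : J).2 e he he1 ?_
        push_cast
        calc ((z' : J) : G) * ((z : J) : G)⁻¹ * e
            = ((z' : J) : G) * (((z : J) : G)⁻¹ * (e * ((z : J) : G) * e⁻¹)) * e * ((z : J) : G)⁻¹ := by
              group
          _ = ((z' : J) : G) * (((z' : J) : G)⁻¹ * (e * ((z' : J) : G) * e⁻¹)) * e * ((z : J) : G)⁻¹ := by
              rw [h']
          _ = _ := by group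
      have h5 : (z' * z⁻¹ : O) ^ 2 = 1 := Subtype.ext (Subtype.ext (by
        rw [pow_two]
        exact c.four_sq h4))
      have h6 : orderOf (z' * z⁻¹ : O) = 1 := Nat.eq_one_of_dvd_coprimes
        (Nat.coprime_two_right.2 hoddO) (orderOf_dvd_natCard _) (orderOf_dvd_of_pow_eq_one h5)
      exact (mul_inv_eq_one.1 (orderOf_eq_one_iff.1 h6)).symm
    intro z hz
    obtain ⟨w, hw⟩ := (Finite.injective_iff_surjective.1 hinj) ⟨z, hz⟩
    have hw' : (z : G) = ((w : J) : G)⁻¹ * (e * ((w : J) : G) * e⁻¹) :=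
      congrArg (fun w : O => ((w : J) : G)) hw.symm
    rw [hw', _root_.mul_inv_rev, _root_.mul_inv_rev, _root_.mul_inv_rev, inv_inv, inv_inv]
    calc e * (((w : J) : G)⁻¹ * (e * ((w : J) : G) * e⁻¹)) * e⁻¹
        = e * ((w : J) : G)⁻¹ * e * ((w : J) : G) * (e⁻¹ * e⁻¹) := by group
      _ = _ := by rw [c.four_inv he, c.four_sq he, mul_one]; simp only [mul_assoc]
  have hbot : O = ⊥ := by
    rw [Subgroup.eq_bot_iff_forall]
    intro z hz
    have h1 := hinvert E.t ht4 E.t_ne_one z hz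
    have h2 := hinvert c.t₁ (Or.inr (Or.inr (Or.inl rfl))) c.t₁_ne_one z hz
    have h3 : c.t₁ * E.t * (z : G) * (c.t₁ * E.t)⁻¹ = (z : G) := by
      rw [show c.t₁ * E.t * (z : G) * (c.t₁ * E.t)⁻¹ = c.t₁ * (E.t * (z : G) * E.t⁻¹) * c.t₁⁻¹ by group,
        h1, show c.t₁ * (z : G)⁻¹ * c.t₁⁻¹ = (c.t₁ * (z : G) * c.t₁⁻¹)⁻¹ by group, h2, inv_inv]
    have h4 : c.IsFour (z : G) := hcent z z.2 (E.t * c.t₁) (Or.inr (Or.inr (Or.inr rfl)))
      (fun h => c.t₁_ne_t (by rw [mul_eq_one_iff_inv_eq, E.t_inv] at h; exact h.symm)) (by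
        rw [← c.t₁_comm]; exact (mul_inv_eq_iff_eq_mul.1 h3).symm)
    have hzT : z ∈ (T : Subgroup J) := by rw [hTeq]; exact (hT0mem z).2 h4
    exact Subgroup.disjoint_def.1 hc.disjoint hz hzT
  have := hc.card_mul_card
  rw [hbot, Subgroup.card_bot, one_mul, hTeq, hT0card] at this
  exact this.symm

theorem not_inOrb : ¬ f.InOrb f.d (f.d * E.t) := by
  intro h
  have e : {y : G // ∃ h ∈ f.X, h * f.d * h⁻¹ = y} ≃
      {y : G // ∃ h ∈ f.X, h * (f.d * E.t) * h⁻¹ = y} :=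
    Equiv.subtypeEquivRight fun y => ⟨fun hy => f.inOrb_trans (f.inOrb_symm h) hy,
      fun hy => f.inOrb_trans h hy⟩
  have h1 := card_conj_mul f.X f.d
  have h2 := card_conj_mul f.X (f.d * E.t)
  rw [Nat.card_congr e, ← h2, f.card_J₂ hyp] at h1
  have hpos : 0 < Nat.card {y : G // ∃ h ∈ f.X, h * (f.d * E.t) * h⁻¹ = y} :=
    Nat.card_pos_iff.2 ⟨⟨⟨_, 1, one_mem _, rfl⟩⟩, inferInstance⟩
  have := Nat.eq_of_mul_eq_mul_left hpos h1
  rcases f.card_J hyp with h | h <;> omega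

/-- The order of `X`. -/
theorem natCard_X :
    Nat.card f.X = rOf F * Nat.card (f.X ⊓ Subgroup.centralizer ({f.d} : Set G) : Subgroup G) := by
  classical
  obtain ⟨M₁, hM₁⟩ : ∃ M : Finset G, M = Finset.univ.filter (f.InOrb f.d) := ⟨_, rfl⟩
  obtain ⟨M₂, hM₂⟩ : ∃ M : Finset G, M = Finset.univ.filter (f.InOrb (f.d * E.t)) := ⟨_, rfl⟩
  obtain ⟨Inv, hInv⟩ : ∃ M : Finset G, M = Finset.univ.filter (f.InOrb E.t) := ⟨_, rfl⟩
  have hm₁ : ∀ y, y ∈ M₁ ↔ f.InOrb f.d y := fun y => by simp [hM₁]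
  have hm₂ : ∀ y, y ∈ M₂ ↔ f.InOrb (f.d * E.t) y := fun y => by simp [hM₂]
  have hmI : ∀ y, y ∈ Inv ↔ f.InOrb E.t y := fun y => by simp [hInv]
  have ht4 : c.IsFour E.t := Or.inr (Or.inl rfl)
  have hcard : ∀ (M : Finset G) (x : G), (∀ y, y ∈ M ↔ f.InOrb x y) →
      M.card * Nat.card (f.X ⊓ Subgroup.centralizer ({x} : Set G) : Subgroup G) = Nat.card f.X := by
    intro M x h
    rw [← card_conj_mul f.X x]
    congr 1
    rw [← Fintype.card_coe, ← Nat.card_eq_fintype_card]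
    exact Nat.card_congr (Equiv.subtypeEquivRight h)
  have hC : Nat.card (f.X ⊓ Subgroup.centralizer ({E.t} : Set G) : Subgroup G) = 4 * rOf F := by
    let φ : c.fourG × c.Cr → (f.X ⊓ Subgroup.centralizer ({E.t} : Set G) : Subgroup G) := fun p =>
      ⟨(p.1 : G) * E.ι (p.2 : PST), mul_mem (f.four_mem_X p.1.2) (f.Cr_mem_X p.2.2),
        Subgroup.mem_centralizer_singleton_iff.2 (by
          rw [mul_assoc, ← E.comm, ← mul_assoc, c.four_comm_t p.1.2, mul_assoc])⟩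
    rw [← Nat.card_eq_of_bijective φ ⟨?_, ?_⟩, Nat.card_prod, c.natCard_fourG, c.natCard_Cr hyp]
    · rintro ⟨⟨e, he⟩, ⟨a, ha⟩⟩ ⟨⟨e', he'⟩, ⟨a', ha'⟩⟩ h
      obtain ⟨rfl, rfl⟩ := c.four_mul_Cr_inj hyp he he' ha ha' (congrArg Subtype.val h)
      rfl
    · rintro ⟨x, hxX, hxC⟩
      obtain ⟨e, he, a, ha, rfl⟩ := f.cent_t hyp hxX (Subgroup.mem_centralizer_singleton_iff.1 hxC)
      exact ⟨⟨⟨e, he⟩, ⟨a, ha⟩⟩, rfl⟩
  -- membership near `t`
  have hinv : ∀ x, x * E.ι f.a₀ * x⁻¹ = E.ι f.a₀⁻¹ → ∀ y, f.InOrb x y →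
      y * E.ι f.a₀ * y⁻¹ = E.ι f.a₀⁻¹ := by
    rintro x hx _ ⟨h, hh, rfl⟩
    have h1 : h * E.ι f.a₀ * h⁻¹ = E.ι f.a₀ := mul_inv_eq_iff_eq_mul.2 (f.mem_X.1 hh)
    have h2 : h⁻¹ * E.ι f.a₀ * h = E.ι f.a₀ := by
      conv_lhs => rw [← h1]
      group
    calc h * x * h⁻¹ * E.ι f.a₀ * (h * x * h⁻¹)⁻¹
        = h * (x * (h⁻¹ * E.ι f.a₀ * h) * x⁻¹) * h⁻¹ := by group
      _ = h * E.ι f.a₀⁻¹ * h⁻¹ := by rw [h2, hx]
      _ = E.ι f.a₀⁻¹ := by
        rw [map_inv, show h * (E.ι f.a₀)⁻¹ * h⁻¹ = (h * E.ι f.a₀ * h⁻¹)⁻¹ by group, h1]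
  have hdt_inv : f.d * E.t * E.ι f.a₀ * (f.d * E.t)⁻¹ = E.ι f.a₀⁻¹ := by
    rw [show f.d * E.t * E.ι f.a₀ * (f.d * E.t)⁻¹ = f.d * (E.t * E.ι f.a₀ * E.t⁻¹) * f.d⁻¹ by group,
      E.comm, mul_inv_cancel_right, f.dinv _ f.ha₀]
  have hsq : ∀ x y, x * x = 1 → f.InOrb x y → y * y = 1 := by
    rintro x _ hx ⟨h, -, rfl⟩
    rw [show h * x * h⁻¹ * (h * x * h⁻¹) = h * (x * x) * h⁻¹ by group, hx, mul_one, mul_inv_cancel]
  have hdt2 : f.d * E.t * (f.d * E.t) = 1 := by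
    rw [show f.d * E.t * (f.d * E.t) = f.d * (E.t * f.d) * E.t by group, ← f.dt,
      ← mul_assoc f.d f.d, f.dd, one_mul, E.sq]
  have hprodX : ∀ a ∈ M₁, ∀ b ∈ M₂, a * b ∈ f.X := by
    intro a ha b hb
    have h1 := hinv _ (f.dinv _ f.ha₀) a ((hm₁ a).1 ha)
    have h2 := hinv _ hdt_inv b ((hm₂ b).1 hb)
    rw [f.mem_X, ← mul_inv_eq_iff_eq_mul, show a * b * E.ι f.a₀ * (a * b)⁻¹ =
      a * (b * E.ι f.a₀ * b⁻¹) * a⁻¹ by group, h2, map_inv,
      show a * (E.ι f.a₀)⁻¹ * a⁻¹ = (a * E.ι f.a₀ * a⁻¹)⁻¹ by group, h1, map_inv, inv_inv]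
  let z : G × G → G := fun q => (q.1 * q.2) ^ (orderOf (q.1 * q.2) / 2)
  -- the involution of a pair
  have hz : ∀ a ∈ M₁, ∀ b ∈ M₂, z (a, b) ∈ Inv ∧ a * z (a, b) = z (a, b) * a ∧
      b * z (a, b) = z (a, b) * b := by
    intro a ha b hb
    have haa := hsq _ _ f.dd ((hm₁ a).1 ha)
    have hbb := hsq _ _ hdt2 ((hm₂ b).1 hb)
    obtain ⟨n, hn⟩ : ∃ n, n = a * b := ⟨_, rfl⟩
    have hanb : a * n = b := by rw [hn, ← mul_assoc, haa, one_mul]
    have hflip : ∀ k : ℕ, a * n ^ k * a⁻¹ = (n ^ k)⁻¹ := fun k => by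
      rw [← conj_pow, ← inv_pow]
      congr 1
      rw [hanb, inv_eq_of_mul_eq_one_right haa, hn, _root_.mul_inv_rev,
        inv_eq_of_mul_eq_one_right haa, inv_eq_of_mul_eq_one_right hbb]
    have heven : Even (orderOf n) := by
      by_contra hodd
      obtain ⟨j, hj⟩ := Nat.not_even_iff_odd.1 hodd
      have hcon : (n ^ (j + 1))⁻¹ * a * n ^ (j + 1) = b := by
        rw [← hflip, show a * n ^ (j + 1) * a⁻¹ * a * n ^ (j + 1) =
          a * (n ^ (j + 1) * n ^ (j + 1)) by group, ← pow_add,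
          show j + 1 + (j + 1) = orderOf n + 1 by omega, pow_succ, pow_orderOf_eq_one, one_mul, hanb]
      refine f.not_inOrb hyp (f.inOrb_trans ((hm₁ a).1 ha)
        (f.inOrb_trans ⟨(n ^ (j + 1))⁻¹, inv_mem (pow_mem ?_ _), ?_⟩ (f.inOrb_symm ((hm₂ b).1 hb))))
      · rw [hn]; exact hprodX a ha b hb
      · rw [inv_inv]; exact hcon
    obtain ⟨m, hm⟩ := heven
    have hz' : z (a, b) = n ^ m := by
      show (a * b) ^ (orderOf (a * b) / 2) = _
      rw [← hn]; congr 1; omega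
    have hpos : 0 < orderOf n := orderOf_pos n
    have hzsq : n ^ m * n ^ m = 1 := by rw [← pow_add, ← hm, pow_orderOf_eq_one]
    have hz1 : n ^ m ≠ 1 := pow_ne_one_of_lt_orderOf (by omega) (by omega)
    have haz : a * n ^ m = n ^ m * a := by
      rw [← mul_inv_eq_iff_eq_mul, hflip, inv_eq_of_mul_eq_one_right hzsq]
    rw [hz']
    refine ⟨(hmI _).2 (f.involution_conj hyp (pow_mem (hn ▸ hprodX a ha b hb) m) hz1 hzsq), haz, ?_⟩
    rw [← hanb, mul_assoc, ← pow_succ', pow_succ, ← mul_assoc, haz, mul_assoc]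
  -- the pairs over `t`
  have hnear₁ : ∀ y ∈ M₁, y * E.t = E.t * y → ∃ a ∈ c.Cr, y = f.d * E.ι a := by
    intro y hy hyt
    obtain ⟨e, he, a, ha, rfl⟩ := f.decomp hyp hyt (hinv _ (f.dinv _ f.ha₀) y ((hm₁ y).1 hy))
    by_cases he1 : e = 1
    · exact ⟨a, ha, by rw [he1, one_mul]⟩
    · exact absurd (f.inOrb_trans ((hm₁ _).1 hy) (f.inOrb_symm (f.inOrb_dt hyp ha he he1)))
        (f.not_inOrb hyp)
  have hnear₂ : ∀ y ∈ M₂, y * E.t = E.t * y →
      ∃ e, c.IsFour e ∧ e ≠ 1 ∧ ∃ a ∈ c.Cr, y = f.d * (e * E.ι a) := by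
    intro y hy hyt
    obtain ⟨e, he, a, ha, rfl⟩ := f.decomp hyp hyt (hinv _ hdt_inv y ((hm₂ y).1 hy))
    refine ⟨e, he, fun he1 => ?_, a, ha, rfl⟩
    have h1 := f.inOrb_d hyp ha he
    rw [he1, mul_one] at h1
    rw [he1] at hy
    exact f.not_inOrb hyp (f.inOrb_trans h1 (f.inOrb_symm ((hm₂ _).1 hy)))
  have hzcalc : ∀ e, c.IsFour e → e ≠ 1 → ∀ a ∈ c.Cr, ∀ b ∈ c.Cr,
      z (f.d * E.ι a, f.d * (e * E.ι b)) = e := by
    intro e he he1 a ha b hb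
    have hn : f.d * E.ι a * (f.d * (e * E.ι b)) = e * E.ι (a⁻¹ * b) := by
      rw [show f.d * E.ι a * (f.d * (e * E.ι b)) = f.d * (E.ι a * f.d) * (e * E.ι b) by group,
        f.d_Cr ha, ← mul_assoc f.d f.d, f.dd, one_mul, ← mul_assoc, ← c.four_comm_Cr he (inv_mem ha),
        mul_assoc, ← map_mul]
    have hu : a⁻¹ * b ∈ c.Cr := mul_mem (inv_mem ha) hb
    have hodd : Odd (orderOf (a⁻¹ * b)) :=
      (rOf_facts hyp).2.1.of_dvd_nat (orderOf_dvd_of_pow_eq_one hu.2)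
    have hoe : orderOf e = 2 := orderOf_eq_prime ((pow_two e).trans (c.four_sq he)) he1
    have hoi : orderOf (E.ι (a⁻¹ * b)) = orderOf (a⁻¹ * b) := orderOf_injective E.ι E.inj _
    have hcomm : Commute e (E.ι (a⁻¹ * b)) := c.four_comm_Cr he hu
    have ho : orderOf (e * E.ι (a⁻¹ * b)) = 2 * orderOf (a⁻¹ * b) := by
      rw [hcomm.orderOf_mul_eq_mul_orderOf_of_coprime (by
        rw [hoe, hoi]; exact Nat.coprime_two_left.2 hodd), hoe, hoi]
    show (f.d * E.ι a * (f.d * (e * E.ι b))) ^ (orderOf (f.d * E.ι a * (f.d * (e * E.ι b))) / 2) = e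
    rw [hn, ho, Nat.mul_div_cancel_left _ two_pos, hcomm.mul_pow, ← map_pow, pow_orderOf_eq_one,
      map_one, mul_one]
    obtain ⟨j, hj⟩ := hodd
    rw [hj, pow_succ, pow_mul, pow_two, c.four_sq he, one_pow, one_mul]
  obtain ⟨P, hP⟩ : ∃ P : G → Finset (G × G), P = fun w => (M₁ ×ˢ M₂).filter fun q => z q = w :=
    ⟨_, rfl⟩
  have hmP : ∀ w q, q ∈ P w ↔ q.1 ∈ M₁ ∧ q.2 ∈ M₂ ∧ z q = w := fun w q => by
    simp [hP, Finset.mem_product, and_assoc]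
  have hfib : (P E.t).card = rOf F * rOf F := by
    have hb : Function.Bijective (fun p : c.Cr × c.Cr =>
        (⟨(f.d * E.ι (p.1 : PST), f.d * (E.t * E.ι (p.2 : PST))), (hmP _ _).2
          ⟨(hm₁ _).2 (by
            have := f.inOrb_d hyp p.1.2 (e := 1) (Or.inl rfl)
            rwa [mul_one, one_mul] at this),
          (hm₂ _).2 (f.inOrb_d hyp p.2.2 ht4),
          hzcalc E.t ht4 E.t_ne_one _ p.1.2 _ p.2.2⟩⟩ : {q : G × G // q ∈ P E.t})) := by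
      constructor
      · intro p p' h
        have h' := congrArg Subtype.val h
        simp only [Prod.mk.injEq] at h'
        exact Prod.ext (Subtype.ext (E.inj (mul_left_cancel h'.1)))
          (Subtype.ext (E.inj (mul_left_cancel (mul_left_cancel h'.2))))
      · rintro ⟨⟨a, b⟩, hq⟩
        obtain ⟨ha, hb, hzt⟩ := (hmP _ _).1 hq
        obtain ⟨-, h1, h2⟩ := hz a ha b hb
        rw [hzt] at h1 h2
        obtain ⟨a', ha', rfl⟩ := hnear₁ a ha h1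
        obtain ⟨e, he, he1, b', hb', rfl⟩ := hnear₂ b hb h2
        rw [hzcalc e he he1 _ ha' _ hb'] at hzt
        subst hzt
        exact ⟨(⟨a', ha'⟩, ⟨b', hb'⟩), rfl⟩
    have := Nat.card_eq_of_bijective _ hb
    rw [Nat.card_prod, c.natCard_Cr hyp, Nat.card_eq_fintype_card, Fintype.card_coe] at this
    exact this.symm
  have hequiv : ∀ w ∈ Inv, (P w).card = (P E.t).card := by
    intro w hw
    obtain ⟨h, hh, rfl⟩ := (hmI w).1 hw
    have horb : ∀ (g : G), g ∈ f.X → ∀ x y, f.InOrb x y → f.InOrb x (g * y * g⁻¹) :=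
      fun g hg x y hy => f.inOrb_trans hy ⟨g, hg, rfl⟩
    have hzconj : ∀ (g a b : G), z (g * a * g⁻¹, g * b * g⁻¹) = g * z (a, b) * g⁻¹ := by
      intro g a b
      have hh : g * a * g⁻¹ * (g * b * g⁻¹) = g * (a * b) * g⁻¹ := by group
      have ho : orderOf (g * (a * b) * g⁻¹) = orderOf (a * b) := (MulAut.conj g).orderOf_eq (a * b)
      show (g * a * g⁻¹ * (g * b * g⁻¹)) ^ (orderOf (g * a * g⁻¹ * (g * b * g⁻¹)) / 2) = _
      rw [hh, ho, conj_pow]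
    refine Finset.card_bij' (fun q _ => (h⁻¹ * q.1 * h, h⁻¹ * q.2 * h))
      (fun q _ => (h * q.1 * h⁻¹, h * q.2 * h⁻¹)) ?_ ?_ ?_ ?_
    · intro q hq
      obtain ⟨h1, h2, h3⟩ := (hmP _ q).1 hq
      refine (hmP _ _).2 ⟨(hm₁ _).2 ?_, (hm₂ _).2 ?_, ?_⟩
      · simpa using horb h⁻¹ (inv_mem hh) _ _ ((hm₁ _).1 h1)
      · simpa using horb h⁻¹ (inv_mem hh) _ _ ((hm₂ _).1 h2)
      · have := hzconj h⁻¹ q.1 q.2
        simp only [inv_inv] at this
        rw [this, h3]; group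
    · intro q hq
      obtain ⟨h1, h2, h3⟩ := (hmP _ q).1 hq
      exact (hmP _ _).2 ⟨(hm₁ _).2 (horb h hh _ _ ((hm₁ _).1 h1)),
        (hm₂ _).2 (horb h hh _ _ ((hm₂ _).1 h2)), by rw [hzconj, h3]⟩
    · intro q _; ext <;> simp [mul_assoc]
    · intro q _; ext <;> simp [mul_assoc]
  have htot : M₁.card * M₂.card = Inv.card * (rOf F * rOf F) := by
    rw [← Finset.card_product, Finset.card_eq_sum_card_fiberwise (f := z) (t := Inv)
      (fun q hq => (hz q.1 (Finset.mem_product.1 hq).1 q.2 (Finset.mem_product.1 hq).2).1)]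
    rw [Finset.sum_congr rfl fun w hw => show _ = rOf F * rOf F by
      rw [← hfib, ← hequiv w hw, hP], Finset.sum_const, smul_eq_mul]
  have h1 := hcard M₁ _ hm₁
  have h2 := hcard M₂ _ hm₂
  have h3 := hcard Inv _ hmI
  rw [f.card_J₂ hyp] at h2
  rw [hC] at h3
  have hI : 0 < Inv.card := Finset.card_pos.2 ⟨E.t, (hmI _).2 ⟨1, one_mem _, by simp⟩⟩
  have hr0 : 0 < rOf F := by have := (rOf_facts hyp).2.2.1; omega
  have hM : M₁.card = rOf F := by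
    apply Nat.eq_of_mul_eq_mul_left (Nat.mul_pos hI (Nat.mul_pos (show 0 < 4 by norm_num) hr0))
    calc Inv.card * (4 * rOf F) * M₁.card = M₁.card * (M₂.card * 4) := by rw [h2, h3, mul_comm]
      _ = (M₁.card * M₂.card) * 4 := by ring
      _ = Inv.card * (4 * rOf F) * rOf F := by rw [htot]; ring
  rw [← h1, hM]

end Fix

end CfsgLib.ReeTypeS3
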