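import Cfsg.Agent.ReeTypeS3.Local

/-!
# The four-group, its cycling element and the odd part of its centraliser
-/

set_option autoImplicit false
set_option linter.unusedSectionVars false
set_option linter.style.haveILetI false

namespace CfsgLib.ReeTypeS3

open Matrix
open scoped MatrixGroups

universe u v

variable {G : Type u} [Group G] [Fintype G] {F : Type v} [Field F] [Fintype F]

local notation "PST" => Matrix.ProjectiveSpecialLinearGroup (Fin 2) F

/-- An element of order three cycling a four-group through `t`, with the torus of the four-group. -/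
structure Cyc (E : Emb G (Matrix.ProjectiveSpecialLinearGroup (Fin 2) F)) where
  /-- The cycling element. -/
  v : G
  /-- The second involution. -/
  t₁ : G
  /-- The involution of `L`. -/
  i : Matrix.ProjectiveSpecialLinearGroup (Fin 2) F
  /-- A matrix whose torus contains it. -/
  g : SL(2, F)
  v3 : v ^ 3 = 1
  v1 : v ≠ 1
  i1 : i ≠ 1
  ii : i * i = 1
  ht₁ : t₁ = E.ι i ∨ t₁ = E.t * E.ι i
  hv : v * E.t * v⁻¹ = t₁
  hv₁ : v * t₁ * v⁻¹ = E.t * t₁
  htr : SL2Tori.tr g ^ 2 ≠ 4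
  card_tor : 2 * Nat.card (tor g) = Fintype.card F + 1
  mem : i ∈ tor g
  cent : ∀ l : Matrix.ProjectiveSpecialLinearGroup (Fin 2) F, l * i = i * l ↔ l ∈ torN g

variable {E : Emb G (Matrix.ProjectiveSpecialLinearGroup (Fin 2) F)}

theorem exists_cyc (hyp : Hyp E) : Nonempty (Cyc E) := by
  obtain ⟨v, t₁, i, h1, h2, h3, h4, h5, h6, h7⟩ := exists_cycle hyp
  obtain ⟨g, g1, g2, g3, g4⟩ := exists_involution_tor (by have := hyp.mod8; omega) h3 h4
  exact ⟨⟨v, t₁, i, g, h1, h2, h3, h4, h5, h6, h7, g1, g2, g3, g4⟩⟩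

/-- The number `(q + 1) / 4`. -/
def rOf (F : Type v) [Fintype F] : ℕ := (Fintype.card F + 1) / 4

theorem rOf_facts (hyp : Hyp E) :
    4 * rOf F = Fintype.card F + 1 ∧ Odd (rOf F) ∧ 7 ≤ rOf F ∧ rOf F % 3 = 1 := by
  have h8 := hyp.mod8
  have h27 := q_large hyp
  obtain ⟨k, hk, hq⟩ := hyp.three
  have h3 : Fintype.card F % 3 = 0 := by
    rw [hq]; exact Nat.mod_eq_zero_of_dvd (dvd_pow_self 3 (by omega))
  refine ⟨?_, Nat.odd_iff.2 ?_, ?_, ?_⟩ <;> unfold rOf <;> omega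

namespace Cyc

variable (hyp : Hyp E) (c : Cyc E)

theorem t₁_comm : c.t₁ * E.t = E.t * c.t₁ := E.mem_cent c.ht₁

theorem t₁_sq : c.t₁ * c.t₁ = 1 := by
  rcases c.ht₁ with h | h <;> rw [h]
  · rw [← map_mul, c.ii, map_one]
  · rw [← mul_assoc, mul_assoc E.t, ← E.comm c.i, ← mul_assoc, E.sq, one_mul, ← map_mul, c.ii, map_one]

theorem v_inv : c.v⁻¹ = c.v * c.v :=
  inv_eq_of_mul_eq_one_right (by rw [← mul_assoc, ← pow_two, ← pow_succ, c.v3])

theorem hv₂ : c.v * (E.t * c.t₁) * c.v⁻¹ = E.t := by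
  calc c.v * (E.t * c.t₁) * c.v⁻¹ = c.v * E.t * c.v⁻¹ * (c.v * c.t₁ * c.v⁻¹) := by group
    _ = c.t₁ * (E.t * c.t₁) := by rw [c.hv, c.hv₁]
    _ = E.t * (c.t₁ * c.t₁) := by rw [← mul_assoc, c.t₁_comm, mul_assoc]
    _ = E.t := by rw [c.t₁_sq, mul_one]

theorem commute_t₁_iff {x : G} {l : PST} (hx : x = E.ι l ∨ x = E.t * E.ι l) :
    x * c.t₁ = c.t₁ * x ↔ l ∈ torN c.g := by
  rw [← mul_inv_eq_iff_eq_mul, ← c.cent, ← mul_inv_eq_iff_eq_mul]
  rcases c.ht₁ with h | h <;> rw [h]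
  · rw [E.conj_ι hx]
    exact E.inj.eq_iff
  · have : x * (E.t * E.ι c.i) * x⁻¹ = E.t * (x * E.ι c.i * x⁻¹) := by
      rw [← mul_assoc, E.mem_cent hx]
      simp only [mul_assoc]
    rw [this, E.conj_ι hx, mul_left_cancel_iff]
    exact E.inj.eq_iff

/-- Conjugation by `v` preserves the centraliser of the four-group. -/
theorem conj_cent {x : G} (h : x * E.t = E.t * x) (h₁ : x * c.t₁ = c.t₁ * x) :
    (c.v * x * c.v⁻¹) * E.t = E.t * (c.v * x * c.v⁻¹) ∧
      (c.v * x * c.v⁻¹) * c.t₁ = c.t₁ * (c.v * x * c.v⁻¹) := by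
  have key : ∀ e e' : G, c.v * e * c.v⁻¹ = e' → x * e = e * x →
      (c.v * x * c.v⁻¹) * e' = e' * (c.v * x * c.v⁻¹) := by
    intro e e' he hx
    rw [← he]
    calc c.v * x * c.v⁻¹ * (c.v * e * c.v⁻¹) = c.v * (x * e) * c.v⁻¹ := by group
      _ = _ := by rw [hx]; group
  refine ⟨key _ _ c.hv₂ ?_, key _ _ c.hv h⟩
  rw [← mul_assoc, h, mul_assoc, h₁, mul_assoc]

include hyp

theorem natCard_tor : Nat.card (tor c.g) = 2 * rOf F := by
  have := c.card_tor
  have := (rOf_facts hyp).1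
  omega

theorem natCard_torN : Nat.card (torN c.g) = 4 * rOf F := by
  rw [ReeTypeS3.natCard_torN c.htr (two_ne hyp), natCard_tor hyp c]
  omega

omit hyp in
/-- The odd part of the torus. -/
def Cr : Subgroup PST where
  carrier := {x | x ∈ tor c.g ∧ x ^ rOf F = 1}
  one_mem' := ⟨one_mem _, one_pow _⟩
  mul_mem' {a b} ha hb := ⟨mul_mem ha.1 hb.1, by
    rw [(show Commute a b from tor_comm c.htr ha.1 hb.1).mul_pow, ha.2, hb.2, one_mul]⟩
  inv_mem' {a} ha := ⟨inv_mem ha.1, by rw [inv_pow, ha.2, inv_one]⟩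

omit hyp in
theorem mem_Cr {x : PST} : x ∈ c.Cr ↔ x ∈ tor c.g ∧ x ^ rOf F = 1 := Iff.rfl

omit hyp in
theorem Cr_le : c.Cr ≤ tor c.g := fun _ h => h.1

theorem isCyclic_Cr : IsCyclic c.Cr := by
  haveI := isCyclic_tor c.htr
  exact Subgroup.isCyclic_of_le c.Cr_le

theorem natCard_Cr : Nat.card c.Cr = rOf F := by
  haveI := isCyclic_tor c.htr
  letI : CommGroup (tor c.g) := IsCyclic.commGroup
  have e : c.Cr ≃ (powMonoidHom (rOf F) : tor c.g →* tor c.g).ker :=
    { toFun := fun x => ⟨⟨x.1, x.2.1⟩, Subtype.ext x.2.2⟩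
      invFun := fun x => ⟨x.1.1, x.1.2, congrArg Subtype.val x.2⟩
      left_inv := fun _ => rfl
      right_inv := fun _ => rfl }
  rw [Nat.card_congr e, IsCyclic.card_powMonoidHom_ker, natCard_tor hyp c]
  exact Nat.gcd_eq_right (Dvd.intro_left 2 rfl)

theorem odd_Cr : Odd (Nat.card c.Cr) := by
  rw [natCard_Cr hyp c]; exact (rOf_facts hyp).2.1

theorem index_tor : ((tor c.g).subgroupOf (torN c.g)).index = 2 := by
  have h := ((tor c.g).subgroupOf (torN c.g)).card_mul_index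
  rw [Nat.card_congr (Subgroup.subgroupOfEquivOfLe (tor_le_torN c.g)).toEquiv, natCard_tor hyp c,
    natCard_torN hyp c] at h
  have := (rOf_facts hyp).2.2.1
  nlinarith

/-- The elements of odd order of the centraliser of the four-group. -/
theorem odd_mem_Cr {x : G} (h : x * E.t = E.t * x) (h₁ : x * c.t₁ = c.t₁ * x) {m : ℕ} (hm : Odd m)
    (hx : x ^ m = 1) : ∃ a ∈ c.Cr, x = E.ι a := by
  obtain ⟨l, hl⟩ := E.cent x h
  have hN := (c.commute_t₁_iff hl).1 h₁
  have hlm : x = E.ι l ∧ l ^ m = 1 := by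
    rcases hl with e | e
    · exact ⟨e, E.inj (by rw [map_pow, ← e, hx, map_one])⟩
    · exfalso
      rw [e, (show Commute E.t (E.ι l) from E.comm l).mul_pow] at hx
      obtain ⟨j, hj⟩ := hm
      rw [show E.t ^ m = E.t by rw [hj, pow_succ, pow_mul, pow_two, E.sq, one_pow, one_mul],
        ← map_pow] at hx
      exact E.ι_eq_t_mul_iff (a := 1) (b := l ^ m) (by rw [map_one E.ι]; exact hx.symm)
  have hA : (⟨l, hN⟩ : torN c.g) ∈ (tor c.g).subgroupOf (torN c.g) :=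
    mem_of_odd_order (index_tor hyp c) hm (Subtype.ext (by simpa using hlm.2))
  rw [Subgroup.mem_subgroupOf] at hA
  refine ⟨l, ⟨hA, ?_⟩, hlm.1⟩
  have h2r : orderOf l ∣ 2 * rOf F := by
    rw [← natCard_tor hyp c, ← Subgroup.orderOf_mk l hA]
    exact orderOf_dvd_natCard _
  have hco : Nat.Coprime (orderOf l) 2 :=
    Nat.coprime_two_right.2 (hm.of_dvd_nat (orderOf_dvd_of_pow_eq_one hlm.2))
  exact orderOf_dvd_iff_pow_eq_one.1 (hco.dvd_of_dvd_mul_left h2r)

omit hyp in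
theorem Cr_comm_t₁ {a : PST} (ha : a ∈ c.Cr) : E.ι a * c.t₁ = c.t₁ * E.ι a :=
  (c.commute_t₁_iff (Or.inl rfl)).2 (tor_le_torN c.g ha.1)

theorem conj_Cr {a : PST} (ha : a ∈ c.Cr) : ∃ b ∈ c.Cr, c.v * E.ι a * c.v⁻¹ = E.ι b := by
  obtain ⟨h1, h2⟩ := c.conj_cent (E.comm a).symm (c.Cr_comm_t₁ ha)
  exact odd_mem_Cr hyp c h1 h2 (rOf_facts hyp).2.1
    (by rw [conj_pow, ← map_pow, ha.2, map_one, mul_one, mul_inv_cancel])

/-- The image of an element of `C_r` under `v`. -/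
noncomputable def autFun (a : c.Cr) : c.Cr :=
  ⟨(conj_Cr hyp c a.2).choose, (conj_Cr hyp c a.2).choose_spec.1⟩

theorem autFun_spec (a : c.Cr) : E.ι (autFun hyp c a : PST) = c.v * E.ι (a : PST) * c.v⁻¹ :=
  (conj_Cr hyp c a.2).choose_spec.2.symm

/-- The automorphism of `C_r` induced by `v`. -/
noncomputable def aut : c.Cr →* c.Cr where
  toFun := autFun hyp c
  map_one' := Subtype.ext (E.inj (by
    rw [autFun_spec]
    simp))
  map_mul' a b := Subtype.ext (E.inj (by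
    simp only [Subgroup.coe_mul, map_mul, autFun_spec]
    group))

theorem aut_spec (a : c.Cr) : E.ι (aut hyp c a : PST) = c.v * E.ι (a : PST) * c.v⁻¹ :=
  autFun_spec hyp c a

theorem aut_cube (a : c.Cr) : aut hyp c (aut hyp c (aut hyp c a)) = a := by
  refine Subtype.ext (E.inj ?_)
  rw [aut_spec, aut_spec, aut_spec]
  calc c.v * (c.v * (c.v * E.ι (a : PST) * c.v⁻¹) * c.v⁻¹) * c.v⁻¹
      = c.v ^ 3 * E.ι (a : PST) * (c.v ^ 3)⁻¹ := by
        simp only [pow_succ, pow_zero, one_mul, _root_.mul_inv_rev, mul_assoc]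
    _ = E.ι (a : PST) := by rw [c.v3, one_mul, inv_one, mul_one]

end Cyc

end CfsgLib.ReeTypeS3
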