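import Cfsg.Agent.ReeTypeS3.Count

/-!
# The contradiction from a centralised torus element
-/

set_option autoImplicit false
set_option linter.unusedSectionVars false
set_option linter.style.haveILetI false

namespace CfsgLib.ReeTypeS3

open Matrix
open scoped MatrixGroups

universe u v

variable {G : Type u} [Group G] [Fintype G] {F : Type v} [Field F] [Fintype F]

local notation "PST" => Matrix.ProjectiveSpecialLinearGroup (Fin 2) F

variable {E : Emb G (Matrix.ProjectiveSpecialLinearGroup (Fin 2) F)}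

namespace Fix

variable (hyp : Hyp E) {c : Cyc E} (f : Fix c)
include hyp

theorem not_dvd_J : ¬ f.p ∣ Nat.card (f.X ⊓ Subgroup.centralizer ({f.d} : Set G) : Subgroup G) ∧
    ¬ 9 ∣ Nat.card (f.X ⊓ Subgroup.centralizer ({f.d} : Set G) : Subgroup G) := by
  rcases f.card_J hyp with h | h <;> rw [h] <;> refine ⟨fun hd => ?_, by norm_num⟩
  all_goals
    have h7 := f.p7
    have hp := f.hp
    have hle := Nat.le_of_dvd (by norm_num) hd
    interval_cases hf : f.p <;> simp_all (config := {decide := true})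

theorem not_nine_dvd : ¬ 9 ∣ Nat.card f.X := by
  rw [f.natCard_X hyp]
  intro h
  refine (f.not_dvd_J hyp).2 ((Nat.Coprime.pow_left 2 ?_).dvd_of_dvd_mul_left (k := 3 ^ 2)
    (by norm_num; exact h))
  rw [Nat.prime_three.coprime_iff_not_dvd]
  have := (rOf_facts hyp).2.2.2
  omega

/-- The elements of order `p` of a `p`-group through `ι a₀`. -/
theorem mem_zpowers {P : Subgroup G} (hP : IsPGroup f.p P) (ha : E.ι f.a₀ ∈ P) {z : G} (hz : z ∈ P)
    (hzp : z ^ f.p = 1) : z ∈ Subgroup.zpowers (E.ι f.a₀) := by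
  classical
  haveI : Fact f.p.Prime := ⟨f.hp⟩
  have hoa : orderOf (E.ι f.a₀) = f.p := by rw [orderOf_injective E.ι E.inj, f.ho]
  -- inside the centraliser
  have inside : ∀ P : Subgroup G, IsPGroup f.p P → P ≤ f.X → E.ι f.a₀ ∈ P → ∀ z ∈ P,
      z ^ f.p = 1 → z ∈ Subgroup.zpowers (E.ι f.a₀) := by
    intro P hP hPX ha z hz hzp
    haveI := c.isCyclic_Cr hyp
    let ψ : c.Cr →* f.X := (E.ι.comp c.Cr.subtype).codRestrict f.X fun a => f.Cr_mem_X a.2
    have hψ : Function.Injective ψ := fun a b h =>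
      Subtype.ext (E.inj (congrArg Subtype.val h))
    obtain ⟨U₀⟩ : Nonempty (Sylow f.p c.Cr) := inferInstance
    let U : Sylow f.p f.X := Sylow.ofCard ((U₀ : Subgroup c.Cr).map ψ) (by
      rw [Subgroup.card_map_of_injective hψ, Sylow.card_eq_multiplicity, c.natCard_Cr hyp,
        f.natCard_X hyp, Nat.factorization_mul (by have := (rOf_facts hyp).2.2.1; omega) Nat.card_pos.ne',
        Finsupp.add_apply, Nat.factorization_eq_zero_of_not_dvd (f.not_dvd_J hyp).1, add_zero])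
    have hUc : IsCyclic (U : Subgroup f.X) := by
      show IsCyclic ((U₀ : Subgroup c.Cr).map ψ)
      exact isCyclic_of_surjective _ (ψ.subgroupMap_surjective (U₀ : Subgroup c.Cr))
    obtain ⟨V, hV⟩ := (hP.comap_subtype (K := f.X)).exists_le_sylow
    haveI : IsCyclic (V : Subgroup f.X) := isCyclic_of_surjective _ (Sylow.equiv U V).surjective
    haveI : IsCyclic (P.subgroupOf f.X) := Subgroup.isCyclic_of_le hV
    haveI : IsCyclic P := isCyclic_of_surjective _ (Subgroup.subgroupOfEquivOfLe hPX).surjective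
    by_contra hnot
    have hle := IsCyclic.card_pow_eq_one_le (α := P) f.hp.pos
    let ι' : Subgroup.zpowers (⟨E.ι f.a₀, ha⟩ : P) → P := fun x => x.1
    have hsub : insert (⟨z, hz⟩ : P) (Finset.univ.image ι') ⊆ Finset.univ.filter (fun x => x ^ f.p = 1) := by
      intro x hx
      simp only [Finset.mem_filter, Finset.mem_univ, true_and]
      rcases Finset.mem_insert.1 hx with rfl | hx
      · exact Subtype.ext (by simpa using hzp)
      · obtain ⟨⟨w, hw⟩, -, rfl⟩ := Finset.mem_image.1 hx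
        have ho : orderOf (⟨E.ι f.a₀, ha⟩ : P) = f.p := by rw [Subgroup.orderOf_mk]; exact hoa
        exact orderOf_dvd_iff_pow_eq_one.1 (ho ▸ orderOf_dvd_of_mem_zpowers hw)
    have h2 := (Finset.card_le_card hsub).trans hle
    rw [Finset.card_insert_of_notMem (by
        intro hm
        obtain ⟨⟨w, n, hn⟩, -, he⟩ := Finset.mem_image.1 hm
        exact hnot ⟨n, (congrArg Subtype.val hn).trans (congrArg Subtype.val he) |> fun h => by
          simpa using h⟩),
      Finset.card_image_of_injective _ Subtype.val_injective, Finset.card_univ, ← Nat.card_eq_fintype_card,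
      Nat.card_zpowers, Subgroup.orderOf_mk, hoa] at h2
    omega
  -- a central element of order `p` shows that `P` centralises `ι a₀`
  haveI : Nontrivial P := ⟨⟨⟨E.ι f.a₀, ha⟩, 1, fun h => by
    have := congrArg Subtype.val h
    exact f.a₀_ne_one (E.inj (this.trans (map_one E.ι).symm))⟩⟩
  haveI := hP.center_nontrivial
  have hZ : IsPGroup f.p (Subgroup.center P) := hP.to_subgroup _
  obtain ⟨n, hn⟩ := hZ.exists_card_eq
  have hn0 : n ≠ 0 := fun h0 => by
    rw [h0, pow_zero] at hn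
    have := Finite.one_lt_card (α := Subgroup.center P)
    omega
  obtain ⟨⟨w, hw⟩, hwo⟩ := exists_prime_orderOf_dvd_card' (G := Subgroup.center P) f.p
    (hn ▸ dvd_pow_self _ hn0)
  rw [Subgroup.orderOf_mk, ← Subgroup.orderOf_coe] at hwo
  have hwX : (w : G) ∈ f.X :=
    f.mem_X.2 (congrArg Subtype.val (Subgroup.mem_center_iff.1 hw ⟨E.ι f.a₀, ha⟩)).symm
  have h3 := inside (P ⊓ f.X) (hP.to_le inf_le_left) inf_le_right ⟨ha, f.Cr_mem_X f.ha₀⟩ w
    ⟨w.2, hwX⟩ (hwo ▸ pow_orderOf_eq_one (w : G))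
  have hle : P ≤ f.X := by
    intro x hx
    rw [f.mem_X]
    have hmem : E.ι f.a₀ ∈ Subgroup.zpowers (w : G) := by
      have heq : Subgroup.zpowers (w : G) = Subgroup.zpowers (E.ι f.a₀) :=
        Subgroup.eq_of_le_of_card_ge (Subgroup.zpowers_le.2 h3)
          (by rw [Nat.card_zpowers, Nat.card_zpowers, hwo, hoa])
      rw [heq]; exact Subgroup.mem_zpowers _
    obtain ⟨m, hm⟩ := hmem
    rw [← hm]
    have hc : Commute x (w : G) := congrArg Subtype.val (Subgroup.mem_center_iff.1 hw ⟨x, hx⟩)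
    exact hc.zpow_right m
  exact inside P hP hle ha z hz hzp

include f in
/-- The contradiction. -/
theorem absurd_fix : False := by
  classical
  haveI : Fact f.p.Prime := ⟨f.hp⟩
  haveI : Fact (Nat.Prime 3) := ⟨Nat.prime_three⟩
  obtain ⟨S, hS⟩ := exists_sylow_three hyp
  obtain ⟨k, hk, hq⟩ := hyp.three
  have hp3 : IsPGroup 3 (Subgroup.zpowers c.v) := IsPGroup.of_card (n := 1) (by
    rw [Nat.card_zpowers, pow_one, orderOf_eq_prime c.v3 c.v1])
  obtain ⟨S₁, hS₁⟩ := hp3.exists_le_sylow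
  obtain ⟨g, hg⟩ := MulAction.exists_smul_eq G S₁ S
  have hy : g * c.v * g⁻¹ ∈ subQG E := by
    rw [← hS, ← hg, Sylow.coe_subgroup_smul]
    exact Subgroup.smul_mem_pointwise_smul _ (MulAut.conj g) _ (hS₁ (Subgroup.mem_zpowers _))
  obtain ⟨y, hy'⟩ : ∃ y, y = g * c.v * g⁻¹ := ⟨_, rfl⟩
  rw [← hy'] at hy
  obtain ⟨_, ⟨β, rfl⟩, hyb⟩ := id hy
  have hy1 : y ≠ 1 := fun h => c.v1 (conj_eq_one_iff.1 (hy'.symm.trans h))
  obtain ⟨c', hc'⟩ : ∃ c', c' = g * E.ι f.a₀ * g⁻¹ := ⟨_, rfl⟩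
  obtain ⟨W, hW⟩ : ∃ W : Subgroup G, W = Subgroup.centralizer ({y} : Set G) := ⟨_, rfl⟩
  have hmW : ∀ x, x ∈ W ↔ x * y = y * x := fun x => by
    rw [hW, Subgroup.mem_centralizer_singleton_iff]
  have hc'W : c' ∈ W := by
    rw [hmW, hc', hy']
    calc g * E.ι f.a₀ * g⁻¹ * (g * c.v * g⁻¹) = g * (E.ι f.a₀ * c.v) * g⁻¹ := by group
      _ = g * (c.v * E.ι f.a₀) * g⁻¹ := by rw [mul_inv_eq_iff_eq_mul.1 (f.vfix _ f.ha₀)]
      _ = _ := by group
  have hSW : (S : Subgroup G) ≤ W := fun x hx => (hmW x).2 (subQG_comm hyp (hS ▸ hx) hy)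
  have hN : Subgroup.normalizer ((S.subtype hSW : Subgroup W) : Set W) ≤
      Subgroup.centralizer ((S.subtype hSW : Subgroup W) : Set W) := by
    intro x hx
    have hmem : ∀ z : W, z ∈ (S.subtype hSW : Subgroup W) ↔ (z : G) ∈ subQG E := fun z => by
      rw [← hS]; rfl
    have hxN : (x : G) ∈ Subgroup.normalizer (subQG E : Set G) := by
      rw [Subgroup.mem_normalizer_iff]
      intro q
      constructor
      · intro hq'
        exact (hmem _).1 ((Subgroup.mem_normalizer_iff.1 hx ⟨q, hSW (hS ▸ hq')⟩).1 ((hmem _).2 hq'))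
      · intro hq'
        have hqW : q ∈ W := by
          have := mul_mem (mul_mem (inv_mem x.2) (hSW (hS ▸ hq'))) x.2
          simpa [mul_assoc] using this
        exact (hmem ⟨q, hqW⟩).1 ((Subgroup.mem_normalizer_iff.1 hx ⟨q, hqW⟩).2 ((hmem _).2 hq'))
    obtain ⟨a, ha⟩ := normalizer_acts hyp hxN
    have haa : a * a = 1 := by
      have h := ha (Multiplicative.toAdd β)
      rw [ofAdd_toAdd, hyb, (hmW x).1 x.2, mul_inv_cancel_right, ← hyb] at h
      have h' := congrArg Multiplicative.toAdd (uQ_injective (E.inj h))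
      refine mul_right_cancel₀ (b := Multiplicative.toAdd β) (fun h0 => hy1 ?_) ?_
      · rw [← hyb, show β = 1 from h0, map_one, map_one]
      · rw [one_mul]; exact h'.symm
    rw [Subgroup.mem_centralizer_iff]
    intro z hz
    obtain ⟨_, ⟨b, rfl⟩, hb⟩ := (hmem z).1 hz
    refine Subtype.ext ?_
    have h := ha (Multiplicative.toAdd b)
    rw [haa, one_mul, ofAdd_toAdd, hb, mul_inv_eq_iff_eq_mul] at h
    exact h.symm
  obtain ⟨R, hR⟩ : ∃ R : Subgroup W, R = (MonoidHom.transferSylow (S.subtype hSW) hN).ker := ⟨_, rfl⟩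
  haveI : R.Normal := hR ▸ inferInstance
  have hidx : R.index = Fintype.card F := by
    rw [hR, (MonoidHom.ker_transferSylow_isComplement' _ hN).symm.index_eq_card, Sylow.coe_subtype,
      Nat.card_congr (Subgroup.subgroupOfEquivOfLe hSW).toEquiv, hS, natCard_subQG hyp]
  have hoc : orderOf c' = f.p := by
    rw [hc']; exact ((MulAut.conj g).orderOf_eq _).trans (by rw [orderOf_injective E.ι E.inj, f.ho])
  have hcR : (⟨c', hc'W⟩ : W) ∈ R := by
    have h1 : orderOf (QuotientGroup.mk' R ⟨c', hc'W⟩) ∣ f.p := by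
      have := orderOf_map_dvd (QuotientGroup.mk' R) (⟨c', hc'W⟩ : W)
      rwa [Subgroup.orderOf_mk, hoc] at this
    have h2 : orderOf (QuotientGroup.mk' R ⟨c', hc'W⟩) ∣ Fintype.card F := by
      rw [← hidx, Subgroup.index_eq_card]; exact orderOf_dvd_natCard _
    have h3 : Nat.Coprime f.p (Fintype.card F) := by
      rw [hq]
      exact ((Nat.coprime_primes f.hp Nat.prime_three).2 (by have := f.p7; omega)).pow_right k
    exact (QuotientGroup.eq_one_iff _).1 (orderOf_eq_one_iff.1 (Nat.eq_one_of_dvd_coprimes h3 h1 h2))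
  have hpc : IsPGroup f.p (Subgroup.zpowers (⟨⟨c', hc'W⟩, hcR⟩ : R)) := IsPGroup.of_card (n := 1) (by
    rw [Nat.card_zpowers, Subgroup.orderOf_mk, Subgroup.orderOf_mk, hoc, pow_one])
  obtain ⟨P', hP'⟩ := hpc.exists_le_sylow
  obtain ⟨N, hNdef⟩ : ∃ N : Subgroup W,
      N = Subgroup.normalizer (((P' : Subgroup R).map R.subtype : Subgroup W) : Set W) := ⟨_, rfl⟩
  have hsup : N ⊔ R = ⊤ := hNdef ▸ Sylow.normalizer_sup_eq_top P'
  have hqN : Fintype.card F ∣ Nat.card N := by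
    rw [← hidx, Subgroup.index_eq_card]
    refine Subgroup.card_dvd_of_surjective ((QuotientGroup.mk' R).comp N.subtype) ?_
    rw [← MonoidHom.range_eq_top, MonoidHom.range_comp, Subgroup.range_subtype]
    have := congrArg (Subgroup.map (QuotientGroup.mk' R)) hsup
    rw [Subgroup.map_sup, Subgroup.map_top_of_surjective _ (QuotientGroup.mk'_surjective R)] at this
    rwa [show R.map (QuotientGroup.mk' R) = ⊥ from (Subgroup.map_eq_bot_iff _).2
      (QuotientGroup.ker_mk' R).ge, sup_bot_eq] at this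
  obtain ⟨T⟩ : Nonempty (Sylow 3 N) := inferInstance
  have hT3 : 3 ^ k ∣ Nat.card (T : Subgroup N) := T.pow_dvd_card_of_pow_dvd_card (hq ▸ hqN)
  obtain ⟨TG, hTG⟩ : ∃ TG : Subgroup G,
      TG = (T : Subgroup N).map (W.subtype.comp N.subtype) := ⟨_, rfl⟩
  have hTGp : IsPGroup 3 TG := hTG ▸ T.2.map _
  have hTGcard : Nat.card TG = Nat.card (T : Subgroup N) := by
    rw [hTG]
    exact Subgroup.card_map_of_injective (f := W.subtype.comp N.subtype)
      (W.subtype_injective.comp N.subtype_injective)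
  obtain ⟨P'G, hP'G⟩ : ∃ P'G : Subgroup G,
      P'G = (P' : Subgroup R).map (W.subtype.comp R.subtype) := ⟨_, rfl⟩
  have hc'P : c' ∈ P'G := by rw [hP'G]; exact ⟨_, hP' (Subgroup.mem_zpowers _), rfl⟩
  -- conjugation by `TG` keeps the cyclic group of `c'`
  have horb : ∀ n ∈ TG, n * c' * n⁻¹ ∈ Subgroup.zpowers c' := by
    intro n hn
    rw [hTG] at hn
    obtain ⟨⟨⟨x, hxW⟩, hxN⟩, -, rfl⟩ := hn
    change x * c' * x⁻¹ ∈ _
    have hmem : x * c' * x⁻¹ ∈ P'G := by
      rw [hNdef] at hxN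
      obtain ⟨w, hw, hwe⟩ := (Subgroup.mem_normalizer_iff.1 hxN ⟨c', hc'W⟩).1
        ⟨⟨⟨c', hc'W⟩, hcR⟩, hP' (Subgroup.mem_zpowers _), rfl⟩
      rw [hP'G]
      exact ⟨w, hw, congrArg Subtype.val hwe⟩
    have hzp : (g⁻¹ * (x * c' * x⁻¹) * g) ^ f.p = 1 := by
      have h1 : (x * c' * x⁻¹) ^ f.p = 1 := by
        rw [conj_pow, ← hoc, pow_orderOf_eq_one]; group
      have h2 := conj_pow (i := f.p) (a := g⁻¹) (b := x * c' * x⁻¹)
      rw [inv_inv] at h2
      rw [h2, h1]; group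
    have hP'p : IsPGroup f.p P'G := hP'G ▸ P'.2.map _
    obtain ⟨m, hm⟩ := f.mem_zpowers hyp (P := P'G.map (MulAut.conj g⁻¹).toMonoidHom) (hP'p.map _)
      ⟨c', hc'P, by
        show g⁻¹ * c' * g⁻¹⁻¹ = E.ι f.a₀
        rw [hc']; group⟩
      (z := g⁻¹ * (x * c' * x⁻¹) * g) ⟨_, hmem, by
        show g⁻¹ * (x * c' * x⁻¹) * g⁻¹⁻¹ = _
        rw [inv_inv]⟩ hzp
    refine ⟨m, ?_⟩
    show c' ^ m = _
    have hm' : E.ι f.a₀ ^ m = g⁻¹ * (x * c' * x⁻¹) * g := hm
    calc c' ^ m = g * E.ι f.a₀ ^ m * g⁻¹ := by rw [hc', conj_zpow]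
      _ = _ := by rw [hm']; group
  -- at most three images of `c'`
  obtain ⟨Rt, hRt⟩ : ∃ Rt : Finset (ZMod f.p), Rt = Polynomial.nthRootsFinset 3 (1 : ZMod f.p) :=
    ⟨_, rfl⟩
  have hRt3 : Rt.card ≤ 3 := by
    rw [hRt, Polynomial.nthRootsFinset_def]
    exact (Multiset.toFinset_card_le _).trans (Polynomial.card_nthRoots 3 1)
  have hcube : ∀ n ∈ TG, n ^ 3 = 1 := by
    intro n hn
    obtain ⟨S', hS'⟩ := hTGp.exists_le_sylow
    have h3 : ∀ z : (S : Subgroup G), z ^ 3 = 1 := fun z =>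
      Subtype.ext (by simpa using subQG_cube hyp (hS ▸ z.2))
    have := congrArg Subtype.val ((Sylow.equiv S' S).injective (a₁ := ⟨n, hS' hn⟩ ^ 3) (a₂ := 1)
      (by rw [map_pow, map_one]; exact h3 _))
    simpa using this
  have hcard : Nat.card {z : G // ∃ n ∈ TG, n * c' * n⁻¹ = z} ≤ 3 := by
    refine le_trans ?_ hRt3
    rw [← Fintype.card_coe, ← Nat.card_eq_fintype_card]
    refine Nat.card_le_card_of_surjective (fun m : Rt => (if h : ∃ n ∈ TG, n * c' * n⁻¹ =
      c' ^ (m.1.val) then ⟨c' ^ (m.1.val), h⟩ else ⟨c', 1, one_mem _, by simp⟩ :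
        {z : G // ∃ n ∈ TG, n * c' * n⁻¹ = z})) ?_
    rintro ⟨z, n, hn, rfl⟩
    obtain ⟨m, hm⟩ := horb n hn
    have hm' : c' ^ m = n * c' * n⁻¹ := hm
    have hm3 : ((m : ZMod f.p)) ^ 3 = 1 := by
      have e1 : ∀ (j : ℤ), n * c' ^ j * n⁻¹ = c' ^ (m * j) := fun j => by
        rw [← conj_zpow, ← hm', _root_.zpow_mul]
      have e2 : c' ^ (m * (m * m)) = c' := by
        have h3 : n * (n * (n * c' * n⁻¹) * n⁻¹) * n⁻¹ = c' := by
          rw [show n * (n * (n * c' * n⁻¹) * n⁻¹) * n⁻¹ = n ^ 3 * c' * (n ^ 3)⁻¹ by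
            simp only [pow_succ, pow_zero, one_mul, _root_.mul_inv_rev, mul_assoc], hcube n hn]
          group
        rw [← hm', e1, e1] at h3
        exact h3
      have e3 : c' ^ (m * (m * m) - 1) = 1 := by
        rw [_root_.zpow_sub, e2, zpow_one, mul_inv_cancel]
      rw [← orderOf_dvd_iff_zpow_eq_one, hoc, ← ZMod.intCast_zmod_eq_zero_iff_dvd] at e3
      push_cast at e3
      linear_combination e3
    have hval : c' ^ ((m : ZMod f.p).val) = n * c' * n⁻¹ := by
      rw [← hm', ← zpow_natCast, ZMod.val_intCast, ← hoc, zpow_mod_orderOf]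
    refine ⟨⟨(m : ZMod f.p), by rw [hRt, Polynomial.mem_nthRootsFinset (by norm_num)]; exact hm3⟩, ?_⟩
    simp only
    rw [dif_pos ⟨n, hn, hval.symm⟩]
    exact Subtype.ext hval
  have hmul := card_conj_mul TG c'
  obtain ⟨b, hb⟩ := (hTGp.to_le (inf_le_left :
    TG ⊓ Subgroup.centralizer ({c'} : Set G) ≤ TG)).exists_card_eq
  have h9 : 9 ∣ Nat.card (TG ⊓ Subgroup.centralizer ({c'} : Set G) : Subgroup G) := by
    have hk3 : 3 ≤ k := by
      rcases (show k = 2 ∨ 3 ≤ k by omega) with rfl | h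
      · have := hyp.mod8; rw [hq] at this; norm_num at this
      · exact h
    have h27 : 27 ≤ Nat.card TG := by
      rw [hTGcard]
      exact le_trans (le_trans (by norm_num) (Nat.pow_le_pow_right (show 0 < 3 by norm_num) hk3))
        (Nat.le_of_dvd Nat.card_pos hT3)
    rw [hb] at hmul ⊢
    rcases (show b ≤ 1 ∨ 2 ≤ b by omega) with hb1 | hb2
    · have : 3 ^ b ≤ 3 := by simpa using Nat.pow_le_pow_right (show 0 < 3 by norm_num) hb1
      have := Nat.mul_le_mul hcard this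
      omega
    · exact (show (9 : ℕ) = 3 ^ 2 by norm_num) ▸ pow_dvd_pow 3 hb2
  refine f.not_nine_dvd hyp (h9.trans ?_)
  refine (Subgroup.card_dvd_of_le inf_le_right).trans (dvd_of_eq ?_)
  refine (Nat.card_congr ?_)
  exact
    { toFun := fun z => ⟨g⁻¹ * (z : G) * g, f.mem_X.2 (by
        have h : (z : G) * (g * E.ι f.a₀ * g⁻¹) = g * E.ι f.a₀ * g⁻¹ * (z : G) :=
          ((congrArg ((z : G) * ·) hc'.symm).trans (Subgroup.mem_centralizer_singleton_iff.1 z.2)).trans
            (congrArg (· * (z : G)) hc')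
        calc g⁻¹ * (z : G) * g * E.ι f.a₀ = g⁻¹ * ((z : G) * (g * E.ι f.a₀ * g⁻¹)) * g := by group
          _ = E.ι f.a₀ * (g⁻¹ * (z : G) * g) := by rw [h]; group)⟩
      invFun := fun z => ⟨g * (z : G) * g⁻¹, Subgroup.mem_centralizer_singleton_iff.2 (by
        have h := f.mem_X.1 z.2
        rw [hc']
        calc g * (z : G) * g⁻¹ * (g * E.ι f.a₀ * g⁻¹) = g * ((z : G) * E.ι f.a₀) * g⁻¹ := by group
          _ = _ := by rw [h]; group)⟩
      left_inv := fun z => Subtype.ext (by simp [mul_assoc])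
      right_inv := fun z => Subtype.ext (by simp [mul_assoc]) }

end Fix

end CfsgLib.ReeTypeS3
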