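import Cfsg.Prelude.Def_LocalEven
import Cfsg.Agent.ReeTypeS3.Moved
import Cfsg.Agent.ReeTypeS3.FixedFinal

/-!
# The symmetric group of degree three is involved in every group of Ree type
-/

set_option autoImplicit false
set_option linter.unusedSectionVars false
set_option linter.style.haveILetI false

namespace CfsgLib.ReeTypeS3

open scoped Pointwise commutatorElement

universe u v

variable {G : Type u} [Group G]

/-- An involution inverting an element of order three gives a subgroup isomorphic to `S₃`. -/
theorem involves_of_inverted {s y : G} (hs : s * s = 1) (hy : y ^ 3 = 1)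
    (h : s * y * s⁻¹ = y⁻¹) (hy1 : y ≠ 1) : Cfsg.Involves (Equiv.Perm (Fin 3)) G := by
  have hs1 : s ≠ 1 := fun e => by
    rw [e, one_mul, inv_one, mul_one, eq_inv_iff_mul_eq_one, ← pow_two] at h
    rw [pow_succ, h, one_mul] at hy
    exact hy1 hy
  have hzy : ∀ i : ℤ, y ^ (i % 3) = y ^ i := fun i => by
    conv_rhs => rw [← Int.emod_add_mul_ediv i 3, zpow_add, zpow_mul]
    rw [zpow_ofNat, hy, one_zpow, mul_one]
  have hsy : ∀ i : ℤ, y ^ i * s = s * y ^ (-i) := fun i => by
    have h1 : s * y ^ (-i) * s⁻¹ = y ^ i := by rw [← conj_zpow, h, inv_zpow, ← zpow_neg, neg_neg]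
    rw [← h1, inv_mul_cancel_right]
  let P : ZMod 3 → G := fun i => y ^ (i.val : ℤ)
  have hP : ∀ i j, P i * P j = P (i + j) := fun i j => by
    show y ^ (i.val : ℤ) * y ^ (j.val : ℤ) = y ^ ((i + j).val : ℤ)
    rw [← zpow_add, ZMod.val_add, Int.natCast_emod, ← hzy, Nat.cast_add]
    norm_num
  have hPn : ∀ i, P i * s = s * P (-i) := fun i => by
    show y ^ (i.val : ℤ) * s = s * y ^ (((-i).val : ℕ) : ℤ)
    rw [hsy, ZMod.neg_val', Int.natCast_emod, ← hzy (-(i.val : ℤ)), Nat.cast_sub (ZMod.val_lt i).le]
    congr 2
    push_cast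
    omega
  let f : DihedralGroup 3 →* G :=
    { toFun := fun x => match x with
        | .r i => P i
        | .sr i => s * P i
      map_one' := by show y ^ (((0 : ZMod 3).val : ℕ) : ℤ) = 1; simp
      map_mul' := by
        rintro (i | i) (j | j)
        · exact (hP i j).symm
        · show s * P (j - i) = P i * (s * P j)
          rw [← mul_assoc, hPn, mul_assoc, hP, sub_eq_add_neg, add_comm]
        · show s * P (i + j) = s * P i * P j
          rw [mul_assoc, hP]
        · show P (j - i) = s * P i * (s * P j)
          rw [show s * P i * (s * P j) = s * (P i * s) * P j by group, hPn, ← mul_assoc, hs, one_mul,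
            hP, sub_eq_add_neg, add_comm] }
  have hord : orderOf y = 3 := orderOf_eq_prime hy hy1
  have hinj : Function.Injective f := by
    rw [injective_iff_map_eq_one]
    rintro (i | i) hx
    · change y ^ (i.val : ℤ) = 1 at hx
      rw [zpow_natCast, ← orderOf_dvd_iff_pow_eq_one, hord] at hx
      have h0 : i.val = 0 := Nat.eq_zero_of_dvd_of_lt hx (ZMod.val_lt i)
      rw [(ZMod.val_eq_zero i).1 h0]
      rfl
    · exfalso
      change s * y ^ (i.val : ℤ) = 1 at hx
      rw [zpow_natCast, mul_eq_one_iff_eq_inv] at hx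
      have h3 : s ^ 3 = 1 := by rw [hx, inv_pow, ← pow_mul, mul_comm, pow_mul, hy, one_pow, inv_one]
      rw [pow_succ, pow_two, hs, one_mul] at h3
      exact hs1 h3
  let p : DihedralGroup 3 →* Equiv.Perm (Fin 3) :=
    { toFun := fun x => match x with
        | .r i => finRotate 3 ^ i.val
        | .sr i => Equiv.swap 0 1 * finRotate 3 ^ i.val
      map_one' := by decide
      map_mul' := by decide }
  have hp : Function.Bijective p := by
    constructor <;> unfold Function.Injective at * <;> decide
  refine ⟨f.range, ⊥, by rw [Subgroup.bot_subgroupOf]; infer_instance, ⟨?_⟩⟩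
  exact ((QuotientGroup.quotientMulEquivOfEq (Subgroup.bot_subgroupOf f.range)).trans
    QuotientGroup.quotientBot).trans
      ((MonoidHom.ofInjective hinj).symm.trans (MulEquiv.ofBijective p hp))

/-- The symmetric group of degree three is involved in every finite group of Ree type. -/
theorem involves_s3 [Finite G] (hG : Cfsg.IsReeType G) : Cfsg.Involves (Equiv.Perm (Fin 3)) G := by
  classical
  obtain ⟨hsimple, hnc, t, K, n, hn, ht, hodd, hdp, F, _, _, hq, ⟨e⟩⟩ := hG
  haveI := Fintype.ofFinite G
  haveI := hsimple
  by_contra hnot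
  have hfree : ∀ s y : G, s * s = 1 → y ^ 3 = 1 → s * y * s⁻¹ = y⁻¹ → y = 1 := fun s y hs hy h => by
    by_contra hy1
    exact hnot (involves_of_inverted hs hy h hy1)
  obtain ⟨htC, hKC, hcomm, hinf, hsup⟩ := hdp
  have htt : t * t = 1 := by rw [← pow_two, ← ht]; exact pow_orderOf_eq_one t
  have hnot_mem : t ∉ K := fun h => by
    have : t ∈ Subgroup.zpowers t ⊓ K := ⟨Subgroup.mem_zpowers t, h⟩
    rw [hinf, Subgroup.mem_bot] at this
    rw [this, orderOf_one] at ht
    omega
  let E : Emb G (Matrix.ProjectiveSpecialLinearGroup (Fin 2) F) :=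
    { t := t
      ι := K.subtype.comp e.symm.toMonoidHom
      inj := K.subtype_injective.comp e.symm.injective
      sq := htt
      comm := fun l => hcomm t (Subgroup.mem_zpowers t) _ (e.symm l).2
      notMem := fun l h => hnot_mem (h ▸ (e.symm l).2)
      cent := fun x hx => by
        have hmem : x ∈ Subgroup.zpowers t ⊔ K := by
          rw [hsup, Subgroup.mem_centralizer_singleton_iff]; exact hx
        have hset : (Subgroup.zpowers t : Set G) * (K : Set G) = ↑(Subgroup.zpowers t ⊔ K) := by
          refine (Subgroup.coe_mul_of_left_le_normalizer_right _ _ ?_).symm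
          intro a ha
          rw [Subgroup.mem_normalizer_iff]
          intro b
          constructor
          · intro hb
            rw [hcomm a ha b hb, mul_inv_cancel_right]; exact hb
          · intro hb
            have h2 := hcomm a ha _ hb
            have : a * b * a⁻¹ = b := by
              calc a * b * a⁻¹ = a⁻¹ * (a * (a * b * a⁻¹)) := by group
                _ = a⁻¹ * (a * b * a⁻¹ * a) := by rw [h2]
                _ = b := by group
            rwa [this] at hb
        rw [← SetLike.mem_coe, ← hset] at hmem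
        obtain ⟨a, ⟨i, rfl⟩, b, hb, rfl⟩ := hmem
        refine ⟨e ⟨b, hb⟩, ?_⟩
        rcases Int.even_or_odd i with ⟨j, rfl⟩ | ⟨j, rfl⟩
        · left
          simp [← two_mul, zpow_mul, zpow_ofNat, pow_two, htt]
        · right
          simp [zpow_add, zpow_mul, zpow_ofNat, pow_two, htt] }
  have hperf : commutator G = ⊤ :=
    (IsSimpleGroup.eq_bot_or_eq_top_of_normal (commutator G) inferInstance).resolve_left fun h =>
      hnc ⟨⟨fun a b => by
        have hm : ⁅a, b⁆ ∈ commutator G :=
          Subgroup.commutator_mem_commutator (Subgroup.mem_top a) (Subgroup.mem_top b)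
        rw [h, Subgroup.mem_bot] at hm
        exact commutatorElement_eq_one_iff_mul_comm.1 hm⟩⟩
  have hyp : Hyp E :=
    { perf := hperf
      three := ⟨2 * n + 1, by omega, hq⟩
      mod8 := by rw [hq, pow_succ, pow_mul, Nat.mul_mod, Nat.pow_mod]; norm_num
      odd_index := hodd
      free := hfree }
  obtain ⟨c⟩ := exists_cyc hyp
  obtain ⟨f⟩ := exists_fix hyp c fun a ha => by
    rw [← c.aut_spec hyp ⟨a, ha⟩, aut_eq hyp c ⟨a, ha⟩]
  exact f.absurd_fix hyp

end CfsgLib.ReeTypeS3
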