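import Cfsg.Agent.SL2Tori.Basic
import Cfsg.Agent.SL2Tori.SylowTwo
import Cfsg.Agent.PSL2Borel.Basic
import Cfsg.Agent.Linear.Basic
import Mathlib

/-!
# Unipotent subgroup and tori of `PSL₂(q)`, `q ≡ 3 (mod 4)`

The unipotent subgroup, the images of the tori, their fusion and their normalisers.
-/

set_option autoImplicit false
set_option linter.unusedSectionVars false
set_option linter.style.haveILetI false

namespace CfsgLib.ReeTypeS3

open Matrix
open scoped MatrixGroups

variable {F : Type*} [Field F]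

local notation "PST" => Matrix.ProjectiveSpecialLinearGroup (Fin 2) F
local notation "pr" => SL2Trace.proj (F := F)

theorem pr_mul (g h : SL(2, F)) : pr (g * h) = pr g * pr h :=
  QuotientGroup.mk_mul _ g h

theorem pr_inv (g : SL(2, F)) : pr g⁻¹ = (pr g)⁻¹ :=
  QuotientGroup.mk_inv _ g

theorem pr_eq_iff (g h : SL(2, F)) : pr g = pr h ↔ h = g ∨ h = -g := by
  rw [← inv_mul_eq_one, ← pr_inv, ← pr_mul, SL2Trace.proj_eq_one_iff, inv_mul_eq_iff_eq_mul,
    inv_mul_eq_iff_eq_mul, mul_one, mul_neg, mul_one]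

/-- `x ↦` the image of `(1 x; 0 1)`. -/
noncomputable def uQ : Multiplicative F →* PST :=
  (QuotientGroup.mk' _).comp (LocalEven50.upperHom F)

theorem uQ_apply (x : F) : uQ (Multiplicative.ofAdd x) = pr (LocalEven50.upperHom F (.ofAdd x)) := rfl

theorem coe_upper (x : F) :
    ((LocalEven50.upperHom F (.ofAdd x) : SL(2, F)) : Matrix (Fin 2) (Fin 2) F) = !![1, x; 0, 1] := rfl

theorem uQ_injective : Function.Injective (uQ (F := F)) := by
  intro a b h
  obtain ⟨x, rfl⟩ := Multiplicative.ofAdd.surjective a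
  obtain ⟨y, rfl⟩ := Multiplicative.ofAdd.surjective b
  rw [uQ_apply, uQ_apply, pr_eq_iff] at h
  rcases h with h | h <;>
    have h' := congrArg (fun g : SL(2, F) => (g : Matrix (Fin 2) (Fin 2) F)) h <;>
    simp only [Matrix.SpecialLinearGroup.coe_neg, coe_upper] at h'
  · have := congrFun (congrFun h' 0) 1
    simp at this
    rw [this]
  · have h00 := congrFun (congrFun h' 0) 0
    have h01 := congrFun (congrFun h' 0) 1
    simp at h00 h01
    have hx : y + x = 0 := by rw [h01]; ring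
    rw [show y = x from ?_]
    linear_combination hx - x * h00

/-- The unipotent subgroup. -/
noncomputable def subQ : Subgroup PST := (uQ (F := F)).range

theorem natCard_subQ : Nat.card (subQ (F := F)) = Nat.card F := by
  rw [subQ, ← Nat.card_congr (MonoidHom.ofInjective uQ_injective).toEquiv]
  exact Nat.card_congr Multiplicative.toAdd

/-- Membership in the Borel subgroup. -/
def InB (l : PST) : Prop := ∃ g : SL(2, F), pr g = l ∧ (g : Matrix (Fin 2) (Fin 2) F) 1 0 = 0

theorem inB_conj {l : PST} (hl : InB l) :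
    ∃ a : F, a ≠ 0 ∧ ∀ x : F, l * uQ (.ofAdd x) * l⁻¹ = uQ (.ofAdd (a * a * x)) := by
  obtain ⟨g, rfl, hc⟩ := hl
  refine ⟨(g : Matrix (Fin 2) (Fin 2) F) 0 0, fun h => ?_, fun x => ?_⟩
  · have := SL2Trace.det_eq_one g
    rw [h, hc] at this
    simp at this
  · rw [mul_inv_eq_iff_eq_mul, uQ_apply, uQ_apply, ← pr_mul, ← pr_mul,
      PSL2Borel.conj_upper_of_borel F g hc]

/-- `Q` is a trivial intersection set with normaliser the Borel subgroup. -/
theorem inB_of_conj (h2 : (2 : F) ≠ 0) {l y : PST} (hy : y ∈ subQ (F := F)) (hy1 : y ≠ 1)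
    (h : l * y * l⁻¹ ∈ subQ (F := F)) : InB l := by
  obtain ⟨a, rfl⟩ := hy
  obtain ⟨x, rfl⟩ := Multiplicative.ofAdd.surjective a
  obtain ⟨b, hb⟩ := h
  obtain ⟨z, rfl⟩ := Multiplicative.ofAdd.surjective b
  obtain ⟨g, rfl⟩ := SL2Trace.proj_surjective l
  refine ⟨g, rfl, ?_⟩
  have hx : x ≠ 0 := fun h0 => hy1 (by rw [h0]; exact map_one uQ)
  rw [eq_mul_inv_iff_mul_eq, uQ_apply, uQ_apply, ← pr_mul, ← pr_mul, pr_eq_iff] at hb
  rcases hb with e | e <;>
    have e' := congrArg (fun g : SL(2, F) => (g : Matrix (Fin 2) (Fin 2) F)) e <;>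
    simp only [Matrix.SpecialLinearGroup.coe_neg, Matrix.SpecialLinearGroup.coe_mul, coe_upper] at e'
  · have h11 := congrFun (congrFun e' 1) 1
    simp [Matrix.mul_apply, Fin.sum_univ_two] at h11
    exact h11.resolve_right hx
  · have h10 := congrFun (congrFun e' 1) 0
    simp [Matrix.mul_apply, Matrix.vecMul, dotProduct, Fin.sum_univ_two] at h10
    exact (mul_eq_zero.1 (show (2 : F) * (g : Matrix (Fin 2) (Fin 2) F) 1 0 = 0 by
      linear_combination h10)).resolve_left h2

/-- Elements commuting with `Q` lie in `Q`. -/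
theorem mem_subQ_of_commute (h2 : (2 : F) ≠ 0) {l : PST}
    (h : l * uQ (.ofAdd (1 : F)) * l⁻¹ = uQ (.ofAdd 1)) : l ∈ subQ (F := F) := by
  have h1 : uQ (.ofAdd (1 : F)) ≠ (1 : PST) := fun he =>
    one_ne_zero (α := F) (congrArg Multiplicative.toAdd (uQ_injective (he.trans (map_one uQ).symm)))
  obtain ⟨g, rfl, hc⟩ := inB_of_conj h2 ⟨_, rfl⟩ h1 (by rw [h]; exact ⟨_, rfl⟩)
  have hd := SL2Trace.det_eq_one g
  rw [hc] at hd
  have hh := PSL2Borel.conj_upper_of_borel F g hc 1
  generalize hA0 : (g : Matrix (Fin 2) (Fin 2) F) 0 0 = A at hd hh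
  have hA : A * A = 1 := by
    have h' : pr g * uQ (.ofAdd (1 : F)) * (pr g)⁻¹ = uQ (.ofAdd (A * A * 1)) := by
      rw [mul_inv_eq_iff_eq_mul, uQ_apply, uQ_apply, ← pr_mul, ← pr_mul, hh]
    have := congrArg Multiplicative.toAdd (uQ_injective (h'.symm.trans h))
    simpa using this
  have hD : (g : Matrix (Fin 2) (Fin 2) F) 1 1 = A := by
    have hA1 : A ≠ 0 := fun h0 => by rw [h0, mul_zero] at hA; exact zero_ne_one hA
    exact mul_left_cancel₀ hA1 (by rw [hA]; linear_combination hd)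
  refine ⟨.ofAdd (A * (g : Matrix (Fin 2) (Fin 2) F) 0 1), ?_⟩
  rw [uQ_apply, pr_eq_iff]
  rcases mul_self_eq_one_iff.1 hA with rfl | rfl
  · left
    refine Subtype.ext ?_
    rw [coe_upper]
    ext i j
    fin_cases i <;> fin_cases j <;> simp [hc, hD, hA0]
  · right
    refine Subtype.ext ?_
    rw [Matrix.SpecialLinearGroup.coe_neg, coe_upper]
    ext i j
    fin_cases i <;> fin_cases j <;> simp [hc, hD, hA0]

theorem neg_one_sl_ne_one (h2 : (2 : F) ≠ 0) : (-1 : SL(2, F)) ≠ 1 := by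
  intro h
  have := congrArg (fun g : SL(2, F) => (g : Matrix (Fin 2) (Fin 2) F) 0 0) h
  simp at this
  exact h2 (by linear_combination -this)

/-- A subgroup of `SL₂` containing `-1` has twice the order of its image. -/
theorem natCard_map_pr [Finite F] (h2 : (2 : F) ≠ 0) (Z : Subgroup SL(2, F)) (hZ : (-1 : SL(2, F)) ∈ Z) :
    2 * Nat.card (Z.map (QuotientGroup.mk' (Subgroup.center SL(2, F)))) = Nat.card Z := by
  set f := (QuotientGroup.mk' (Subgroup.center SL(2, F))).comp Z.subtype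
  have hker : Nat.card f.ker = 2 := by
    rw [Nat.card_eq_two_iff' (1 : f.ker)]
    refine ⟨⟨⟨-1, hZ⟩, (SL2Trace.proj_eq_one_iff _).2 (Or.inr rfl)⟩,
      fun h => neg_one_sl_ne_one h2 (congrArg (fun z : f.ker => (z.1.1 : SL(2, F))) h), fun y hy => ?_⟩
    rcases (SL2Trace.proj_eq_one_iff _).1 (show pr (y.1.1) = 1 from y.2) with h | h
    · exact absurd (Subtype.ext (Subtype.ext h)) hy
    · exact Subtype.ext (Subtype.ext h)
  have h := f.ker.card_mul_index
  rw [Subgroup.index_ker, hker] at h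
  rw [← h, MonoidHom.range_comp, Subgroup.range_subtype]

section Finite

variable [Fintype F]

/-- The upper triangular subgroup of `SL₂`. -/
def upperSL : Subgroup SL(2, F) where
  carrier := {g | (g : Matrix (Fin 2) (Fin 2) F) 1 0 = 0}
  one_mem' := by simp
  mul_mem' {a b} ha hb := by
    show ((a * b : SL(2, F)) : Matrix (Fin 2) (Fin 2) F) 1 0 = 0
    simp only [Set.mem_ofPred_eq] at ha hb
    simp [Matrix.mul_apply, Fin.sum_univ_two, ha, hb]
  inv_mem' {a} ha := by
    show ((a⁻¹ : SL(2, F)) : Matrix (Fin 2) (Fin 2) F) 1 0 = 0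
    simp only [Set.mem_ofPred_eq] at ha
    simp [Matrix.adjugate_fin_two, ha]

theorem inB_iff {l : PST} :
    InB l ↔ l ∈ (upperSL (F := F)).map (QuotientGroup.mk' (Subgroup.center SL(2, F))) :=
  ⟨fun ⟨g, hg, hc⟩ => ⟨g, hc, hg⟩, fun ⟨g, hc, hg⟩ => ⟨g, hg, hc⟩⟩

theorem natCard_upperSL : Nat.card (upperSL (F := F)) = Fintype.card F * (Fintype.card F - 1) := by
  classical
  let e : (F × Fˣ) ≃ (upperSL (F := F)) :=
    { toFun := fun p => ⟨⟨!![(p.2 : F), p.1; 0, ((p.2⁻¹ : Fˣ) : F)], by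
        simp [Matrix.det_fin_two]⟩, rfl⟩
      invFun := fun g => ((g.1 : Matrix (Fin 2) (Fin 2) F) 0 1,
        Units.mk0 ((g.1 : Matrix (Fin 2) (Fin 2) F) 0 0) (fun h0 => by
          have := SL2Trace.det_eq_one g.1
          rw [h0, show (g.1 : Matrix (Fin 2) (Fin 2) F) 1 0 = 0 from g.2] at this
          simp at this))
      left_inv := fun p => Prod.ext rfl (Units.ext rfl)
      right_inv := fun g => by
        apply Subtype.ext
        apply Subtype.ext
        have hc : (g.1 : Matrix (Fin 2) (Fin 2) F) 1 0 = 0 := g.2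
        have hd := SL2Trace.det_eq_one g.1
        rw [hc] at hd
        ext i j
        fin_cases i <;> fin_cases j <;> simp [hc]
        have h0 : (g.1 : Matrix (Fin 2) (Fin 2) F) 0 0 ≠ 0 := fun h0 => by simp [h0] at hd
        field_simp
        linear_combination -hd }
  rw [← Nat.card_congr e, Nat.card_prod, Nat.card_units, Nat.card_eq_fintype_card]

theorem two_mul_natCard_inB (h2 : (2 : F) ≠ 0) :
    2 * Nat.card {l : PST // InB l} = Fintype.card F * (Fintype.card F - 1) := by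
  have e : {l : PST // InB l} ≃
      ((upperSL (F := F)).map (QuotientGroup.mk' (Subgroup.center SL(2, F))) : Subgroup PST) :=
    Equiv.subtypeEquivRight fun _ => inB_iff
  rw [Nat.card_congr e, natCard_map_pr h2 _ (show ((-1 : SL(2, F)) : Matrix (Fin 2) (Fin 2) F) 1 0 = 0
    by simp), natCard_upperSL]

/-! ### Tori -/

variable (g : SL(2, F))

/-- The image of a torus. -/
def tor : Subgroup PST :=
  (Subgroup.centralizer ({g} : Set SL(2, F))).map (QuotientGroup.mk' (Subgroup.center SL(2, F)))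

/-- The image of its normaliser. -/
def torN : Subgroup PST :=
  (Subgroup.normalizer ((Subgroup.centralizer ({g} : Set SL(2, F))) : Set SL(2, F))).map
    (QuotientGroup.mk' (Subgroup.center SL(2, F)))

theorem neg_one_mem_centralizer : (-1 : SL(2, F)) ∈ Subgroup.centralizer ({g} : Set SL(2, F)) := by
  rw [Subgroup.mem_centralizer_singleton_iff, neg_one_mul, mul_neg, mul_one]

theorem tor_le_torN : tor g ≤ torN g := Subgroup.map_mono Subgroup.le_normalizer

variable {g} (ht : SL2Tori.tr g ^ 2 ≠ 4)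
include ht

theorem natCard_tor (h2 : (2 : F) ≠ 0) :
    2 * Nat.card (tor g) = Nat.card (Subgroup.centralizer ({g} : Set SL(2, F))) :=
  natCard_map_pr h2 _ (neg_one_mem_centralizer g)

theorem natCard_torN (h2 : (2 : F) ≠ 0) : Nat.card (torN g) = 2 * Nat.card (tor g) := by
  have h := natCard_map_pr h2 _ (Subgroup.le_normalizer (neg_one_mem_centralizer g))
  rw [SL2Tori.card_normalizer ht, ← natCard_tor ht h2] at h
  exact Nat.eq_of_mul_eq_mul_left two_pos h

theorem isCyclic_tor : IsCyclic (tor g) := by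
  haveI := SL2Tori.isCyclic_centralizer ht
  exact isCyclic_of_surjective _
    ((QuotientGroup.mk' (Subgroup.center SL(2, F))).subgroupMap_surjective
      (Subgroup.centralizer ({g} : Set SL(2, F))))

theorem tor_comm {x y : PST} (hx : x ∈ tor g) (hy : y ∈ tor g) : x * y = y * x := by
  obtain ⟨a, ha, rfl⟩ := hx
  obtain ⟨b, hb, rfl⟩ := hy
  rw [← map_mul, ← map_mul, SL2Tori.centralizer_comm (SL2Tori.nonScalar_of_sq_ne_four ht) ha hb]

/-- The tori are trivial intersection sets. -/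
theorem mem_torN_of_conj {u l : PST} (hu : u ∈ tor g) (hu1 : u ≠ 1) (h : l * u * l⁻¹ ∈ tor g) :
    l ∈ torN g := by
  obtain ⟨M, hM, rfl⟩ := hu
  obtain ⟨n, rfl⟩ := SL2Trace.proj_surjective l
  have hns : M.1 ≠ 1 ∧ M.1 ≠ -1 := by
    constructor <;> intro e <;> apply hu1
    · exact (SL2Trace.proj_eq_one_iff M).2 (Or.inl (Subtype.ext e))
    · exact (SL2Trace.proj_eq_one_iff M).2 (Or.inr (Subtype.ext (by
        rw [e, Matrix.SpecialLinearGroup.coe_neg, Matrix.SpecialLinearGroup.coe_one])))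
  obtain ⟨M', hM', e⟩ := h
  have e' : pr (n * M * n⁻¹) = pr M' := by
    rw [pr_mul, pr_mul, pr_inv]
    exact e.symm
  set Z := Subgroup.centralizer ({g} : Set SL(2, F)) with hZ
  have hmem : n * M * n⁻¹ ∈ Z := by
    rcases (pr_eq_iff _ _).1 e' with h | h
    · exact h ▸ hM'
    · rw [← neg_eq_iff_eq_neg.2 h, ← neg_one_mul]
      exact mul_mem (neg_one_mem_centralizer g) hM'
  have hns' : (n * M * n⁻¹).1 ≠ 1 ∧ (n * M * n⁻¹).1 ≠ -1 := by
    constructor <;> intro e
    · apply hns.1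
      have h' : n * M * n⁻¹ = 1 := Subtype.ext e
      rw [conj_eq_one_iff] at h'
      rw [h', Matrix.SpecialLinearGroup.coe_one]
    · apply hns.2
      have h' : n * M * n⁻¹ = -1 := Subtype.ext (by
        rw [e, Matrix.SpecialLinearGroup.coe_neg, Matrix.SpecialLinearGroup.coe_one])
      have : M = -1 := by
        calc M = n⁻¹ * (n * M * n⁻¹) * n := by group
          _ = -1 := by rw [h', mul_neg, mul_one, neg_mul, inv_mul_cancel]
      rw [this, Matrix.SpecialLinearGroup.coe_neg, Matrix.SpecialLinearGroup.coe_one]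
  have hC1 := SL2Tori.centralizer_eq_of_mem ht hM hns.1 hns.2
  have hC2 := SL2Tori.centralizer_eq_of_mem ht hmem hns'.1 hns'.2
  refine ⟨n, Subgroup.mem_normalizer_iff.2 fun N => ?_, rfl⟩
  constructor
  · intro hN
    rw [← hC1, Subgroup.mem_centralizer_singleton_iff] at hN
    rw [← hC2, Subgroup.mem_centralizer_singleton_iff]
    calc n * N * n⁻¹ * (n * M * n⁻¹) = n * (N * M) * n⁻¹ := by group
      _ = n * M * n⁻¹ * (n * N * n⁻¹) := by rw [hN]; group
  · intro hN
    rw [← hC2, Subgroup.mem_centralizer_singleton_iff] at hN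
    rw [← hC1, Subgroup.mem_centralizer_singleton_iff]
    calc N * M = n⁻¹ * (n * N * n⁻¹ * (n * M * n⁻¹)) * n := by group
      _ = M * N := by rw [hN]; group

theorem torN_cases {l : PST} (hl : l ∈ torN g) :
    l ∈ tor g ∨ ∀ u ∈ tor g, l * u * l⁻¹ = u⁻¹ := by
  obtain ⟨n, hn, rfl⟩ := hl
  by_cases hnZ : n ∈ Subgroup.centralizer ({g} : Set SL(2, F))
  · exact Or.inl ⟨n, hnZ, rfl⟩
  · refine Or.inr ?_
    rintro _ ⟨M, hM, rfl⟩
    rw [← map_inv, ← map_mul, ← map_mul,
      SL2Tori.conj_eq_inv ht (SL2Tori.conj_eq_inv_of_normalizer ht hn hnZ) hM, map_inv]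

theorem exists_inverting_tor (h2 : (2 : F) ≠ 0) :
    ∃ w ∈ torN g, w ∉ tor g ∧ w * w = 1 := by
  obtain ⟨n, hn⟩ := SL2Tori.exists_inverting ht
  have hnN := (SL2Tori.mem_normalizer_iff ht).2 (Or.inr hn)
  have hnZ : n ∉ Subgroup.centralizer ({g} : Set SL(2, F)) := fun h => SL2Tori.inv_ne_self ht (by
    rw [← hn, Subgroup.mem_centralizer_singleton_iff.1 h, mul_inv_cancel_right])
  refine ⟨pr n, ⟨n, hnN, rfl⟩, ?_, ?_⟩
  · rintro ⟨m, hm, e⟩
    rcases (pr_eq_iff m n).1 e with h | h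
    · exact hnZ (h ▸ hm)
    · refine hnZ ?_
      rw [h, ← neg_one_mul]
      exact mul_mem (neg_one_mem_centralizer g) hm
  · rw [← pr_mul, SL2Trace.proj_eq_one_iff]
    refine Or.inr (Subtype.ext ?_)
    rw [Matrix.SpecialLinearGroup.coe_mul, SL2Tori.sq_eq_neg_one ht h2 hnN hnZ,
      Matrix.SpecialLinearGroup.coe_neg, Matrix.SpecialLinearGroup.coe_one]

omit ht

theorem two_ne_zero_of_mod (hF : Fintype.card F % 4 = 3) : (2 : F) ≠ 0 :=
  SL2Tori.two_ne_zero_of_odd (Nat.odd_iff.2 (by omega))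

theorem exists_split_tor (hF : Fintype.card F % 4 = 3) (h4 : 4 ≤ Fintype.card F) :
    ∃ g : SL(2, F), SL2Tori.tr g ^ 2 ≠ 4 ∧ 2 * Nat.card (tor g) = Fintype.card F - 1 := by
  obtain ⟨g, ht, l, hl⟩ := SL2Tori.exists_split (F := F) h4
  exact ⟨g, ht, (natCard_tor ht (two_ne_zero_of_mod hF)).trans (SL2Tori.card_centralizer_split ht hl)⟩

/-- The torus of an involution. -/
theorem exists_involution_tor (hF : Fintype.card F % 4 = 3) {i : PST} (hi : i ≠ 1) (hii : i * i = 1) :
    ∃ g : SL(2, F), SL2Tori.tr g ^ 2 ≠ 4 ∧ 2 * Nat.card (tor g) = Fintype.card F + 1 ∧ i ∈ tor g ∧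
      ∀ l : PST, l * i = i * l ↔ l ∈ torN g := by
  have h2 := two_ne_zero_of_mod hF
  obtain ⟨g, rfl⟩ := SL2Trace.proj_surjective i
  have hgg : g.1 * g.1 = -1 := by
    rw [← pr_mul, SL2Trace.proj_eq_one_iff] at hii
    rcases hii with h | h
    · exact absurd ((SL2Trace.proj_eq_one_iff g).2 (SL2Tori.eq_one_or_neg_one_of_sq h2 h)) hi
    · have := congrArg Subtype.val h
      rw [Matrix.SpecialLinearGroup.coe_mul, Matrix.SpecialLinearGroup.coe_neg,
        Matrix.SpecialLinearGroup.coe_one] at this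
      exact this
  have htr := SL2Tori.trace_eq_zero_of_sq h2 hgg
  have h4 : (4 : F) ≠ 0 := by
    rw [show (4 : F) = 2 * 2 by norm_num]
    exact mul_ne_zero h2 h2
  have ht : SL2Tori.tr g ^ 2 ≠ 4 := by rw [htr]; simpa [eq_comm] using h4
  have hno : ∀ m : F, m ^ 2 + SL2Tori.tr g * m + 1 ≠ 0 := by
    intro m hm
    rw [htr] at hm
    have hsq : IsSquare (-1 : F) := ⟨m, by linear_combination -hm⟩
    exact (FiniteField.isSquare_neg_one_iff.1 hsq) hF
  have hgT : pr g ∈ tor g := ⟨g, Subgroup.mem_centralizer_singleton_iff.2 rfl, rfl⟩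
  refine ⟨g, ht, (natCard_tor ht h2).trans (SL2Tori.card_centralizer_nonsplit ht hno), hgT, fun l => ?_⟩
  constructor
  · intro h
    refine mem_torN_of_conj ht hgT hi ?_
    rw [h, mul_inv_cancel_right]
    exact hgT
  · intro hl
    rcases torN_cases ht hl with h | h
    · exact tor_comm ht h hgT
    · have := h _ hgT
      rw [inv_eq_of_mul_eq_one_right hii] at this
      exact mul_inv_eq_iff_eq_mul.1 this

end Finite

end CfsgLib.ReeTypeS3
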