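import Cfsg.Agent.ReeTypeS3.Cycle
import Cfsg.Agent.S0799

/-!
# Subgroups of `PSL₂(3^k)`, `k` odd, with a self-centralising cycled four-group
-/

set_option autoImplicit false
set_option linter.unusedSectionVars false
set_option linter.style.haveILetI false

namespace CfsgLib.ReeTypeS3

open Matrix
open scoped MatrixGroups

universe u v

variable {G : Type u} [Group G] [Fintype G] {F : Type v} [Field F] [Fintype F]

local notation "PST" => Matrix.ProjectiveSpecialLinearGroup (Fin 2) F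

variable {E : Emb G (Matrix.ProjectiveSpecialLinearGroup (Fin 2) F)} (hyp : Hyp E)
include hyp

theorem odd_exp : ∃ k, Odd k ∧ Fintype.card F = 3 ^ k := by
  obtain ⟨k, -, hq⟩ := hyp.three
  refine ⟨k, ?_, hq⟩
  rcases Nat.even_or_odd k with ⟨j, rfl⟩ | h
  · have h8 := hyp.mod8
    rw [hq, ← two_mul, pow_mul, Nat.pow_mod] at h8
    norm_num at h8
  · exact h

/-- The normaliser of a Sylow 3-subgroup of `PSL₂(q)` has odd order. -/
theorem odd_normalizer_sylow (P : Sylow 3 PST) :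
    ¬ 2 ∣ Nat.card (Subgroup.normalizer ((P : Subgroup PST) : Set PST)) := by
  classical
  haveI : Fact (Nat.Prime 3) := ⟨Nat.prime_three⟩
  obtain ⟨k, -, hk⟩ := odd_exp hyp
  have h2 := two_ne hyp
  have h8 := hyp.mod8
  have hL := two_mul_natCard_psl hyp
  have hsq : Fintype.card F ^ 2 - 1 = 2 * ((Fintype.card F ^ 2 - 1) / 2) := by
    have ho : Odd (Fintype.card F) := Nat.odd_iff.2 (by omega)
    obtain ⟨j, hj⟩ := ho.pow (n := 2)
    rw [hj]; omega
  have h3 : ¬ 3 ∣ (Fintype.card F ^ 2 - 1) / 2 := by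
    intro h
    have h' : 3 ∣ Fintype.card F ^ 2 - 1 := hsq ▸ h.mul_left 2
    have hk0 : 3 ∣ Fintype.card F ^ 2 := by
      rw [hk, ← pow_mul]
      refine dvd_pow_self 3 ?_
      intro hz
      rcases mul_eq_zero.1 hz with h0 | h0
      · rw [h0, pow_zero] at hk; omega
      · omega
    have : 1 ≤ Fintype.card F ^ 2 := Nat.one_le_pow _ _ Fintype.card_pos
    omega
  have hcard : Nat.card PST = 3 ^ k * ((Fintype.card F ^ 2 - 1) / 2) := by
    rw [hsq, ← mul_assoc, mul_comm _ 2, mul_assoc, hk] at hL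
    rw [hk]
    exact Nat.eq_of_mul_eq_mul_left two_pos hL
  let P₀ : Sylow 3 PST := Sylow.ofCard (subQ (F := F)) (by
    rw [natCard_subQ, Nat.card_eq_fintype_card, hk]
    exact (Linear.card_sylow_of_card_eq 3 hcard h3 (Classical.arbitrary _)).symm.trans
      (Sylow.card_eq_multiplicity _))
  have hidx : ∀ Q : Sylow 3 PST, Nat.card (Subgroup.normalizer ((Q : Subgroup PST) : Set PST)) *
      Nat.card (Sylow 3 PST) = Nat.card PST := fun Q => by
    rw [Q.card_eq_index_normalizer]; exact Subgroup.card_mul_index _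
  rw [show Nat.card (Subgroup.normalizer ((P : Subgroup PST) : Set PST)) =
      Nat.card (Subgroup.normalizer ((P₀ : Subgroup PST) : Set PST)) from
    Nat.eq_of_mul_eq_mul_right Nat.card_pos ((hidx P).trans (hidx P₀).symm)]
  intro h
  obtain ⟨⟨x, hx⟩, hxo⟩ := exists_prime_orderOf_dvd_card' 2 h
  rw [Subgroup.orderOf_mk] at hxo
  have h1Q : uQ (Multiplicative.ofAdd (1 : F)) ∈ (P₀ : Subgroup PST) := ⟨_, rfl⟩
  have hne : uQ (Multiplicative.ofAdd (1 : F)) ≠ (1 : PST) := fun e =>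
    one_ne_zero (α := F) (congrArg Multiplicative.toAdd (uQ_injective (e.trans (map_one uQ).symm)))
  have hB : InB x := inB_of_conj h2 h1Q hne ((Subgroup.mem_normalizer_iff.1 hx _).1 h1Q)
  have hxB := inB_iff.1 hB
  have hd : orderOf x ∣ Nat.card {l : PST // InB l} := by
    rw [Nat.card_congr (Equiv.subtypeEquivRight fun _ => inB_iff), ← Subgroup.orderOf_mk x hxB]
    exact orderOf_dvd_natCard _
  have hB2 := two_mul_natCard_inB (F := F) h2
  obtain ⟨m, hm⟩ := hd
  rw [hxo] at hm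
  rw [hm] at hB2
  have : Odd (Fintype.card F * ((Fintype.card F - 1) / 2)) :=
    Nat.odd_mul.2 ⟨Nat.odd_iff.2 (by omega), Nat.odd_iff.2 (by omega)⟩
  rw [show Fintype.card F - 1 = 2 * ((Fintype.card F - 1) / 2) by omega,
    mul_left_comm (Fintype.card F)] at hB2
  have := Nat.eq_of_mul_eq_mul_left two_pos hB2
  rw [Nat.odd_iff] at *
  omega

/-- A subgroup of `L` with a self-centralising four-group cycled by an element of itself has order
`12` or `60`. -/
theorem card_eq_of_embedding {J : Subgroup G} (φ : J →* PST) (hφ : Function.Injective φ)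
    {e e₁ v : G} (he : e ∈ J) (hv : v ∈ J)
    (he0 : e ≠ 1) (hee : e * e = 1) (hcomm : e * e₁ = e₁ * e)
    (hne : e₁ ≠ e) (hve : v * e * v⁻¹ = e₁) (hve₁ : v * e₁ * v⁻¹ = e * e₁)
    (hcent : ∀ x ∈ J, x * e = e * x → x = 1 ∨ x = e ∨ x = e₁ ∨ x = e * e₁) :
    Nat.card J = 12 ∨ Nat.card J = 60 := by
  classical
  haveI : Fact (Nat.Prime 3) := ⟨Nat.prime_three⟩
  haveI : Fact (Nat.Prime 2) := ⟨Nat.prime_two⟩
  haveI := charP hyp
  have he₁ : e₁ ∈ J := hve ▸ mul_mem (mul_mem hv he) (inv_mem hv)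
  have hJ4 : Nat.card {x : J // x * ⟨e, he⟩ = ⟨e, he⟩ * x} ≤ 4 := by
    let l : Fin 4 → J := ![1, ⟨e, he⟩, ⟨e₁, he₁⟩, ⟨e, he⟩ * ⟨e₁, he₁⟩]
    refine (Nat.card_mono (Set.finite_range l) ?_).trans ((Finite.card_range_le l).trans (by simp))
    intro x (hx : x * ⟨e, he⟩ = ⟨e, he⟩ * x)
    rcases hcent x x.2 (congrArg Subtype.val hx) with h | h | h | h
    · exact ⟨0, Subtype.ext h.symm⟩
    · exact ⟨1, Subtype.ext h.symm⟩
    · exact ⟨2, Subtype.ext h.symm⟩
    · exact ⟨3, Subtype.ext h.symm⟩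
  have h8 : ¬ 8 ∣ Nat.card J := by
    intro h
    have hp : IsPGroup 2 (Subgroup.zpowers (⟨e, he⟩ : J)) := IsPGroup.of_card (n := 1) (by
      rw [Nat.card_zpowers, Subgroup.orderOf_mk, pow_one]
      exact orderOf_eq_prime ((pow_two e).trans hee) he0)
    obtain ⟨T, hT⟩ := hp.exists_le_sylow
    have hT8 : 8 ∣ Nat.card (T : Subgroup J) := T.pow_dvd_card_of_pow_dvd_card (n := 3) h
    have hle : Nat.card (T : Subgroup J) ≤ 4 := le_trans (Nat.card_le_card_of_injective
      (fun x : (T : Subgroup J) => (⟨x.1, by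
        refine Subtype.ext ?_
        exact (two_group_facts hyp (T.2.map J.subtype) ⟨_, x.2, rfl⟩
          ⟨_, hT (Subgroup.mem_zpowers _), rfl⟩).2⟩ : {x : J // x * ⟨e, he⟩ = ⟨e, he⟩ * x}))
      (fun a b hab => Subtype.ext (Subtype.mk.inj hab))) hJ4
    have := Nat.le_of_dvd Nat.card_pos hT8
    omega
  let χ : J ≃* φ.range := MonoidHom.ofInjective hφ
  rcases Cfsg.Agent.S0799.result (rfl : Fintype.card F = Fintype.card F) 3 φ.range with
    ⟨k, -, hcyc | ⟨⟨f⟩⟩⟩ | ⟨P, K, hK, ⟨f⟩⟩ | ⟨⟨f⟩⟩ | ⟨⟨f⟩⟩ | ⟨⟨f⟩⟩ | ⟨K, _, _, m, hKm, hiso⟩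
  · exfalso
    haveI := hcyc.1
    haveI : IsCyclic J := isCyclic_of_surjective χ.symm χ.symm.surjective
    letI : CommGroup J := IsCyclic.commGroup
    have h := congrArg Subtype.val (mul_comm (⟨v, hv⟩ : J) ⟨e, he⟩)
    simp only [Subgroup.coe_mul] at h
    rw [h, mul_inv_cancel_right] at hve
    exact hne hve.symm
  · exfalso
    let g := χ.trans f
    have hcm : ∀ x y : J, g x * g y = g y * g x → x * y = y * x := fun x y h =>
      g.injective (by rw [map_mul, map_mul, h])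
    have hnc : ∀ (x y : G) (hx : x ∈ J) (hy : y ∈ J), x * y ≠ y * x →
        g ⟨x, hx⟩ * g ⟨y, hy⟩ ≠ g ⟨y, hy⟩ * g ⟨x, hx⟩ := fun x y hx hy h h' =>
      h (congrArg Subtype.val (hcm ⟨x, hx⟩ ⟨y, hy⟩ h'))
    have hve' : v * e ≠ e * v := fun h => hne (by rw [← hve, h, mul_inv_cancel_right])
    have heq₁ : (⟨e₁, he₁⟩ : J) = ⟨v, hv⟩ * ⟨e, he⟩ * ⟨v, hv⟩⁻¹ := Subtype.ext hve.symm
    cases hgv : g ⟨v, hv⟩ with
    | r a =>
      cases hge : g ⟨e, he⟩ with
      | r b => exact hnc v e hv he hve' (by rw [hgv, hge, DihedralGroup.r_mul_r,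
          DihedralGroup.r_mul_r, add_comm])
      | sr b =>
        have hprod : v * (e * e₁) ≠ e * e₁ * v := by
          intro h
          have h' : v * (e * e₁) * v⁻¹ = e * e₁ := by rw [h, mul_inv_cancel_right]
          rw [show v * (e * e₁) * v⁻¹ = v * e * v⁻¹ * (v * e₁ * v⁻¹) by group, hve, hve₁] at h'
          have h1 : e₁ = 1 := mul_left_cancel (a := e * e₁) (by
            rw [mul_one]
            calc e * e₁ * e₁ = e₁ * e * e₁ := by rw [hcomm]
              _ = e₁ * (e * e₁) := mul_assoc _ _ _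
              _ = e * e₁ := h')
          rw [h1, conj_eq_one_iff] at hve
          exact he0 hve
        refine hnc v (e * e₁) hv (mul_mem he he₁) hprod ?_
        rw [show (⟨e * e₁, mul_mem he he₁⟩ : J) = ⟨e, he⟩ * ⟨e₁, he₁⟩ from rfl, heq₁, map_mul,
          map_mul, map_mul, map_inv, hgv, hge]
        simp only [DihedralGroup.inv_r, DihedralGroup.r_mul_sr, DihedralGroup.sr_mul_r,
          DihedralGroup.sr_mul_sr, DihedralGroup.r_mul_r, add_comm]
    | sr a =>
      have h2 : g ⟨v, hv⟩ * g ⟨v, hv⟩ = 1 := by rw [hgv, DihedralGroup.sr_mul_sr, sub_self]; rfl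
      rw [← map_mul, ← map_one g] at h2
      have hvv : v * v = 1 := congrArg Subtype.val (g.injective h2)
      have h : e = e * e₁ := by
        conv_lhs => rw [show e = (v * v) * e * (v * v)⁻¹ by rw [hvv, one_mul, inv_one, mul_one]]
        rw [show (v * v) * e * (v * v)⁻¹ = v * (v * e * v⁻¹) * v⁻¹ by group, hve, hve₁]
      rw [left_eq_mul] at h
      rw [h, conj_eq_one_iff] at hve
      exact he0 hve
  · exfalso
    refine odd_normalizer_sylow hyp P (dvd_trans ?_ (Subgroup.card_dvd_of_le hK))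
    rw [← Nat.card_congr (χ.trans f).toEquiv]
    have := orderOf_dvd_natCard (⟨e, he⟩ : J)
    rwa [Subgroup.orderOf_mk, orderOf_eq_prime ((pow_two e).trans hee) he0] at this
  · left
    rw [Nat.card_congr (χ.trans f).toEquiv, nat_card_alternatingGroup]
    simp [Nat.card_eq_fintype_card, Nat.factorial]
  · refine absurd ?_ h8
    rw [Nat.card_congr (χ.trans f).toEquiv, Nat.card_perm]
    simp [Nat.card_eq_fintype_card, Nat.factorial]
  · right
    rw [Nat.card_congr (χ.trans f).toEquiv, nat_card_alternatingGroup]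
    simp [Nat.card_eq_fintype_card, Nat.factorial]
  · obtain ⟨k, hk, hq⟩ := odd_exp hyp
    rw [hq] at hKm
    have hm0 : m ≠ 0 := fun h0 => by
      rw [h0, pow_zero] at hKm
      obtain ⟨j, rfl⟩ := hk
      have : 3 ≤ 3 ^ (2 * j + 1) := Nat.le_self_pow (by omega) 3
      linarith
    obtain ⟨j, -, hj⟩ := (Nat.dvd_prime_pow Nat.prime_three).1 (hKm ▸ dvd_pow_self (Fintype.card K) hm0)
    have hjo : Odd j := by
      rw [hj, ← pow_mul] at hKm
      rw [← Nat.pow_right_injective (le_refl 3 |>.trans' (by norm_num)) hKm] at hk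
      exact (Nat.odd_mul.1 hk).1
    have hKo : Odd (Fintype.card K) := hj ▸ (show Odd 3 by decide).pow
    rcases hiso with ⟨⟨f⟩⟩ | ⟨⟨f⟩⟩
    · have hc := Linear.card_PSL_two_odd (F := K) hKo
      rw [← Nat.card_congr (χ.trans f).toEquiv, hj] at hc
      rcases (show j = 1 ∨ 2 ≤ j by obtain ⟨a, rfl⟩ := hjo; omega) with rfl | hj2
      · left; omega
      exfalso
      have hK4 : Fintype.card K % 4 = 3 := by
        obtain ⟨a, rfl⟩ := hjo
        rw [hj, pow_succ, pow_mul, Nat.mul_mod, Nat.pow_mod]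
        norm_num
      have hK2 := two_ne_zero_of_mod hK4
      let g := χ.trans f
      obtain ⟨M, hM1, hM2, -, hM4⟩ := exists_involution_tor hK4 (i := g ⟨e, he⟩)
        (fun h => he0 (congrArg Subtype.val (g.injective (h.trans (map_one g).symm))))
        (by rw [← map_mul, ← map_one g]; exact congrArg g (Subtype.ext hee))
      have hle : Nat.card (torN M) ≤ 4 := le_trans (Nat.card_le_card_of_injective
        (fun x : torN M => (⟨g.symm x.1, g.injective (by
          rw [map_mul, map_mul, MulEquiv.apply_symm_apply]; exact (hM4 x.1).2 x.2)⟩ :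
            {x : J // x * ⟨e, he⟩ = ⟨e, he⟩ * x}))
        (fun a b hab => Subtype.ext (g.symm.injective (congrArg (fun y : {x : J // _} => y.1) hab)))) hJ4
      rw [natCard_torN hM1 hK2, hM2, hj] at hle
      have : 3 ^ 2 ≤ 3 ^ j := Nat.pow_le_pow_right (by norm_num) hj2
      omega
    · refine absurd ?_ h8
      rw [Nat.card_congr (χ.trans f).toEquiv, Linear.card_PGL, Linear.card_SL_two]
      obtain ⟨a, ha⟩ := hKo
      have : (2 * a + 1) ^ 2 - 1 = 4 * (a * (a + 1)) := by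
        rw [show (2 * a + 1) ^ 2 = 4 * (a * (a + 1)) + 1 by ring, Nat.add_sub_cancel]
      rw [ha, this]
      obtain ⟨b, hb⟩ := Nat.even_mul_succ_self a
      exact Dvd.dvd.mul_left ⟨b, by omega⟩ _

end CfsgLib.ReeTypeS3
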